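import Groth.Agent.H7Flat.ValFibre
import Groth.Agent.H8Props.FieldDimFibre
import Groth.Agent.H8Props.Devissage.Pieces
import Mathlib

/-!
# Fibre dimensions of the support of a flat module under generization
-/

set_option autoImplicit false
set_option linter.style.haveILetI false
set_option backward.isDefEq.respectTransparency false
set_option maxHeartbeats 1000000

universe u

open CategoryTheory AlgebraicGeometry TensorProduct

attribute [local instance] Algebra.TensorProduct.rightAlgebra

namespace Groth.Agent.H7Flat.Chain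

/-- Nilpotent extensions do not change fibre dimensions. -/
theorem dim_fiber_quotient_nil {R C : Type u} [CommRing R] [CommRing C] [Algebra R C] (J : Ideal C)
    (hJ : J ≤ nilradical C) (y : Spec (CommRingCat.of R)) :
    topologicalKrullDim ((Spec.map (CommRingCat.ofHom (algebraMap R (C ⧸ J)))).fiber y) =
      topologicalKrullDim ((Spec.map (CommRingCat.ofHom (algebraMap R C))).fiber y) := by
  let g := Spec.map (CommRingCat.ofHom (algebraMap R C))
  let g' := Spec.map (CommRingCat.ofHom (algebraMap R (C ⧸ J)))
  let i := Spec.map (CommRingCat.ofHom (Ideal.Quotient.mk J))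
  have hi : i ≫ g = g' := by rw [← Spec.map_comp, ← CommRingCat.ofHom_comp]; rfl
  have hhom : IsHomeomorph i := by
    refine (isHomeomorph_iff_isEmbedding_surjective).mpr
      ⟨(PrimeSpectrum.isClosedEmbedding_comap_of_surjective _ _ Ideal.Quotient.mk_surjective).isEmbedding,
        fun q => ?_⟩
    have hq : q ∈ Set.range (PrimeSpectrum.comap (Ideal.Quotient.mk J)) := by
      rw [_root_.range_comap_of_surjective _ _ Ideal.Quotient.mk_surjective, Ideal.mk_ker]
      exact (PrimeSpectrum.mem_zeroLocus _ _).mpr (hJ.trans (nilradical_le_prime q.asIdeal))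
    exact hq
  let e := hhom.homeomorph i
  have hpre : e ⁻¹' (g ⁻¹' {y}) = g' ⁻¹' {y} := by
    rw [← Set.preimage_comp, ← hi]
    rfl
  let e₁ : g' ⁻¹' {y} ≃ₜ g ⁻¹' {y} := (Homeomorph.setCongr hpre.symm).trans (e.sets rfl)
  let e₂ : g'.fiber y ≃ₜ g.fiber y := ((g'.fiberHomeo y).trans e₁).trans (g.fiberHomeo y).symm
  exact IsHomeomorph.topologicalKrullDim_eq e₂ e₂.isHomeomorph

/-- Field extensions keep modules nonzero. -/
theorem nontrivial_tensor_field {κ K : Type u} [Field κ] [Field K] [Algebra κ K] (M : Type u) [AddCommGroup M]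
    [Module κ M] [Nontrivial M] : Nontrivial (K ⊗[κ] M) :=
  Module.FaithfullyFlat.lTensor_nontrivial _ _ _

/-- The fibre dimensions of the support of a flat module do not drop under generization. -/
theorem dim_fiber_le_of_flat_faithful {A C N : Type u} [CommRing A] [CommRing C] [Algebra A C]
    [Algebra.FiniteType A C] [AddCommGroup N] [Module C N] [Module A N] [IsScalarTower A C N]
    [Module.Finite C N] [Module.Flat A N] (hsupp : Module.annihilator C N ≤ nilradical C)
    {y' y : Spec (CommRingCat.of A)} (h : y' ⤳ y) :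
    topologicalKrullDim ((Spec.map (CommRingCat.ofHom (algebraMap A C))).fiber y) ≤
      topologicalKrullDim ((Spec.map (CommRingCat.ofHom (algebraMap A C))).fiber y') := by
  haveI : LocallyOfFiniteType (Spec.map (CommRingCat.ofHom (algebraMap A C))) := by
    rw [HasRingHomProperty.Spec_iff (P := @LocallyOfFiniteType)]
    exact RingHom.finiteType_algebraMap.mpr ‹_›
  obtain ⟨R, _, _, _, g, hg₁, hg₂⟩ := exists_spec_valuationRing h
  subst hg₁ hg₂
  obtain ⟨φ, rfl⟩ : ∃ φ, Spec.map φ = g := ⟨_, Spec.map_preimage g⟩
  letI : Algebra A R := φ.hom.toAlgebra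
  let CR := R ⊗[A] C
  let NR := CR ⊗[C] N
  have hpo : IsPullback (Spec.map (CommRingCat.ofHom (algebraMap C CR))) (Spec.map (CommRingCat.ofHom (algebraMap R CR)))
      (Spec.map (CommRingCat.ofHom (algebraMap A C))) (Spec.map φ) :=
    isPullback_SpecMap_of_isPushout (CommRingCat.ofHom (algebraMap A C)) φ _ _
      (CommRingCat.isPushout_iff_isPushout.mpr (inferInstance : Algebra.IsPushout A C R CR))
  refine (H8Props.FieldDim.dim_fiber_baseChange _ hpo (IsLocalRing.closedPoint R)).symm.trans_le
    (le_trans ?_ (H8Props.FieldDim.dim_fiber_baseChange _ hpo (genericPoint (Spec (CommRingCat.of R)))).le)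
  haveI : IsScalarTower A C NR := IsScalarTower.of_algebraMap_smul fun (r : A) (z : NR) => by
    rw [← algebraMap_smul CR (algebraMap A C r) z, ← IsScalarTower.algebraMap_apply, algebraMap_smul]
  have hb : IsBaseChange R ((TensorProduct.mk C CR N 1).restrictScalars A) :=
    H8Props.Devissage.isBaseChange_restrict (B := A) (A := C) (B' := R) (A' := CR) (M := N) (M' := NR)
      (TensorProduct.isBaseChange C N CR)
  haveI : Module.Flat R NR := Module.Flat.of_linearEquiv hb.equiv.symm
  let J := Module.annihilator CR NR
  have hJ : J ≤ nilradical CR := fun z hz => by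
    rw [nilradical_eq_sInf, Submodule.mem_sInf]
    intro (Q : Ideal CR) hQ
    haveI : Q.IsPrime := hQ
    let q : PrimeSpectrum C := ⟨Q.comap (algebraMap C CR), inferInstance⟩
    have hq : q ∈ Module.support C N := Module.mem_support_iff_of_finite.mpr
      (hsupp.trans (nilradical_le_prime _))
    let Q' : PrimeSpectrum CR := ⟨Q, hQ⟩
    haveI : Q.LiesOver q.asIdeal := ⟨rfl⟩
    have hQ' : Q' ∈ Module.support CR NR := by
      rw [Module.mem_support_iff_nontrivial_residueField_tensorProduct]
      haveI := (Module.mem_support_iff_nontrivial_residueField_tensorProduct q).mp hq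
      letI : Algebra q.asIdeal.ResidueField Q.ResidueField :=
        (Ideal.ResidueField.mapₐ q.asIdeal Q (Algebra.ofId C CR) rfl).toRingHom.toAlgebra
      haveI : IsScalarTower C q.asIdeal.ResidueField Q.ResidueField := IsScalarTower.of_algebraMap_eq fun r =>
        ((Ideal.ResidueField.mapₐ q.asIdeal Q (Algebra.ofId C CR) rfl).commutes r).symm
      haveI := nontrivial_tensor_field (κ := q.asIdeal.ResidueField) (K := Q.ResidueField) (q.asIdeal.ResidueField ⊗[C] N)
      exact ((AlgebraTensorModule.cancelBaseChange C q.asIdeal.ResidueField Q.ResidueField Q.ResidueField N).toEquiv.trans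
        (AlgebraTensorModule.cancelBaseChange C CR Q.ResidueField Q.ResidueField N).symm.toEquiv).symm.nontrivial
    exact (Module.mem_support_iff_of_finite.mp hQ') hz
  rw [← dim_fiber_quotient_nil J hJ, ← dim_fiber_quotient_nil J hJ]
  haveI : Algebra.FiniteType R (CR ⧸ J) := Algebra.FiniteType.trans (inferInstance : Algebra.FiniteType R CR) inferInstance
  haveI : LocallyOfFiniteType (Spec.map (CommRingCat.ofHom (algebraMap R (CR ⧸ J)))) := by
    rw [HasRingHomProperty.Spec_iff (P := @LocallyOfFiniteType)]
    exact RingHom.finiteType_algebraMap.mpr ‹_›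
  haveI : Module.Flat R (CR ⧸ J) := by
    rw [Module.Flat.flat_iff_torsion_eq_bot_of_isBezout, eq_bot_iff]
    rintro x ⟨⟨r, hr⟩, hrx⟩
    obtain ⟨x, rfl⟩ := Ideal.Quotient.mk_surjective x
    change r • Ideal.Quotient.mk J x = 0 at hrx
    rw [Algebra.smul_def, IsScalarTower.algebraMap_apply R CR (CR ⧸ J), Ideal.Quotient.algebraMap_eq, ← map_mul,
      Ideal.Quotient.eq_zero_iff_mem, Module.mem_annihilator] at hrx
    rw [Submodule.mem_bot, Ideal.Quotient.eq_zero_iff_mem, Module.mem_annihilator]
    intro m
    have h1 := hrx m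
    rw [mul_smul, algebraMap_smul] at h1
    exact (Module.Flat.isSMulRegular_of_isRegular (isRegular_of_ne_zero (nonZeroDivisors.ne_zero hr)) (M := NR))
      (h1.trans (smul_zero r).symm)
  haveI : AlgebraicGeometry.Flat (Spec.map (CommRingCat.ofHom (algebraMap R (CR ⧸ J)))) := by
    rw [HasRingHomProperty.Spec_iff (P := @AlgebraicGeometry.Flat)]
    exact RingHom.flat_algebraMap_iff.mpr ‹_›
  exact dim_closed_le_dim_generic _

end Groth.Agent.H7Flat.Chain
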