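import Groth.Agent.H7Flat.Chain.Point
import Groth.Agent.H8Props.FlatLocus.Module
import Groth.Agent.S1254
import Mathlib

/-!
# Projective modules after etale localization
-/

set_option autoImplicit false
set_option linter.style.haveILetI false
set_option backward.isDefEq.respectTransparency false
set_option maxHeartbeats 1000000

universe u

open TensorProduct

namespace Groth.Agent.H7Flat.Chain

open Groth.Agent.H7Flat.ElemDev Groth.Agent.H8Props.Devissage

/-- A module with a complete dévissage which is flat everywhere is projective near the prime of the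
base. -/
theorem exists_projective_away {R S R' S' : Type u} [CommRing R] [CommRing S] [CommRing R'] [CommRing S']
    [Algebra R S] [Algebra.FinitePresentation R S] [Algebra R R'] [Algebra.Etale R R'] [Algebra S S']
    [Algebra.Etale S S'] [Algebra R' S'] [Algebra R S'] [IsScalarTower R R' S'] [IsScalarTower R S S']
    (N : Type u) [AddCommGroup N] [Module S N] [Module R N] [IsScalarTower R S N]
    [Module.FinitePresentation S N] (p' : Ideal R') [p'.IsPrime]
    (hflat : ∀ (Q : Ideal S') [Q.IsPrime], FlatCA.FlatAt R (Q.comap (algebraMap S S')) N)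
    (h : Subsingleton (S' ⊗[S] N) ∨ Nonempty (FlatCA.CompleteDevissage R' S' (S' ⊗[S] N) p')) :
    ∃ f : R', f ∉ p' ∧
      Module.Projective (Localization.Away f) (LocalizedModule (Submonoid.powers f) (S' ⊗[S] N)) := by
  haveI : Algebra.FinitePresentation R S' := Algebra.FinitePresentation.trans R S S'
  haveI : Algebra.FinitePresentation R' S' :=
    Algebra.FinitePresentation.of_restrict_scalars_finitePresentation R R' S'
  rcases h with h | hne
  · haveI := h
    refine ⟨1, fun h => ‹p'.IsPrime›.ne_top ((Ideal.eq_top_iff_one p').mpr h), ?_⟩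
    haveI : Subsingleton (LocalizedModule (Submonoid.powers (1 : R')) (S' ⊗[S] N)) :=
      subsingleton_of_forall_eq 0 fun x => by
        induction x using LocalizedModule.induction_on with
        | _ m s => rw [Subsingleton.elim m 0, LocalizedModule.zero_mk]
    infer_instance
  · let M := S' ⊗[S] N
    let ψ : N →ₗ[S] M := TensorProduct.mk S S' N 1
    have hψ : IsBaseChange S' ψ := TensorProduct.isBaseChange S N S'
    haveI : IsScalarTower R S M := IsScalarTower.of_algebraMap_smul fun r x => by
      rw [← algebraMap_smul S' (algebraMap R S r) x, ← IsScalarTower.algebraMap_apply, algebraMap_smul]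
    haveI : IsScalarTower R R' M := IsScalarTower.of_algebraMap_smul fun r x => by
      rw [← algebraMap_smul S' (algebraMap R R' r) x, ← IsScalarTower.algebraMap_apply, algebraMap_smul]
    haveI : Module.Flat R M := by
      refine Module.flat_of_isLocalized_maximal S' M (fun Q => LocalizedModule Q.primeCompl M)
        (fun Q => LocalizedModule.mkLinearMap Q.primeCompl M) fun Q hQ => ?_
      exact (H7Flat.FlatAtFinite.flat_localizedModule_flat_iff hψ Q).mp (hflat Q)
    haveI : Module.Flat R' M := Algebra.FormallyUnramified.flat_of_restrictScalars R R' M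
    haveI : Module.FinitePresentation S' M := inferInstance
    obtain ⟨𝒟⟩ := hne
    obtain ⟨f, hf, hproj, -⟩ := Groth.Agent.S1254.result M p' 𝒟
    exact ⟨f, hf, hproj⟩

/-- A flat point of a finitely presented module has etale neighbourhoods over which the module is
projective. -/
theorem exists_etale_projective {R S : Type u} [CommRing R] [CommRing S] [Algebra R S]
    [Algebra.FinitePresentation R S]
    (N : Type u) [AddCommGroup N] [Module S N] [Module R N] [IsScalarTower R S N]
    [Module.FinitePresentation S N] (p : Ideal R) [p.IsPrime] (q : Ideal S) [q.IsPrime] [q.LiesOver p]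
    (hflat : FlatCA.FlatAt R q N) :
    ∃ (R' S' : Type u) (_ : CommRing R') (_ : CommRing S') (_ : Algebra R R') (_ : Algebra S S')
      (_ : Algebra R' S') (_ : Algebra R S') (_ : IsScalarTower R R' S') (_ : IsScalarTower R S S')
      (p' : Ideal R') (q' : Ideal S') (_ : p'.IsPrime) (_ : q'.IsPrime),
      FlatCA.IsEtaleNhd R R' p p' ∧ FlatCA.IsEtaleNhd S S' q q' ∧ q'.LiesOver p' ∧
      Module.Projective R' (RestrictScalars R' S' (S' ⊗[S] N)) := by
  have hU := H8Props.FlatLocus.isOpen_setOf_flat_localizedModule R S N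
  obtain ⟨_, ⟨u, rfl⟩, hu, huU⟩ := PrimeSpectrum.isTopologicalBasis_basic_opens.exists_subset_of_mem_open
    (show (⟨q, ‹_›⟩ : PrimeSpectrum S) ∈ _ from hflat) hU
  obtain ⟨R₁, S₁, _, _, _, _, _, _, _, _, p₁, q₁, _, _, hR, hS, hq₁, hu₁, hd⟩ := exists_piece N p q u hu
  haveI : Algebra.Etale R R₁ := hR.1
  haveI : Algebra.Etale S S₁ := hS.1
  haveI := hq₁
  obtain ⟨f, hf, hproj⟩ := exists_projective_away N p₁ (fun Q _ =>
    huU (show (⟨Q.comap (algebraMap S S₁), inferInstance⟩ : PrimeSpectrum S) ∈ PrimeSpectrum.basicOpen u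
      from fun hm => (inferInstance : Q.IsPrime).ne_top (Ideal.eq_top_of_isUnit_mem _ hm hu₁)))
    (hd.imp id fun h => ⟨h.choose⟩)
  let R' := Localization.Away f
  let p' : Ideal R' := p₁.map (algebraMap R₁ R')
  haveI : p'.IsPrime := isPrime_map_away f p₁ hf
  haveI : p'.LiesOver p₁ := liesOver_map_away f p₁ hf
  have hf₁ : algebraMap R₁ S₁ f ∉ q₁ := fun h => hf (by rw [hq₁.over]; exact h)
  let S' := Localization.Away (algebraMap R₁ S₁ f)
  let q' : Ideal S' := q₁.map (algebraMap S₁ S')
  haveI : q'.IsPrime := isPrime_map_away (algebraMap R₁ S₁ f) q₁ hf₁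
  haveI : q'.LiesOver q₁ := liesOver_map_away (algebraMap R₁ S₁ f) q₁ hf₁
  let φ : R' →+* S' := IsLocalization.Away.lift f (g := (algebraMap S₁ S').comp (algebraMap R₁ S₁))
    (IsLocalization.Away.algebraMap_isUnit (algebraMap R₁ S₁ f))
  letI : Algebra R' S' := φ.toAlgebra
  haveI : IsScalarTower R₁ R' S' := IsScalarTower.of_algebraMap_eq fun r => by
    rw [IsScalarTower.algebraMap_apply R₁ S₁ S']
    exact (IsLocalization.Away.lift_eq (g := (algebraMap S₁ S').comp (algebraMap R₁ S₁)) f
      (IsLocalization.Away.algebraMap_isUnit (algebraMap R₁ S₁ f)) r).symm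
  haveI : IsScalarTower R R' S' := IsScalarTower.of_algebraMap_eq fun r => by
    rw [IsScalarTower.algebraMap_apply R R₁ R', ← IsScalarTower.algebraMap_apply R₁ R' S',
      IsScalarTower.algebraMap_apply R₁ S₁ S', ← IsScalarTower.algebraMap_apply R R₁ S₁,
      ← IsScalarTower.algebraMap_apply R S₁ S']
  haveI : q'.LiesOver p₁ := Ideal.LiesOver.trans q' q₁ p₁
  haveI : q'.LiesOver p' := ⟨by
    rw [Ideal.under_def]
    conv_lhs => rw [show p' = (p₁.map (algebraMap R₁ R')) from rfl]
    refine (congrArg _ (q'.over_def p₁)).trans ?_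
    rw [Ideal.under_def, IsScalarTower.algebraMap_eq R₁ R' S', ← Ideal.comap_comap]
    exact IsLocalization.map_under (Submonoid.powers f) R' _⟩
  refine ⟨R', S', _, _, _, _, _, _, inferInstance, inferInstance, p', q', ‹_›, ‹_›,
    isEtaleNhd_comp hR (isEtaleNhd_away f hf), isEtaleNhd_comp hS (isEtaleNhd_away _ hf₁), ‹_›, ?_⟩
  -- compare with the localization
  let M := S' ⊗[S] N
  haveI : IsScalarTower R₁ R' M := IsScalarTower.of_algebraMap_smul fun (r : R₁) (x : M) => by
    rw [← algebraMap_smul S' (algebraMap R₁ R' r) x, ← IsScalarTower.algebraMap_apply, algebraMap_smul]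
  let W := LocalizedModule (Submonoid.powers (algebraMap R₁ S₁ f)) (S₁ ⊗[S] N)
  let e : W ≃ₗ[S'] M := LocalizedModule.equivTensorProduct _ _ ≪≫ₗ
    AlgebraTensorModule.cancelBaseChange S S₁ S' S' N
  let g : (S₁ ⊗[S] N) →ₗ[R₁] M :=
    (e.restrictScalars R₁).toLinearMap ∘ₗ
      (LocalizedModule.mkLinearMap (Submonoid.powers (algebraMap R₁ S₁ f)) (S₁ ⊗[S] N)).restrictScalars R₁
  have h1 : ∀ t ∈ Submonoid.powers f, algebraMap R₁ S₁ t ∈ Submonoid.powers (algebraMap R₁ S₁ f) := by
    rintro _ ⟨k, rfl⟩
    exact ⟨k, by simp [map_pow]⟩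
  have h2 : ∀ c ∈ Submonoid.powers (algebraMap R₁ S₁ f), ∃ t ∈ Submonoid.powers f, c ∣ algebraMap R₁ S₁ t := by
    rintro _ ⟨k, rfl⟩
    exact ⟨f ^ k, ⟨k, rfl⟩, by simp [map_pow]⟩
  haveI : IsLocalizedModule (Submonoid.powers f) ((LocalizedModule.mkLinearMap
      (Submonoid.powers (algebraMap R₁ S₁ f)) (S₁ ⊗[S] N)).restrictScalars R₁) := by
    exact @H7Flat.DevissageFP.isLocalizedModule_comap R₁ S₁ (S₁ ⊗[S] N) W _ _ _ _ _ _ _ _ _ _ _
      (Submonoid.powers f) (Submonoid.powers (algebraMap R₁ S₁ f)) h1 h2
      (LocalizedModule.mkLinearMap (Submonoid.powers (algebraMap R₁ S₁ f)) (S₁ ⊗[S] N)) inferInstance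
  haveI : IsLocalizedModule (Submonoid.powers f) g := IsLocalizedModule.of_linearEquiv _ _ _
  have e' := LinearEquiv.extendScalarsOfIsLocalization (Submonoid.powers f) R'
    (IsLocalizedModule.iso (Submonoid.powers f) g)
  haveI := hproj
  haveI : Module.Projective R' M := Module.Projective.of_equiv e'
  exact Module.Projective.of_equiv (M := M)
    ({ (RestrictScalars.addEquiv R' S' M).symm with
      map_smul' := fun a x => by
        apply (RestrictScalars.addEquiv R' S' M).injective
        show RestrictScalars.addEquiv R' S' M ((RestrictScalars.addEquiv R' S' M).symm (a • x)) =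
          RestrictScalars.addEquiv R' S' M (a • (RestrictScalars.addEquiv R' S' M).symm x)
        rw [RestrictScalars.addEquiv_map_smul, AddEquiv.apply_symm_apply, AddEquiv.apply_symm_apply,
          algebraMap_smul] } : M ≃ₗ[R'] RestrictScalars R' S' M)

end Groth.Agent.H7Flat.Chain
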