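import Groth.Agent.H7Flat.ElemDev.Exists
import Groth.Agent.H8Props.Devissage.BaseChange
import Groth.Agent.H8Props.Devissage.LocalFibre
import Mathlib

/-!
# Neighbourhoods with geometrically irreducible fibres after an etale base change
-/

set_option autoImplicit false
set_option linter.style.haveILetI false
set_option backward.isDefEq.respectTransparency false
set_option maxHeartbeats 1000000

universe u

open TensorProduct

attribute [local instance] Algebra.TensorProduct.rightAlgebra

namespace Groth.Agent.H7Flat.Chain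

open Groth.Agent.H7Flat.ElemDev

/-- A localization at a product as a localization of the localization at a factor. -/
theorem away_image {T W T' : Type u} [CommRing T] [CommRing W] [CommRing T'] [Algebra T W] [Algebra T T']
    [Algebra W T'] [IsScalarTower T W T'] (u w : T) [IsLocalization.Away u W]
    [IsLocalization.Away (u * w) T'] : IsLocalization.Away (algebraMap T W w) T' := by
  let L := Localization.Away (algebraMap T W w)
  haveI : IsLocalization.Away (u * w) L := IsLocalization.Away.mul' W L u w
  let e : L ≃ₐ[T] T' := IsLocalization.algEquiv (Submonoid.powers (u * w)) L T'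
  have he : e.toRingEquiv.toRingHom.comp (algebraMap W L) = algebraMap W T' := by
    refine IsLocalization.ringHom_ext (Submonoid.powers u) (RingHom.ext fun t => ?_)
    show e (algebraMap W L (algebraMap T W t)) = algebraMap W T' (algebraMap T W t)
    rw [← IsScalarTower.algebraMap_apply, AlgEquiv.commutes, ← IsScalarTower.algebraMap_apply]
  let e' : L ≃ₐ[W] T' := { e.toRingEquiv with commutes' := fun x => RingHom.congr_fun he x }
  exact IsLocalization.isLocalization_of_algEquiv _ e'

open AlgebraicGeometry CategoryTheory in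
/-- Geometric irreducibility of fibres is invariant under isomorphisms. -/
theorem geomIrredFibres_of_equiv {R D D' : Type u} [CommRing R] [CommRing D] [CommRing D'] [Algebra R D]
    [Algebra R D'] (e : D ≃ₐ[R] D') (h : FlatCA.GeomIrredFibres R D) : FlatCA.GeomIrredFibres R D' := by
  let i := (CommRingCat.ofHom e.toAlgHom.toRingHom)
  haveI : IsIso i := (e.toRingEquiv.toCommRingCatIso).isIso_hom
  have hc : Spec.map i ≫ Spec.map (CommRingCat.ofHom (algebraMap R D)) =
      Spec.map (CommRingCat.ofHom (algebraMap R D')) := by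
    rw [← Spec.map_comp]
    congr 1
    exact CommRingCat.hom_ext (RingHom.ext fun r => e.commutes r)
  show GeometricallyIrreducible _
  rw [← hc]
  exact (MorphismProperty.cancel_left_of_respectsIso @GeometricallyIrreducible (Spec.map i) _).mpr h

/-- A point with purely transcendental residue field has, after an etale neighbourhood of the base, a
neighbourhood with geometrically irreducible fibres. -/
theorem exists_geomIrred_shrink {R D : Type u} [CommRing R] [CommRing D] [Algebra R D]
    [Algebra.Smooth R D] (p : Ideal R) [p.IsPrime] (y : Ideal D) [y.IsPrime] [hyp : y.LiesOver p]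
    (hpt : FlatCA.PurelyTranscendental p y) :
    ∃ (R₂ : Type u) (_ : CommRing R₂) (_ : Algebra R R₂) (p₂ : Ideal R₂) (_ : p₂.IsPrime)
      (y₂ : Ideal (R₂ ⊗[R] D)) (_ : y₂.IsPrime) (u : R₂ ⊗[R] D),
      FlatCA.IsEtaleNhd R R₂ p p₂ ∧
      y₂.comap (Algebra.TensorProduct.includeLeftRingHom : R₂ →+* R₂ ⊗[R] D) = p₂ ∧
      y₂.comap (Algebra.TensorProduct.includeRight (R := R) (A := R₂) (B := D)).toRingHom = y ∧
      u ∉ y₂ ∧ FlatCA.GeomIrredFibres R₂ (Localization.Away u) := by
  classical
  have hac₀ : ∀ b : y.ResidueField,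
      ((Ideal.ResidueField.mapₐ p y (Algebra.ofId R D) hyp.over).toRingHom).IsIntegralElem b →
      b ∈ ((Ideal.ResidueField.mapₐ p y (Algebra.ofId R D) hyp.over).toRingHom).range := by
    intro b hb
    letI := (Ideal.ResidueField.mapₐ p y (Algebra.ofId R D) hyp.over).toRingHom.toAlgebra
    obtain ⟨ι, x, hx, htop⟩ := hpt
    refine mem_range_of_isIntegral x hx.1 b ?_ hb
    have hb' : b ∈ IntermediateField.adjoin p.ResidueField (Set.range x) := htop ▸ IntermediateField.mem_top
    rw [IntermediateField.mem_adjoin_range_iff] at hb'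
    obtain ⟨P, Q, rfl⟩ := hb'
    by_cases hQ : MvPolynomial.aeval x Q = 0
    · exact ⟨0, 1, by simp, by simp [hQ]⟩
    · exact ⟨P, Q, hQ, div_mul_cancel₀ _ hQ⟩
  obtain ⟨a, hay, hconn₀⟩ := exists_connected_nbhd p y
  let Da := Localization.Away a
  haveI : Algebra.Smooth R Da := Algebra.Smooth.comp R D Da
  have hdisja : Disjoint (Submonoid.powers a : Set D) y := by
    rw [Set.disjoint_left]
    rintro _ ⟨k, rfl⟩ h
    exact hay (‹y.IsPrime›.mem_of_pow_mem k h)
  let ya := y.map (algebraMap D Da)
  haveI : ya.IsPrime := IsLocalization.isPrime_of_isPrime_disjoint (Submonoid.powers a) Da y ‹_› hdisja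
  have hyac : ya.comap (algebraMap D Da) = y :=
    IsLocalization.under_map_of_isPrime_disjoint (Submonoid.powers a) Da ‹_› hdisja
  have hyap : p = ya.comap (algebraMap R Da) := by
    rw [IsScalarTower.algebraMap_eq R D Da, ← Ideal.comap_comap, hyac]
    exact hyp.over
  haveI : ya.LiesOver p := ⟨hyap⟩
  have hfa : FracSurj (algebraMap D Da) ya := fracSurj_of_isLocalization (Submonoid.powers a) Da ya
  have haca := algClosed_transfer _ _ (bijective_of_fracSurj hyac.symm hfa).2 _
    (mapₐ_comp p y ya hyp.over hyac.symm hyap) hac₀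
  let x₀ : PrimeSpectrum (p.Fiber Da) :=
    ⟨FlatCA.fiberIdeal p ya, H8Props.Devissage.isPrime_fiberIdeal p ya⟩
  haveI : x₀.asIdeal.IsPrime := x₀.isPrime
  have hx₀c : ya = x₀.asIdeal.comap (algebraMap Da (p.Fiber Da)) :=
    (H8Props.Devissage.comap_fiberIdeal p ya).symm
  have hfx : FracSurj (algebraMap Da (p.Fiber Da)) x₀.asIdeal := by
    refine fracSurj_of_generated (algebraMap R p.ResidueField) (algebraMap R Da)
      (Algebra.TensorProduct.includeLeftRingHom : p.ResidueField →+* p.Fiber Da)
      (algebraMap Da (p.Fiber Da)) (RingHom.ext fun r => ?_) (closure_range_tensor R p.ResidueField Da) _ ?_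
    · show (algebraMap R p.ResidueField r) ⊗ₜ[R] (1 : Da) = (1 : p.ResidueField) ⊗ₜ[R] algebraMap R Da r
      rw [Algebra.algebraMap_eq_smul_one, Algebra.algebraMap_eq_smul_one, TensorProduct.smul_tmul]
    · have h := Ideal.comap_ne_top (Algebra.TensorProduct.includeLeftRingHom : p.ResidueField →+* p.Fiber Da)
        x₀.isPrime.ne_top
      rw [(Ideal.eq_bot_or_top _).resolve_right h]
      exact fracSurj_residueField p
  have hacx : ∀ b : x₀.asIdeal.ResidueField,
      ((algebraMap (p.Fiber Da) x₀.asIdeal.ResidueField).comp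
        (algebraMap p.ResidueField (p.Fiber Da))).IsIntegralElem b →
      b ∈ ((algebraMap (p.Fiber Da) x₀.asIdeal.ResidueField).comp
        (algebraMap p.ResidueField (p.Fiber Da))).range := by
    refine algClosed_transfer _ _ (bijective_of_fracSurj hx₀c hfx).2 _ ?_ haca
    refine Ideal.ResidueField.ringHom_ext (RingHom.ext fun r => ?_)
    show Ideal.ResidueField.mapₐ ya x₀.asIdeal (Algebra.ofId Da (p.Fiber Da)) hx₀c
      (Ideal.ResidueField.mapₐ p ya (Algebra.ofId R Da) hyap (algebraMap R p.ResidueField r)) =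
      algebraMap (p.Fiber Da) x₀.asIdeal.ResidueField
        (algebraMap p.ResidueField (p.Fiber Da) (algebraMap R p.ResidueField r))
    rw [AlgHom.commutes, IsScalarTower.algebraMap_apply R Da ya.ResidueField, AlgHom.commutes,
      IsScalarTower.algebraMap_apply Da (p.Fiber Da) x₀.asIdeal.ResidueField]
    refine congrArg _ ?_
    show (1 : p.ResidueField) ⊗ₜ[R] algebraMap R Da r = (algebraMap R p.ResidueField r) ⊗ₜ[R] (1 : Da)
    rw [Algebra.algebraMap_eq_smul_one, Algebra.algebraMap_eq_smul_one, TensorProduct.smul_tmul]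
  haveI := hconn₀
  obtain ⟨R₂, _, _, p₂, _, y₂, _, h, hR₂, hy₂p, hy₂y, hhy, hgi⟩ :=
    exists_geomIrred_nbhd (R := R) (D := Da) p ya fun K _ _ => connectedSpace_of_comp x₀ hacx K
  -- back to `R₂ ⊗ D`
  let T := R₂ ⊗[R] D
  let Ta := R₂ ⊗[R] Da
  let φ : T →ₐ[R₂] Ta := Algebra.TensorProduct.map (AlgHom.id R₂ R₂) (IsScalarTower.toAlgHom R D Da)
  letI : Algebra T Ta := φ.toRingHom.toAlgebra
  haveI : IsScalarTower R₂ T Ta := IsScalarTower.of_algebraMap_eq fun r => (φ.commutes r).symm
  letI : Algebra D Ta := ((algebraMap Da Ta).comp (algebraMap D Da)).toAlgebra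
  haveI : IsScalarTower D Da Ta := IsScalarTower.of_algebraMap_eq fun _ => rfl
  haveI : IsScalarTower D T Ta := IsScalarTower.of_algebraMap_eq fun d => by
    show (1 : R₂) ⊗ₜ[R] algebraMap D Da d = φ ((1 : R₂) ⊗ₜ[R] d)
    rfl
  haveI hpush : Algebra.IsPushout D T Da Ta := H8Props.Devissage.isPushout_middle R D Da R₂ T Ta
  haveI hloc : IsLocalization.Away (algebraMap D T a) Ta := by
    have := (Algebra.isLocalization_iff_isPushout (R := D) (T := T) (Submonoid.powers a) Da (B := Ta)).mpr hpush
    rwa [Algebra.algebraMapSubmonoid, Submonoid.map_powers] at this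
  obtain ⟨k, t, ht⟩ := IsLocalization.Away.surj (algebraMap D T a) h
  let yT : Ideal T := y₂.comap φ.toRingHom
  haveI : yT.IsPrime := Ideal.IsPrime.comap _
  have haT : algebraMap D T a ∉ yT := fun hm => y₂.ne_top_iff_one.mp ‹y₂.IsPrime›.ne_top <| by
    have := Ideal.eq_top_of_isUnit_mem y₂ hm (IsLocalization.Away.algebraMap_isUnit (S := Ta) (algebraMap D T a))
    rw [this]; trivial
  have htT : t ∉ yT := fun hm => by
    have hm' : h * algebraMap T Ta (algebraMap D T a) ^ k ∈ y₂ := by rw [ht]; exact hm
    rcases ‹y₂.IsPrime›.mem_or_mem hm' with h' | h'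
    · exact hhy h'
    · exact haT (‹y₂.IsPrime›.mem_of_pow_mem k h')
  refine ⟨R₂, _, _, p₂, ‹_›, yT, ‹_›, algebraMap D T a * t, hR₂, ?_, ?_,
    fun hm => (‹yT.IsPrime›.mem_or_mem hm).elim haT htT, ?_⟩
  · rw [← hy₂p, Ideal.comap_comap]
    congr 1
    ext r
    show φ (r ⊗ₜ[R] (1 : D)) = r ⊗ₜ[R] (1 : Da)
    show r ⊗ₜ[R] algebraMap D Da 1 = _; rw [map_one]
  · rw [Ideal.comap_comap, show φ.toRingHom.comp (Algebra.TensorProduct.includeRight (R := R) (A := R₂) (B := D)).toRingHom =
      (Algebra.TensorProduct.includeRight (R := R) (A := R₂) (B := Da)).toRingHom.comp (algebraMap D Da) from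
      RingHom.ext fun d => by show φ ((1 : R₂) ⊗ₜ[R] d) = (1 : R₂) ⊗ₜ[R] algebraMap D Da d; rfl, ← Ideal.comap_comap, hy₂y, hyac]
  · let W := Localization.Away h
    haveI : IsLocalization.Away (algebraMap T Ta t) W := by
      refine (IsLocalization.Away.iff_of_associated ?_).mp (inferInstance : IsLocalization.Away h W)
      exact ⟨((IsLocalization.Away.algebraMap_isUnit (S := Ta) (algebraMap D T a)).pow k).unit, ht⟩
    haveI : IsLocalization.Away (algebraMap D T a * t) W :=
      IsLocalization.Away.mul' Ta W (algebraMap D T a) t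
    exact geomIrredFibres_of_equiv
      ((IsLocalization.algEquiv (Submonoid.powers (algebraMap D T a * t)) W
        (Localization.Away (algebraMap D T a * t))).restrictScalars R₂) hgi

end Groth.Agent.H7Flat.Chain
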