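import Groth.Agent.H8Props.Devissage.ShrinkField

/-!
# Shrinking a complete dévissage of a module over a smooth algebra, surjecting onto the base
-/

set_option autoImplicit false
set_option linter.style.haveILetI false

universe u

namespace Groth.Agent.H7Flat.Chain

open Groth.Agent.H8Props.Devissage

/-- A shrinking inside a given neighbourhood whose open of the smooth algebra surjects onto the base. -/
theorem hcd_shrink {R S : Type u} [CommRing R] [CommRing S] [Algebra R S] [Algebra.Smooth R S]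
    {N : Type u} [AddCommGroup N] [Module S N] [Module.Finite S N] {p : Ideal R} [p.IsPrime]
    {q : Ideal S} [q.IsPrime] [q.LiesOver p] (h : FlatCA.HasCompleteDevissageAt R S N p q)
    {u : S} (hu : u ∉ q) :
    ∃ (g : R) (hX : S), g ∉ p ∧ hX ∉ q ∧ u ∣ hX ∧ algebraMap R S g ∣ hX ∧
      ∃ (_ : Algebra (Localization.Away g) (Localization.Away hX))
        (_ : IsScalarTower R (Localization.Away g) (Localization.Away hX))
        (_ : (p.map (algebraMap R (Localization.Away g))).IsPrime)
        (_ : (q.map (algebraMap S (Localization.Away hX))).IsPrime),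
        Function.Surjective (PrimeSpectrum.comap
          (algebraMap (Localization.Away g) (Localization.Away hX))) ∧
        FlatCA.HasCompleteDevissageAt (Localization.Away g) (Localization.Away hX)
          (LocalizedModule (Submonoid.powers hX) N) (p.map (algebraMap R (Localization.Away g)))
          (q.map (algebraMap S (Localization.Away hX))) := by
  classical
  obtain ⟨𝒟, ⟨𝒜⟩⟩ := h
  have := 𝒜.hqA
  obtain ⟨f, hf, hfu, hff⟩ := exists_forward 𝒜 hu
  obtain ⟨c, hc, hfc, hlast, hnext⟩ := exists_backward 𝒜 f hf hff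
  obtain ⟨g₁, hg₁, hcov₁⟩ := exists_base 𝒜 c hc
  obtain ⟨s, hs⟩ := 𝒟.surjSA (algebraMap (𝒟.B 0) (𝒟.A 0) (c 0))
  have hw : u * s ∉ q := fun hm => by
    rcases (Ideal.IsPrime.mem_or_mem ‹q.IsPrime› hm) with hm | hm
    · exact hu hm
    · rw [← 𝒜.q0, Ideal.mem_comap, hs] at hm
      exact notMem_qA_of_notMem 𝒜 0 (hc 0 𝒟.pos) hm
  obtain ⟨g₂, hg₂, hcov₂⟩ := exists_forall_mem_image p q hw
  let g : R := g₁ * g₂
  have hg : g ∉ p := fun hm => (Ideal.IsPrime.mem_or_mem ‹p.IsPrime› hm).elim hg₁ hg₂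
  have hcov : ∀ i, i < 𝒟.n → ∀ x : PrimeSpectrum R, g ∉ x.asIdeal →
      ∃ Q : PrimeSpectrum (𝒟.B i), c i ∉ Q.asIdeal ∧
        PrimeSpectrum.comap (algebraMap R (𝒟.B i)) Q = x :=
    fun i hi x hx => hcov₁ i hi x fun hm => hx (x.asIdeal.mul_mem_right g₂ hm)
  let hX : S := u * s * algebraMap R S g
  have : SH.Shrinks 𝒟 c := ⟨hnext⟩
  have : SH.Covers 𝒟 g c := ⟨hcov⟩
  have : SH.Avoids 𝒟 𝒜 g c := ⟨hg, hc⟩
  have hXA : algebraMap S (𝒟.A 0) hX = algebraMap S (𝒟.A 0) u * SH.a 𝒟 g c 0 := by
    simp only [hX, SH.a, SH.b, map_mul, hs, ← IsScalarTower.algebraMap_apply, mul_assoc]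
  have hu_dvd : algebraMap S (𝒟.A 0) u ∣ SH.a 𝒟 g c 0 :=
    (hfu.trans (map_dvd _ (hfc 0))).trans (map_dvd _ (dvd_mul_right _ _))
  have : SH.Start 𝒟 g c hX := ⟨fun P => by
    rw [hXA]
    exact ⟨fun h => (P.isPrime.mem_or_mem h).elim (P.asIdeal.mem_of_dvd hu_dvd) id,
      fun h => P.asIdeal.mul_mem_left _ h⟩⟩
  have hXq : hX ∉ q := fun hm => by
    rcases Ideal.IsPrime.mem_or_mem ‹q.IsPrime› hm with hm | hm
    · exact hw hm
    · exact hg (by rw [q.over_def p]; exact hm)
  let iX : Algebra (Localization.Away g) (Localization.Away hX) := (IsLocalization.Away.lift g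
    (isUnit_map_of_dvd (B₁ := Localization.Away hX) g hX (dvd_mul_left _ _))).toAlgebra
  have tX : IsScalarTower R (Localization.Away g) (Localization.Away hX) :=
    IsScalarTower.of_algebraMap_eq fun r => (IsScalarTower.algebraMap_apply R S _ r).trans
      (IsLocalization.Away.lift_eq g
        (isUnit_map_of_dvd (B₁ := Localization.Away hX) g hX (dvd_mul_left _ _)) r).symm
  have hp₁ := isPrime_map_away (S₁ := Localization.Away g) g p hg
  have := liesOver_map_away (S₁ := Localization.Away g) g p hg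
  have hq₁ := isPrime_map_away (S₁ := Localization.Away hX) hX q hXq
  let := SH.fieldAlgebra 𝒟 𝒜 g c
  let := SH.fieldPoint 𝒟 𝒜 g c
  have := SH.fieldLiesOver 𝒟 𝒜 g c
  let K := SH.LastField 𝒟 𝒜
  have : IsLocalization.Away (u * s * algebraMap R S g) (Localization.Away hX) :=
    inferInstanceAs (IsLocalization.Away hX (Localization.Away hX))
  refine ⟨g, hX, hg, hXq, (dvd_mul_right u s).trans (dvd_mul_right _ _), dvd_mul_left _ _, iX, tX, hp₁,
    hq₁, surjective_comap_away g (u * s) fun x hx => hcov₂ x fun hm => hx (x.asIdeal.mul_mem_left g₁ hm),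
    SH.devissage 𝒟 g c hX K (p.map (algebraMap R (Localization.Away g))),
    ⟨SH.devissageAt 𝒟 𝒜 g c hX K (p.map (algebraMap R (Localization.Away g)))⟩⟩

end Groth.Agent.H7Flat.Chain
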