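import Groth.Agent.H8Props.Devissage.Pieces
import Groth.Agent.H8Props.Devissage.LocalFibre
import Groth.Agent.H8Props.FieldDimSmooth
import Groth.Agent.H8Props.FieldDimEquidim
import Groth.Agent.H1CAlg.LocalDim
import Mathlib

/-!
# Local dimensions of supports in fibres, for dévissages
-/

set_option autoImplicit false
set_option linter.style.haveILetI false
set_option backward.isDefEq.respectTransparency false
set_option maxHeartbeats 1000000

universe u

open TensorProduct

attribute [local instance] Algebra.TensorProduct.rightAlgebra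

namespace Groth.Agent.H7Flat.Chain

open Groth.Agent.H8Props.Devissage

section Field

variable {k A : Type u} [Field k] [CommRing A] [Algebra k A] [Algebra.FiniteType k A]
  (M : Type u) [AddCommGroup M] [Module A M] [Module.Finite A M]

include k

/-- The local dimension of the support at a point is the largest dimension of a point generizing it. -/
theorem localDim_supp (x : PrimeSpectrum A) (hx : x ∈ Module.support A M) :
    FlatMor.localDim (Module.support A M) ⟨x, hx⟩ =
      ⨆ Q : {Q : PrimeSpectrum A // Q ∈ Module.support A M ∧ Q ≤ x}, ringKrullDim (A ⧸ Q.1.asIdeal) := by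
  let J := Module.annihilator A M
  let mk := Ideal.Quotient.mk J
  have hemb : Topology.IsClosedEmbedding (PrimeSpectrum.comap mk) :=
    PrimeSpectrum.isClosedEmbedding_comap_of_surjective _ _ Ideal.Quotient.mk_surjective
  have hr : Set.range (PrimeSpectrum.comap mk) = Module.support A M := by
    rw [range_comap_of_surjective _ _ Ideal.Quotient.mk_surjective, Ideal.mk_ker,
      Module.support_eq_zeroLocus]
  let e : PrimeSpectrum (A ⧸ J) ≃ₜ Module.support A M :=
    hemb.isEmbedding.toHomeomorph.trans (Homeomorph.setCongr hr)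
  haveI : Algebra.FiniteType k (A ⧸ J) :=
    Algebra.FiniteType.trans (R := k) (S := A) inferInstance inferInstance
  obtain ⟨x', hx'⟩ := e.surjective ⟨x, hx⟩
  have hx'' : PrimeSpectrum.comap mk x' = x := congrArg Subtype.val hx'
  rw [← hx', localDim_homeomorph, H1CAlg.localDim_spec_eq_iSup (k := k)]
  have hdim : ∀ Q : PrimeSpectrum (A ⧸ J),
      ringKrullDim ((A ⧸ J) ⧸ Q.asIdeal) = ringKrullDim (A ⧸ (PrimeSpectrum.comap mk Q).asIdeal) := by
    intro Q
    let f : A →+* (A ⧸ J) ⧸ Q.asIdeal := (Ideal.Quotient.mk Q.asIdeal).comp mk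
    have hker : RingHom.ker f = (PrimeSpectrum.comap mk Q).asIdeal := by
      rw [← RingHom.comap_ker, Ideal.mk_ker]
      rfl
    rw [← hker]
    exact (ringKrullDim_eq_of_ringEquiv (RingHom.quotientKerEquivOfSurjective (f := f)
      (Ideal.Quotient.mk_surjective.comp Ideal.Quotient.mk_surjective))).symm
  refine le_antisymm (iSup_le fun Q => ?_) (iSup_le fun Q => ?_)
  · have h1 : PrimeSpectrum.comap mk Q.1 ∈ Module.support A M := hr ▸ ⟨Q.1, rfl⟩
    have h2 : PrimeSpectrum.comap mk Q.1 ≤ x := hx'' ▸ Ideal.comap_mono Q.2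
    exact (hdim Q.1).le.trans (le_iSup_of_le ⟨_, h1, h2⟩ le_rfl)
  · obtain ⟨Q', hQ'⟩ : Q.1 ∈ Set.range (PrimeSpectrum.comap mk) := hr.symm ▸ Q.2.1
    have h2 : Q' ≤ x' := by
      have := Q.2.2
      rw [← hQ', ← hx''] at this
      intro t ht
      obtain ⟨a, rfl⟩ := Ideal.Quotient.mk_surjective t
      exact this ht
    refine le_iSup_of_le ⟨Q', h2⟩ ?_
    rw [hdim, hQ']

omit M in
theorem exists_nat_dim_quotient (Q : Ideal A) [Q.IsPrime] : ∃ s : ℕ, ringKrullDim (A ⧸ Q) = s := by
  haveI : Algebra.FiniteType k (A ⧸ Q) :=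
    Algebra.FiniteType.trans (R := k) (S := A) inferInstance inferInstance
  obtain ⟨s, hs, -⟩ := H8Props.FieldDim.exists_dim_trdeg k (A ⧸ Q)
  exact ⟨s, hs⟩

theorem exists_nat_localDim_supp (x : PrimeSpectrum A) (hx : x ∈ Module.support A M) :
    ∃ s : ℕ, FlatMor.localDim (Module.support A M) ⟨x, hx⟩ = s := by
  let J := Module.annihilator A M
  let mk := Ideal.Quotient.mk J
  have hemb : Topology.IsClosedEmbedding (PrimeSpectrum.comap mk) :=
    PrimeSpectrum.isClosedEmbedding_comap_of_surjective _ _ Ideal.Quotient.mk_surjective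
  have hr : Set.range (PrimeSpectrum.comap mk) = Module.support A M := by
    rw [range_comap_of_surjective _ _ Ideal.Quotient.mk_surjective, Ideal.mk_ker,
      Module.support_eq_zeroLocus]
  let e : PrimeSpectrum (A ⧸ J) ≃ₜ Module.support A M :=
    hemb.isEmbedding.toHomeomorph.trans (Homeomorph.setCongr hr)
  haveI : Algebra.FiniteType k (A ⧸ J) :=
    Algebra.FiniteType.trans (R := k) (S := A) inferInstance inferInstance
  obtain ⟨x', hx'⟩ := e.surjective ⟨x, hx⟩
  haveI := H1CAlg.locallyOfFiniteType_spec k (A ⧸ J)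
  obtain ⟨s, hs⟩ := H8Props.FieldDim.exists_nat_localDim
    (AlgebraicGeometry.Spec.map (CommRingCat.ofHom (algebraMap k (A ⧸ J)))) x'
  exact ⟨s, by rw [← hx', localDim_homeomorph]; exact hs⟩

/-- If every point of the support generizing `x` has dimension `< n`, so has the support at `x`. -/
theorem localDim_supp_lt (x : PrimeSpectrum A) (hx : x ∈ Module.support A M) (n : ℕ)
    (h : ∀ Q : PrimeSpectrum A, Q ∈ Module.support A M → Q ≤ x → ringKrullDim (A ⧸ Q.asIdeal) < n) :
    ∃ m < n, FlatMor.localDim (Module.support A M) ⟨x, hx⟩ = (m : ℕ) := by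
  obtain ⟨m, hm⟩ := exists_nat_localDim_supp (k := k) M x hx
  obtain ⟨s, hs⟩ := exists_nat_dim_quotient (k := k) x.asIdeal
  have hsn : s < n := by
    have := h x hx le_rfl
    rw [hs] at this
    exact_mod_cast this
  refine ⟨m, ?_, hm⟩
  have hle : (m : WithBot ℕ∞) ≤ ((n - 1 : ℕ) : WithBot ℕ∞) := by
    rw [← hm, localDim_supp (k := k) M x hx]
    refine iSup_le fun Q => ?_
    obtain ⟨t, ht⟩ := exists_nat_dim_quotient (k := k) Q.1.asIdeal
    have := h Q.1 Q.2.1 Q.2.2
    rw [ht] at this ⊢
    have : t < n := by exact_mod_cast this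
    exact_mod_cast (show t ≤ n - 1 by omega)
  have : m ≤ n - 1 := by exact_mod_cast hle
  omega

end Field

section Smooth

variable {R D : Type u} [CommRing R] [CommRing D] [Algebra R D] [Algebra.Smooth R D]
  (p : Ideal R) [p.IsPrime] {n : ℕ}

theorem localDim_fibre (hn : FlatCA.SmoothRelDim n R D) (ξ : PrimeSpectrum (p.Fiber D)) :
    FlatMor.localDim (PrimeSpectrum (p.Fiber D)) ξ = n := by
  haveI : AlgebraicGeometry.SmoothOfRelativeDimension n
      (AlgebraicGeometry.Spec.map (CommRingCat.ofHom (algebraMap p.ResidueField (p.Fiber D)))) :=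
    smoothRelDim_baseChange R p.ResidueField D (p.Fiber D) n hn
  exact H8Props.FieldDim.localDim_eq_of_smooth
    (AlgebraicGeometry.Spec.map (CommRingCat.ofHom (algebraMap p.ResidueField (p.Fiber D)))) n ξ

theorem dim_fibre (hn : FlatCA.SmoothRelDim n R D) (hgi : FlatCA.GeomIrredFibres R D) :
    ringKrullDim (p.Fiber D) = n := by
  haveI := isDomain_fibre R D p hgi
  haveI : Algebra.FiniteType p.ResidueField (p.Fiber D) := inferInstance
  let ξ₀ : PrimeSpectrum (p.Fiber D) := ⟨⊥, Ideal.isPrime_bot⟩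
  have e : ringKrullDim (p.Fiber D ⧸ ξ₀.asIdeal) = ringKrullDim (p.Fiber D) :=
    ringKrullDim_eq_of_ringEquiv (RingEquiv.quotientBot _)
  rw [← e, ← localDim_fibre p hn ξ₀, H1CAlg.localDim_spec_eq_iSup (k := p.ResidueField)]
  refine le_antisymm (le_iSup_of_le ⟨ξ₀, le_rfl⟩ le_rfl) (iSup_le fun q => ?_)
  rw [show q.1 = ξ₀ from le_antisymm q.2 (show ξ₀.asIdeal ≤ q.1.asIdeal from bot_le)]

variable {G : Type u} [AddCommGroup G] [Module D G] [Module.Finite D G]

/-- A module supported at the generic point of the fibre has full local dimension in the fibre. -/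
theorem exists_locDim [(p.map (algebraMap R D)).IsPrime] (hn : FlatCA.SmoothRelDim n R D)
    (hG : (⟨p.map (algebraMap R D), inferInstance⟩ : PrimeSpectrum D) ∈ Module.support D G)
    (y : Ideal D) [y.IsPrime] [y.LiesOver p] :
    ∃ (x : PrimeSpectrum (p.Fiber D))
      (hx : x ∈ Module.support (p.Fiber D) (FlatCA.fiberMod p D G)),
      x.asIdeal = FlatCA.fiberIdeal p y ∧
      FlatMor.localDim (Module.support (p.Fiber D) (FlatCA.fiberMod p D G)) ⟨x, hx⟩ = n := by
  have hall : ∀ Q : PrimeSpectrum (p.Fiber D),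
      Q ∈ Module.support (p.Fiber D) (FlatCA.fiberMod p D G) := by
    intro Q
    refine (H06EGA12.mem_support_baseChange_iff G Q).mpr (Module.mem_support_mono ?_ hG)
    show p.map (algebraMap R D) ≤ Q.asIdeal.comap (algebraMap D (p.Fiber D))
    rw [Ideal.map_le_iff_le_comap]
    intro r hr
    rw [Ideal.mem_comap, Ideal.mem_comap, ← IsScalarTower.algebraMap_apply,
      IsScalarTower.algebraMap_apply R p.ResidueField (p.Fiber D),
      Ideal.algebraMap_residueField_eq_zero.mpr hr, map_zero]
    exact zero_mem _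
  let x : PrimeSpectrum (p.Fiber D) := ⟨FlatCA.fiberIdeal p y, isPrime_fiberIdeal p y⟩
  refine ⟨x, hall x, rfl, ?_⟩
  rw [← localDim_fibre p hn x]
  exact localDim_openEmbedding
    (f := fun P : Module.support (p.Fiber D) (FlatCA.fiberMod p D G) => P.1)
    ((Homeomorph.setCongr (Set.eq_univ_of_forall hall)).trans (Homeomorph.Set.univ _)).isOpenEmbedding
    ⟨x, hall x⟩

end Smooth

theorem dim_quotient_bot {A : Type*} [CommRing A] : ringKrullDim (A ⧸ (⊥ : Ideal A)) = ringKrullDim A :=
  ringKrullDim_eq_of_ringEquiv (RingEquiv.quotientBot A)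

theorem dim_quotient_of_isIntegral {A B : Type u} [CommRing A] [CommRing B] (f : A →+* B) (hf : f.IsIntegral)
    (Q : Ideal B) : ringKrullDim (B ⧸ Q) = ringKrullDim (A ⧸ Q.comap f) := by
  let g := Ideal.quotientMap Q f (le_refl (Q.comap f))
  letI := g.toAlgebra
  haveI : Algebra.IsIntegral (A ⧸ Q.comap f) (B ⧸ Q) := ⟨fun z => by
    obtain ⟨z, rfl⟩ := Ideal.Quotient.mk_surjective z
    obtain ⟨h, hh, hhz⟩ := hf z
    refine ⟨h.map (Ideal.Quotient.mk (Q.comap f)), hh.map _, ?_⟩
    rw [Polynomial.eval₂_map]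
    show Polynomial.eval₂ (g.comp (Ideal.Quotient.mk (Q.comap f))) (Ideal.Quotient.mk Q z) h = 0
    rw [Ideal.quotientMap_comp_mk, ← Polynomial.hom_eval₂, hhz, map_zero]⟩
  exact (H05EGA4.dim_int (A ⧸ Q.comap f) (B ⧸ Q)).2 Ideal.quotientMap_injective

section Drop

variable {R S C D : Type u} [CommRing R] [CommRing S] [CommRing C] [CommRing D] [Algebra R S]
  [Algebra.FiniteType R S] [Algebra R C] [Algebra S C] [IsScalarTower R S C] [Algebra R D]
  [Algebra.Smooth R D] [Algebra D C] [IsScalarTower R D C] [Module.Finite D C]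
  {N G : Type u} [AddCommGroup N] [Module S N] [Module.Finite S N] [AddCommGroup G] [Module C G]
  [Module S G] [IsScalarTower S C G] [Module D G] [IsScalarTower D C G] [Module.Finite C G]
  (p : Ideal R) [p.IsPrime] {n : ℕ}

/-- If the generic point of the fibre is not in the support of `G` over `D`, the local dimension of
the support of `N ≅ G` in the fibre is smaller than the relative dimension of `D`. -/
theorem localDim_lt (hSC : Function.Surjective (algebraMap S C)) (e : N ≃ₗ[S] G)
    (hn : FlatCA.SmoothRelDim n R D) (hgi : FlatCA.GeomIrredFibres R D)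
    [(p.map (algebraMap R D)).IsPrime]
    (hG : (⟨p.map (algebraMap R D), inferInstance⟩ : PrimeSpectrum D) ∉ Module.support D G)
    (x : PrimeSpectrum (p.Fiber S)) (hx : x ∈ Module.support (p.Fiber S) (FlatCA.fiberMod p S N)) :
    ∃ m < n, FlatMor.localDim (Module.support (p.Fiber S) (FlatCA.fiberMod p S N)) ⟨x, hx⟩ = (m : ℕ) := by
  haveI := finite_fiberMod R S p N
  refine localDim_supp_lt (k := p.ResidueField) _ x hx n fun Q hQ hQx => ?_
  let φ : p.Fiber S →ₐ[p.ResidueField] p.Fiber C :=
    Algebra.TensorProduct.map (AlgHom.id p.ResidueField p.ResidueField) (IsScalarTower.toAlgHom R S C)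
  let ψ : p.Fiber D →ₐ[p.ResidueField] p.Fiber C :=
    Algebra.TensorProduct.map (AlgHom.id p.ResidueField p.ResidueField) (IsScalarTower.toAlgHom R D C)
  have hφ : Function.Surjective φ := fun z => by
    induction z using TensorProduct.induction_on with
    | zero => exact ⟨0, map_zero _⟩
    | tmul a c =>
      obtain ⟨s, rfl⟩ := hSC c
      exact ⟨a ⊗ₜ s, by simp [φ]⟩
    | add a b ha hb =>
      obtain ⟨a', rfl⟩ := ha
      obtain ⟨b', rfl⟩ := hb
      exact ⟨a' + b', map_add _ _ _⟩
  have hQ0 : PrimeSpectrum.comap (algebraMap S (p.Fiber S)) Q ∈ Module.support S N :=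
    (H06EGA12.mem_support_baseChange_iff N Q).mp hQ
  rw [Module.mem_support_iff_of_finite] at hQ0
  -- the kernel of `φ` is contained in `Q`
  have hker : RingHom.ker φ.toRingHom ≤ Q.asIdeal := by
    intro z hz
    have hz' : z ∈ RingHom.ker (Algebra.TensorProduct.map (AlgHom.id R p.ResidueField)
        (IsScalarTower.toAlgHom R S C)) := hz
    rw [Algebra.TensorProduct.lTensor_ker _ hSC] at hz'
    refine (Ideal.map_le_iff_le_comap.mpr fun s (hs : algebraMap S C s = 0) => ?_) hz'
    refine hQ0 (Module.mem_annihilator.mpr fun m => e.injective ?_)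
    rw [map_zero, map_smul, ← algebraMap_smul C s (e m), hs, zero_smul]
  let Qc : Ideal (p.Fiber C) := Q.asIdeal.map φ.toRingHom
  haveI hQc : Qc.IsPrime := Ideal.map_isPrime_of_surjective hφ hker
  have hQc' : Qc.comap φ.toRingHom = Q.asIdeal := by
    exact (Ideal.comap_map_of_surjective φ.toRingHom hφ _).trans (by rw [← RingHom.ker_eq_comap_bot, sup_eq_left.mpr hker])
  let c₀ : Ideal C := Qc.comap (algebraMap C (p.Fiber C))
  have hc₀ : Module.annihilator C G ≤ c₀ := by
    intro a ha
    obtain ⟨s, rfl⟩ := hSC a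
    have hs : s ∈ Q.asIdeal.comap (algebraMap S (p.Fiber S)) := hQ0 (Module.mem_annihilator.mpr fun m =>
      e.injective (by
        rw [map_zero, map_smul, ← algebraMap_smul C s (e m)]
        exact Module.mem_annihilator.mp ha _))
    rw [← hQc', Ideal.comap_comap] at hs
    show algebraMap C (p.Fiber C) (algebraMap S C s) ∈ Qc
    have e1 : algebraMap C (p.Fiber C) (algebraMap S C s) = φ (algebraMap S (p.Fiber S) s) := by
      show (1 : p.ResidueField) ⊗ₜ[R] algebraMap S C s = φ ((1 : p.ResidueField) ⊗ₜ[R] s)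
      simp [φ]
    rw [e1]
    exact hs
  let P : Ideal (p.Fiber D) := Qc.comap ψ.toRingHom
  have hPne : (⊥ : Ideal (p.Fiber D)) < P := by
    refine lt_of_le_of_ne bot_le fun h => hG ?_
    haveI : Module.Finite D G := Module.Finite.trans C G
    rw [Module.mem_support_iff_of_finite]
    intro d hd
    show d ∈ p.map (algebraMap R D)
    rw [← comap_bot_fibre R D p, h]
    show ψ (algebraMap D (p.Fiber D) d) ∈ Qc
    have e1 : ψ (algebraMap D (p.Fiber D) d) = algebraMap C (p.Fiber C) (algebraMap D C d) := by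
      show ψ ((1 : p.ResidueField) ⊗ₜ[R] d) = (1 : p.ResidueField) ⊗ₜ[R] algebraMap D C d
      simp [ψ]
    rw [e1]
    refine hc₀ (Module.mem_annihilator.mpr fun m => ?_)
    rw [algebraMap_smul]
    exact Module.mem_annihilator.mp hd m
  haveI := isDomain_fibre R D p hgi
  haveI : (⊥ : Ideal (p.Fiber D)).IsPrime := Ideal.isPrime_bot
  have hdimlt : ringKrullDim (p.Fiber D ⧸ P) < n := by
    rw [← dim_fibre p hn hgi]
    refine lt_of_lt_of_eq ?_ dim_quotient_bot
    exact H8Props.FieldDim.dim_quotient_lt p.ResidueField (p.Fiber D) ⊥ P hPne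
  -- `p.Fiber C` is integral over `p.Fiber D`
  let f : p.Fiber S →+* p.Fiber C ⧸ Qc := (Ideal.Quotient.mk Qc).comp φ.toRingHom
  have hQe : RingHom.ker f = Q.asIdeal := by
    rw [← RingHom.comap_ker, Ideal.mk_ker, hQc']
  have h1 : ringKrullDim (p.Fiber S ⧸ Q.asIdeal) = ringKrullDim (p.Fiber C ⧸ Qc) := by
    rw [← hQe]
    exact ringKrullDim_eq_of_ringEquiv (RingHom.quotientKerEquivOfSurjective (f := f)
      (Ideal.Quotient.mk_surjective.comp hφ))
  have hint : ψ.toRingHom.IsIntegral := by
    intro z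
    induction z using TensorProduct.induction_on with
    | zero => exact ψ.toRingHom.isIntegralElem_zero
    | add a b ha hb => exact ha.add _ hb
    | tmul a c =>
      have ha : ψ.toRingHom.IsIntegralElem (a ⊗ₜ[R] (1 : C)) := by
        have : a ⊗ₜ[R] (1 : C) = ψ (a ⊗ₜ (1 : D)) := by simp [ψ]
        rw [this]
        exact ψ.toRingHom.isIntegralElem_map
      have hc : ψ.toRingHom.IsIntegralElem ((1 : p.ResidueField) ⊗ₜ[R] c) := by
        obtain ⟨g, hg, hgc⟩ := (Algebra.IsIntegral.isIntegral (R := D) c)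
        refine ⟨g.map (algebraMap D (p.Fiber D)), hg.map _, ?_⟩
        have hcomp : ψ.toRingHom.comp (algebraMap D (p.Fiber D)) =
            (algebraMap C (p.Fiber C)).comp (algebraMap D C) := RingHom.ext fun d => by
          show ψ ((1 : p.ResidueField) ⊗ₜ[R] d) = (1 : p.ResidueField) ⊗ₜ[R] algebraMap D C d
          simp [ψ]
        rw [Polynomial.eval₂_map, hcomp]
        show Polynomial.eval₂ _ (algebraMap C (p.Fiber C) c) g = 0
        rw [← Polynomial.hom_eval₂, hgc, map_zero]
      have := ha.mul _ hc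
      simpa using this
  have h2 : ringKrullDim (p.Fiber C ⧸ Qc) = ringKrullDim (p.Fiber D ⧸ P) :=
    dim_quotient_of_isIntegral ψ.toRingHom hint Qc
  rw [h1, h2]
  exact hdimlt

end Drop

end Groth.Agent.H7Flat.Chain
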