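import Groth.Agent.H7Flat.Chain.Basic
import Groth.Agent.H7Flat.Chain.Fibre
import Groth.Agent.H7Flat.ElemDev.Exists
import Groth.Agent.H8Props.Devissage.BaseChange
import Groth.Agent.H9Hens.EtaleQuotLift
import Mathlib

/-!
# Transporting a step of a dévissage along an etale neighbourhood of the smooth algebra
-/

set_option autoImplicit false
set_option linter.style.haveILetI false
set_option backward.isDefEq.respectTransparency false
set_option maxHeartbeats 1000000

universe u

open TensorProduct

attribute [local instance] Algebra.TensorProduct.rightAlgebra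

namespace Groth.Agent.H7Flat.Chain

open Groth.Agent.H7Flat.ElemDev Groth.Agent.H8Props.Devissage

/-- Etale algebras lift along surjections. -/
theorem exists_etale_lift_surjective {A B C : Type u} [CommRing A] [CommRing B] [CommRing C]
    [Algebra A B] (hAB : Function.Surjective (algebraMap A B)) [Algebra B C] [Algebra A C]
    [IsScalarTower A B C] [Algebra.Etale B C] :
    ∃ (T : Type u) (_ : CommRing T) (_ : Algebra A T) (_ : Algebra T C) (_ : IsScalarTower A T C),
      Algebra.Etale A T ∧ Algebra.IsPushout A T B C := by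
  let I := RingHom.ker (algebraMap A B)
  let π : A ⧸ I →+* B := Ideal.Quotient.lift I (algebraMap A B) fun x hx => hx
  have hπ : Function.Bijective π := ⟨(RingHom.injective_iff_ker_eq_bot _).mpr (by
      rw [Ideal.ker_quotient_lift, Ideal.map_quotient_self]), fun b => by
    obtain ⟨a, rfl⟩ := hAB b
    exact ⟨Ideal.Quotient.mk I a, rfl⟩⟩
  letI : Algebra (A ⧸ I) B := π.toAlgebra
  letI : Algebra (A ⧸ I) C := ((algebraMap B C).comp π).toAlgebra
  haveI : IsScalarTower (A ⧸ I) B C := IsScalarTower.of_algebraMap_eq fun _ => rfl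
  haveI : IsScalarTower A (A ⧸ I) B := IsScalarTower.of_algebraMap_eq fun _ => rfl
  haveI : IsScalarTower A (A ⧸ I) C := IsScalarTower.of_algebraMap_eq fun x =>
    IsScalarTower.algebraMap_apply A B C x
  haveI : Algebra.Etale (A ⧸ I) B :=
    Algebra.Etale.of_equiv (AlgEquiv.ofBijective (Algebra.ofId (A ⧸ I) B) hπ)
  haveI : Algebra.Etale (A ⧸ I) C := Algebra.Etale.comp (A ⧸ I) B C
  obtain ⟨T, _, _, hT, ⟨e⟩⟩ := H9Hens.exists_etale_lift_quotient A I C
  let φ : T →ₐ[A] C := (e.toAlgHom.restrictScalars A).comp Algebra.TensorProduct.includeRight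
  letI : Algebra T C := φ.toRingHom.toAlgebra
  haveI : IsScalarTower A T C := IsScalarTower.of_algebraMap_eq fun a => (φ.commutes a).symm
  refine ⟨T, _, _, inferInstance, inferInstance, hT, Algebra.IsPushout.symm ?_⟩
  let Φ : B ⊗[A] T →ₐ[B] C := Algebra.TensorProduct.lift (Algebra.ofId B C)
    (IsScalarTower.toAlgHom A T C) fun _ _ => .all _ _
  let ι : (A ⧸ I) ⊗[A] T →ₐ[A] B ⊗[A] T :=
    Algebra.TensorProduct.map (IsScalarTower.toAlgHom A (A ⧸ I) B) (AlgHom.id A T)
  have hι : Function.Bijective ι := (TensorProduct.congr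
    (AlgEquiv.ofBijective (IsScalarTower.toAlgHom A (A ⧸ I) B) hπ).toLinearEquiv
    (LinearEquiv.refl A T)).bijective
  have hcomp : ∀ z, Φ (ι z) = e z := by
    intro z
    induction z using TensorProduct.induction_on with
    | zero => simp only [map_zero]
    | add a b ha hb => simp only [map_add, ha, hb]
    | tmul q t =>
      show Φ (π q ⊗ₜ[A] t) = e (q ⊗ₜ[A] t)
      have : q ⊗ₜ[A] t = algebraMap (A ⧸ I) ((A ⧸ I) ⊗[A] T) q * ((1 : A ⧸ I) ⊗ₜ[A] t) := by
        simp [Algebra.TensorProduct.algebraMap_apply]
      rw [this, map_mul, AlgEquiv.commutes]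
      rfl
  have hΦ : Function.Bijective Φ := by
    refine ⟨fun x y h => ?_, fun c => ?_⟩
    · obtain ⟨x, rfl⟩ := hι.2 x
      obtain ⟨y, rfl⟩ := hι.2 y
      rw [hcomp, hcomp] at h
      rw [e.injective h]
    · obtain ⟨z, rfl⟩ := e.surjective c
      exact ⟨ι z, hcomp z⟩
  exact ⟨IsBaseChange.of_equiv (AlgEquiv.ofBijective Φ hΦ).toLinearEquiv fun t => by simp [Φ]⟩

/-- A pushout of rings is generated by the two rings. -/
theorem closure_range_pushout {A B A' B' : Type u} [CommRing A] [CommRing B] [CommRing A'] [CommRing B']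
    [Algebra A B] [Algebra A A'] [Algebra A' B'] [Algebra B B'] [Algebra A B'] [IsScalarTower A A' B']
    [IsScalarTower A B B'] [h : Algebra.IsPushout A A' B B'] :
    Subring.closure (Set.range (algebraMap A' B') ∪ Set.range (algebraMap B B')) = ⊤ := by
  refine eq_top_iff.2 fun t _ => ?_
  obtain ⟨x, rfl⟩ := (Algebra.IsPushout.equiv A A' B B').surjective t
  induction x using TensorProduct.induction_on with
  | zero => rw [map_zero]; exact Subring.zero_mem _
  | tmul a b =>
    rw [Algebra.IsPushout.equiv_tmul]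
    exact Subring.mul_mem _ (Subring.subset_closure (.inl ⟨a, rfl⟩))
      (Subring.subset_closure (.inr ⟨b, rfl⟩))
  | add a b ha hb => rw [map_add]; exact Subring.add_mem _ (ha trivial) (hb trivial)

section StepMap

variable {R S C D R' S' C' D' : Type u} [CommRing R] [CommRing S] [CommRing C] [CommRing D]
  [CommRing R'] [CommRing S'] [CommRing C'] [CommRing D']
  [Algebra R S] [Algebra R C] [Algebra S C] [IsScalarTower R S C]
  [Algebra R D] [Algebra D C] [IsScalarTower R D C]
  [Algebra R R'] [Algebra R D'] [Algebra R' D'] [IsScalarTower R R' D'] [Algebra D D']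
  [IsScalarTower R D D'] [Algebra R' S'] [Algebra S S']
  [Algebra R' C'] [Algebra S' C'] [IsScalarTower R' S' C'] [Algebra D' C'] [IsScalarTower R' D' C']
  [Algebra C C'] [Algebra S C'] [IsScalarTower S S' C'] [IsScalarTower S C C']
  [Algebra D C'] [IsScalarTower D D' C'] [IsScalarTower D C C']
  [Algebra.IsPushout S S' C C'] [Algebra.IsPushout D D' C C']
  {N G N' G' : Type u} [AddCommGroup N] [Module S N] [AddCommGroup G] [Module C G] [Module S G]
  [IsScalarTower S C G] [Module D G] [IsScalarTower D C G]
  [AddCommGroup N'] [Module S' N'] [Module S N'] [IsScalarTower S S' N']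
  [AddCommGroup G'] [Module C' G'] [Module C G'] [IsScalarTower C C' G'] [Module S' G']
  [IsScalarTower S' C' G'] [Module D' G'] [IsScalarTower D' C' G'] [Module D G']
  [IsScalarTower D D' G'] [IsScalarTower D C G']
  {p : Ideal R} [p.IsPrime] {y : Ideal D} [y.IsPrime] [y.LiesOver p] {z : Ideal C} [z.IsPrime]
  [z.LiesOver y] {n r : ℕ} {α : (Fin r → D) →ₗ[D] G}
  {p' : Ideal R'} [p'.IsPrime] {y' : Ideal D'} [y'.IsPrime] [hy'p : y'.LiesOver p']

omit [Algebra R S] [Algebra R C] [IsScalarTower R S C] [IsScalarTower R D C] in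
/-- The step of a dévissage transported along a pushout. -/
theorem step_map (hSC : Function.Surjective (algebraMap S C)) (hfp : Algebra.FinitePresentation S C)
    [Module.Finite D C] [Module.Finite C G] (e : N ≃ₗ[S] G)
    [Algebra.Smooth R D] (hgi : FlatCA.GeomIrredFibres R D) (hpt : FlatCA.PurelyTranscendental p y)
    (huniq : ∀ (Q : Ideal C) [Q.IsPrime], Q.LiesOver y → Q = z)
    [(p.map (algebraMap R D)).IsPrime]
    (hη : (⟨p.map (algebraMap R D), inferInstance⟩ : PrimeSpectrum D) ∈ Module.support D G)
    (hα : Function.Bijective (α.baseChange (p.map (algebraMap R D)).ResidueField))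
    (hR' : FlatCA.IsEtaleNhd R R' p p') [Algebra.Smooth R' D']
    (hgi' : FlatCA.GeomIrredFibres R' D') (hn' : FlatCA.SmoothRelDim n R' D')
    (hD' : FlatCA.IsEtaleNhd D D' y y')
    {f : N →ₗ[S] N'} (hf : IsBaseChange S' f) {g : G →ₗ[C] G'} (hg : IsBaseChange C' g)
    (z' : Ideal C') [z'.IsPrime] [z'.LiesOver y'] (hz' : z'.comap (algebraMap C C') = z) :
    Step N' p' (z'.comap (algebraMap S' C')) C' D' G' y' z' n r
        (baseChangeFree (B' := D') r α (g.restrictScalars D)) ∧
      IsBaseChange D' (g.restrictScalars D) := by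
  obtain ⟨hyy', hfy⟩ := isEtaleNhd_fracSurj hD'
  obtain ⟨hpp', hfp'⟩ := isEtaleNhd_fracSurj hR'
  haveI : Algebra.Etale D D' := hD'.1
  haveI : Algebra.Etale R R' := hR'.1
  have hbc : IsBaseChange D' (g.restrictScalars D) := isBaseChange_restrict hg
  haveI : y'.LiesOver y := ⟨hyy'⟩
  have hp' : (p'.map (algebraMap R' D')).IsPrime := isPrime_map R' D' p' hgi'
  have hηη : (p'.map (algebraMap R' D')).comap (algebraMap D D') = p.map (algebraMap R D) := by
    let η' := p'.map (algebraMap R' D')
    have hle : p.map (algebraMap R D) ≤ η'.comap (algebraMap D D') := by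
      rw [Ideal.map_le_iff_le_comap, Ideal.comap_comap, ← IsScalarTower.algebraMap_eq,
        IsScalarTower.algebraMap_eq R R' D', ← Ideal.comap_comap, hpp']
      exact Ideal.comap_mono Ideal.le_comap_map
    haveI : η'.LiesOver (η'.comap (algebraMap D D')) := ⟨rfl⟩
    obtain ⟨η'', hle', hη'', hover⟩ := Ideal.exists_ideal_le_liesOver_of_le
      (p := p.map (algebraMap R D)) (q := η'.comap (algebraMap D D')) η' hle
    haveI := liesOver_map R D p hgi
    haveI := liesOver_map R' D' p' hgi'
    have h1 : (η''.comap (algebraMap R' D')) = p' := by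
      refine Algebra.QuasiFinite.eq_of_le_of_under_eq (R := R) _ _ ?_ ?_
      · calc η''.comap (algebraMap R' D') ≤ η'.comap (algebraMap R' D') := Ideal.comap_mono hle'
          _ = p' := (η'.over_def p').symm
      · show (η''.comap (algebraMap R' D')).comap (algebraMap R R') = p'.comap (algebraMap R R')
        rw [← hpp', Ideal.comap_comap, ← IsScalarTower.algebraMap_eq, IsScalarTower.algebraMap_eq R D D',
          ← Ideal.comap_comap]
        rw [show η''.comap (algebraMap D D') = p.map (algebraMap R D) from hover.over.symm]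
        exact ((p.map (algebraMap R D)).over_def p).symm
    have h2 : η' ≤ η'' := Ideal.map_le_iff_le_comap.mpr h1.ge
    show η'.comap (algebraMap D D') = _
    rw [show η' = η'' from le_antisymm h2 hle']
    exact hover.over.symm
  haveI : (p'.map (algebraMap R' D')).LiesOver (p.map (algebraMap R D)) := ⟨hηη.symm⟩
  haveI : Module.Finite D G := Module.Finite.trans C G
  haveI : Module.Finite D' G' := Module.Finite.equiv hbc.equiv
  have hη' : (⟨p'.map (algebraMap R' D'), hp'⟩ : PrimeSpectrum D') ∈ Module.support D' G' := by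
    rw [← hbc.equiv.support_eq]
    refine (H06EGA12.mem_support_baseChange_iff G _).mpr ?_
    convert hη using 2
    exact hηη
  refine ⟨⟨?_, ?_, ?_, ?_, ‹_›, hgi', ?_, hn', ?_, ?_, rfl, fun {_} => ?_, exists_locDim p' hn' hη' y'⟩, hbc⟩
  · intro c
    obtain ⟨x, rfl⟩ := (Algebra.IsPushout.equiv S S' C C').surjective c
    induction x using TensorProduct.induction_on with
    | zero => exact ⟨0, by simp⟩
    | add x y hx hy =>
      obtain ⟨a, ha⟩ := hx
      obtain ⟨b, hb⟩ := hy
      exact ⟨a + b, by rw [map_add, map_add, ha, hb]⟩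
    | tmul s c =>
      obtain ⟨t, rfl⟩ := hSC c
      refine ⟨s * algebraMap S S' t, ?_⟩
      rw [Algebra.IsPushout.equiv_tmul, map_mul, ← IsScalarTower.algebraMap_apply S S' C',
        ← IsScalarTower.algebraMap_apply S C C']
  · exact Algebra.FinitePresentation.equiv (Algebra.IsPushout.equiv S S' C C')
  · exact Module.Finite.equiv (Algebra.IsPushout.equiv D D' C C').toLinearEquiv
  · exact Module.Finite.equiv hg.equiv
  · exact ⟨hf.equiv.symm ≪≫ₗ AlgebraTensorModule.congr (LinearEquiv.refl S' S') e ≪≫ₗ
      (Algebra.IsPushout.cancelBaseChange S S' C C' G).symm ≪≫ₗ hg.equiv.restrictScalars S'⟩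
  · exact purelyTranscendental_of_fracSurj p y p' hpp' hfp' y' hyy' hfy hpt
  · intro Q _ hQ
    haveI : Q.LiesOver y' := hQ
    refine eq_of_comap_eq (algebraMap D D') (algebraMap D C) (algebraMap D' C') (algebraMap C C')
      (by rw [← IsScalarTower.algebraMap_eq, ← IsScalarTower.algebraMap_eq])
      (closure_range_pushout (A := D)) ?_ ?_ ?_
    · rw [show Q.comap (algebraMap D' C') = y' from (Q.over_def y').symm]
      exact hfy
    · rw [hz']
      refine (huniq _ ⟨?_⟩).symm
      rw [Ideal.under_def, Ideal.comap_comap, ← IsScalarTower.algebraMap_eq,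
        IsScalarTower.algebraMap_eq D D' C', ← Ideal.comap_comap]
      exact hyy'.trans (congrArg (fun I => I.comap (algebraMap D D')) (Q.over_def y'))
    · exact (z'.over_def y').symm.trans (Q.over_def y')
  · exact bijective_baseChangeFree r α hbc (p.map (algebraMap R D)) (p'.map (algebraMap R' D')) hα

end StepMap

/-- A step and a dévissage of the cokernel after an etale neighbourhood of the smooth algebra give a
dévissage after an etale neighbourhood of `S`. -/
theorem exists_transport {R S C D : Type u} [CommRing R] [CommRing S] [CommRing C] [CommRing D]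
    [Algebra R S] [Algebra R C] [Algebra S C] [IsScalarTower R S C]
    [Algebra R D] [Algebra D C] [IsScalarTower R D C]
    (N : Type u) [AddCommGroup N] [Module S N]
    (G : Type u) [AddCommGroup G] [Module C G] [Module S G]
    [IsScalarTower S C G] [Module D G] [IsScalarTower D C G]
    (p : Ideal R) [p.IsPrime] (q : Ideal S) [q.IsPrime] (y : Ideal D) [y.IsPrime] [y.LiesOver p]
    (z : Ideal C) [z.IsPrime] [z.LiesOver y] (hzq : q = z.comap (algebraMap S C))
    (hSC : Function.Surjective (algebraMap S C)) (hfp : Algebra.FinitePresentation S C)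
    [Module.Finite D C] [Module.Finite C G] (e : N ≃ₗ[S] G)
    [Algebra.Smooth R D] (hgi : FlatCA.GeomIrredFibres R D) (hpt : FlatCA.PurelyTranscendental p y)
    (huniq : ∀ (Q : Ideal C) [Q.IsPrime], Q.LiesOver y → Q = z)
    [(p.map (algebraMap R D)).IsPrime]
    (hη : (⟨p.map (algebraMap R D), inferInstance⟩ : PrimeSpectrum D) ∈ Module.support D G)
    {r : ℕ} (α : (Fin r → D) →ₗ[D] G)
    (hα : Function.Bijective (α.baseChange (p.map (algebraMap R D)).ResidueField))
    (R' D' : Type u) [CommRing R'] [CommRing D'] [Algebra R R'] [Algebra R D'] [Algebra R' D']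
    [IsScalarTower R R' D'] [Algebra D D'] [IsScalarTower R D D']
    (p' : Ideal R') [p'.IsPrime] (y' : Ideal D') [y'.IsPrime] [y'.LiesOver p']
    (hR' : FlatCA.IsEtaleNhd R R' p p') [Algebra.Smooth R' D']
    (hgi' : FlatCA.GeomIrredFibres R' D') (n : ℕ) (hn' : FlatCA.SmoothRelDim n R' D')
    (hD' : FlatCA.IsEtaleNhd D D' y y')
    (htail : Subsingleton (D' ⊗[D] (G ⧸ LinearMap.range α)) ∨
      FlatCA.HasCompleteDevissageAt R' D' (D' ⊗[D] (G ⧸ LinearMap.range α)) p' y') :
    ∃ (S' : Type u) (_ : CommRing S') (_ : Algebra S S') (_ : Algebra R' S') (_ : Algebra R S')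
      (_ : IsScalarTower R R' S') (_ : IsScalarTower R S S') (q' : Ideal S') (_ : q'.IsPrime),
      FlatCA.IsEtaleNhd S S' q q' ∧ q'.LiesOver p' ∧
      FlatCA.HasCompleteDevissageAt R' S' (S' ⊗[S] N) p' q' := by
  obtain ⟨hyy', hfy⟩ := isEtaleNhd_fracSurj hD'
  haveI : Algebra.Etale D D' := hD'.1
  haveI : Algebra.Etale R R' := hR'.1
  let A := R' ⊗[R] S
  let B := R' ⊗[R] C
  let ι : A →ₐ[R'] B := Algebra.TensorProduct.map (AlgHom.id R' R') (IsScalarTower.toAlgHom R S C)
  letI : Algebra A B := ι.toRingHom.toAlgebra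
  haveI : IsScalarTower R' A B := IsScalarTower.of_algebraMap_eq fun x => (ι.commutes x).symm
  letI : Algebra S B := ((algebraMap C B).comp (algebraMap S C)).toAlgebra
  haveI : IsScalarTower S C B := IsScalarTower.of_algebraMap_eq fun _ => rfl
  haveI : IsScalarTower S A B := IsScalarTower.of_algebraMap_eq fun s => by
    show (1 : R') ⊗ₜ[R] algebraMap S C s = ι ((1 : R') ⊗ₜ[R] s)
    rfl
  haveI hAB : Algebra.IsPushout S A C B := isPushout_middle R S C R' A B
  let C' := C ⊗[D] D'
  letI : Algebra R' C' := ((algebraMap D' C').comp (algebraMap R' D')).toAlgebra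
  haveI : IsScalarTower R' D' C' := IsScalarTower.of_algebraMap_eq fun _ => rfl
  haveI : IsScalarTower R R' C' := IsScalarTower.of_algebraMap_eq fun r => by
    show _ = algebraMap D' C' (algebraMap R' D' (algebraMap R R' r))
    rw [IsScalarTower.algebraMap_apply R C C']
    rw [← IsScalarTower.algebraMap_apply R R' D', IsScalarTower.algebraMap_apply R D D',
      IsScalarTower.algebraMap_apply R D C, ← IsScalarTower.algebraMap_apply D C C',
      ← IsScalarTower.algebraMap_apply D D' C']
  let ψ : B →ₐ[R] C' := Algebra.TensorProduct.lift (IsScalarTower.toAlgHom R R' C')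
    (IsScalarTower.toAlgHom R C C') fun _ _ => .all _ _
  letI : Algebra B C' := ψ.toRingHom.toAlgebra
  haveI : IsScalarTower C B C' := IsScalarTower.of_algebraMap_eq fun c => by
    show algebraMap C C' c = ψ ((1 : R') ⊗ₜ[R] c)
    rw [Algebra.TensorProduct.lift_tmul, map_one, one_mul]
    rfl
  haveI : IsScalarTower R' B C' := IsScalarTower.of_algebraMap_eq fun x => by
    show algebraMap R' C' x = ψ (x ⊗ₜ[R] (1 : C))
    rw [Algebra.TensorProduct.lift_tmul, map_one, mul_one]
    rfl
  haveI : Algebra.Etale C B :=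
    Algebra.Etale.of_equiv (A := C ⊗[R] R')
      ({ (Algebra.TensorProduct.comm R C R').toRingEquiv with
        commutes' := fun d => by
          show Algebra.TensorProduct.comm R C R' (d ⊗ₜ 1) = (1 : R') ⊗ₜ d
          simp } : C ⊗[R] R' ≃ₐ[C] B)
  haveI : Algebra.Etale C C' := inferInstance
  haveI : Algebra.Etale B C' := Algebra.Etale.of_restrictScalars C B C'
  letI : Algebra A C' := ((algebraMap B C').comp (algebraMap A B)).toAlgebra
  haveI : IsScalarTower A B C' := IsScalarTower.of_algebraMap_eq fun _ => rfl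
  have hι : Function.Surjective (algebraMap A B) := fun b => by
    induction b using TensorProduct.induction_on with
    | zero => exact ⟨0, map_zero _⟩
    | tmul x c =>
      obtain ⟨s, rfl⟩ := hSC c
      exact ⟨x ⊗ₜ s, rfl⟩
    | add a b ha hb =>
      obtain ⟨a', rfl⟩ := ha
      obtain ⟨b', rfl⟩ := hb
      exact ⟨a' + b', map_add _ _ _⟩
  obtain ⟨T, _, _, _, _, hT, hTpush⟩ := exists_etale_lift_surjective (A := A) (B := B) (C := C') hι
  letI : Algebra S T := ((algebraMap A T).comp (algebraMap S A)).toAlgebra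
  haveI : IsScalarTower S A T := IsScalarTower.of_algebraMap_eq fun _ => rfl
  letI : Algebra R' T := ((algebraMap A T).comp (algebraMap R' A)).toAlgebra
  haveI : IsScalarTower R' A T := IsScalarTower.of_algebraMap_eq fun _ => rfl
  letI : Algebra R T := ((algebraMap R' T).comp (algebraMap R R')).toAlgebra
  haveI : IsScalarTower R R' T := IsScalarTower.of_algebraMap_eq fun _ => rfl
  haveI : IsScalarTower R S T := IsScalarTower.of_algebraMap_eq fun r => by
    show algebraMap A T (algebraMap R' A (algebraMap R R' r)) = algebraMap A T (algebraMap S A (algebraMap R S r))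
    refine congrArg _ ?_
    show (algebraMap R R' r) ⊗ₜ[R] (1 : S) = (1 : R') ⊗ₜ[R] algebraMap R S r
    rw [Algebra.algebraMap_eq_smul_one, Algebra.algebraMap_eq_smul_one, TensorProduct.smul_tmul]
  haveI : IsScalarTower S C C' := inferInstance
  haveI : IsScalarTower S B C' := IsScalarTower.of_algebraMap_eq fun s => by
    rw [IsScalarTower.algebraMap_apply S C B, ← IsScalarTower.algebraMap_apply C B C',
      ← IsScalarTower.algebraMap_apply S C C']
  haveI : IsScalarTower S T C' := IsScalarTower.of_algebraMap_eq fun s => by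
    show _ = algebraMap T C' (algebraMap A T (algebraMap S A s))
    rw [← IsScalarTower.algebraMap_apply A T C', IsScalarTower.algebraMap_apply A B C',
      ← IsScalarTower.algebraMap_apply S A B, IsScalarTower.algebraMap_apply S C B,
      ← IsScalarTower.algebraMap_apply C B C', ← IsScalarTower.algebraMap_apply S C C']
  haveI : IsScalarTower R' T C' := IsScalarTower.of_algebraMap_eq fun x => by
    show algebraMap R' C' x = algebraMap T C' (algebraMap A T (algebraMap R' A x))
    rw [← IsScalarTower.algebraMap_apply A T C', IsScalarTower.algebraMap_apply A B C',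
      ← IsScalarTower.algebraMap_apply R' A B, ← IsScalarTower.algebraMap_apply R' B C']
  haveI : IsScalarTower S A C' := IsScalarTower.of_algebraMap_eq fun s => by
    rw [IsScalarTower.algebraMap_apply S T C', IsScalarTower.algebraMap_apply S A T,
      ← IsScalarTower.algebraMap_apply A T C']
  haveI hpushS : Algebra.IsPushout S T C C' :=
    (Algebra.IsPushout.comp_iff (R := S) (S := A) (R' := C) (S' := B) (T := T) (T' := C')).mpr hTpush
  haveI hpushD : Algebra.IsPushout D D' C C' := inferInstance
  -- the point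
  obtain ⟨z', hz', hz'z, hz'y⟩ :
      ∃ z' : Ideal C', z'.IsPrime ∧ z'.comap (algebraMap C C') = z ∧ z'.comap (algebraMap D' C') = y' := by
    obtain ⟨Q, hQ, hQy, hQz⟩ := exists_prime_tensor (R := D) (A := D') (B := C) y' z
      ((z.over_def y).symm.trans hyy') hfy
    let c := (Algebra.TensorProduct.comm D C D').toRingEquiv.toRingHom
    refine ⟨Q.comap c, Ideal.IsPrime.comap _, ?_, ?_⟩
    · rw [Ideal.comap_comap, ← hQz]
      congr 1
    · rw [Ideal.comap_comap, ← hQy]
      congr 1
  haveI : z'.LiesOver y' := ⟨hz'y.symm⟩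
  let q' := z'.comap (algebraMap T C')
  haveI : q'.LiesOver p' := ⟨by
    show p' = (z'.comap (algebraMap T C')).comap (algebraMap R' T)
    rw [Ideal.comap_comap, ← IsScalarTower.algebraMap_eq, IsScalarTower.algebraMap_eq R' D' C',
      ← Ideal.comap_comap, hz'y]
    exact y'.over_def p'⟩
  have hqq' : q = q'.comap (algebraMap S T) := by
    show q = (z'.comap (algebraMap T C')).comap (algebraMap S T)
    rw [Ideal.comap_comap, ← IsScalarTower.algebraMap_eq, IsScalarTower.algebraMap_eq S C C',
      ← Ideal.comap_comap, hz'z]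
    exact hzq
  have hTC : Function.Surjective (algebraMap T C') := fun c => by
    obtain ⟨x, rfl⟩ := (Algebra.IsPushout.equiv A T B C').surjective c
    induction x using TensorProduct.induction_on with
    | zero => exact ⟨0, by simp⟩
    | add x y hx hy =>
      obtain ⟨a, ha⟩ := hx
      obtain ⟨b, hb⟩ := hy
      exact ⟨a + b, by rw [map_add, map_add, ha, hb]⟩
    | tmul t b =>
      obtain ⟨a, rfl⟩ := hι b
      refine ⟨t * algebraMap A T a, ?_⟩
      rw [Algebra.IsPushout.equiv_tmul, map_mul, ← IsScalarTower.algebraMap_apply A T C',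
        ← IsScalarTower.algebraMap_apply A B C']
  have hfC : FracSurj (algebraMap S C') z' := by
    rw [IsScalarTower.algebraMap_eq S C C']
    refine FracSurj.comp ?_ (fracSurj_of_surjective _ hSC _)
    refine fracSurj_of_generated (algebraMap D D') (algebraMap D C) (algebraMap D' C') (algebraMap C C')
      (by rw [← IsScalarTower.algebraMap_eq, ← IsScalarTower.algebraMap_eq]) (closure_range_pushout (A := D)) z' ?_
    rw [hz'y]
    exact hfy
  have hfT : FracSurj (algebraMap S T) q' := fun t => by
    obtain ⟨c, d, hd, hcd⟩ := hfC (algebraMap T C' t)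
    refine ⟨c, d, fun hm => hd (by rw [IsScalarTower.algebraMap_apply S T C']; exact hm), ?_⟩
    rw [Ideal.mem_comap, map_sub, map_mul, ← IsScalarTower.algebraMap_apply,
      ← IsScalarTower.algebraMap_apply]
    exact hcd
  haveI : Algebra.Etale S A :=
    Algebra.Etale.of_equiv (A := S ⊗[R] R')
      ({ (Algebra.TensorProduct.comm R S R').toRingEquiv with
        commutes' := fun d => by
          show Algebra.TensorProduct.comm R S R' (d ⊗ₜ 1) = (1 : R') ⊗ₜ d
          simp } : S ⊗[R] R' ≃ₐ[S] A)
  haveI : Algebra.Etale S T := Algebra.Etale.comp S A T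
  refine ⟨T, _, _, _, _, inferInstance, inferInstance, q', inferInstance,
    isEtaleNhd_of_fracSurj hqq' hfT, ‹_›, ?_⟩
  -- the step
  let G' := C' ⊗[C] G
  haveI : IsScalarTower T C' G' := inferInstance
  haveI : IsScalarTower D' C' G' := inferInstance
  haveI : IsScalarTower D D' G' := .of_algebraMap_smul fun d x => by
    rw [← algebraMap_smul C' (algebraMap D D' d) x, ← IsScalarTower.algebraMap_apply D D' C', algebraMap_smul]
  obtain ⟨hstep, hbc⟩ := step_map (R := R) (S' := T) (D' := D') (C' := C') (N := N) (N' := T ⊗[S] N) (G' := G')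
    (p := p) (y := y) (z := z) (n := n) (α := α) (p' := p') (y' := y')
    hSC hfp e hgi hpt huniq hη hα hR' hgi' hn' hD'
    (f := TensorProduct.mk S T N 1) (TensorProduct.isBaseChange S N T)
    (g := TensorProduct.mk C C' G 1) (TensorProduct.isBaseChange C G C') z' hz'z
  obtain ⟨ec⟩ := nonempty_coker_equiv hbc
    (TensorProduct.isBaseChange D (G ⧸ LinearMap.range α) D') (LinearMap.range α) (LinearEquiv.refl D _)
    _ (range_baseChangeFree (B' := D') (g := (TensorProduct.mk C C' G 1).restrictScalars D) r α)
  rcases htail with hsub | hcd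
  · refine hcd_singleton hstep ?_
    rw [← LinearMap.range_eq_top, ← Submodule.Quotient.subsingleton_iff]
    exact ec.toEquiv.subsingleton
  · exact hcd_cons hstep ec hcd

end Groth.Agent.H7Flat.Chain
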