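import Groth.Agent.H7Flat.Chain.BaseChange
import Groth.Agent.H7Flat.Chain.Shrink
import Groth.Agent.H7Flat.Chain.GeomShrink
import Groth.Agent.H7Flat.Chain.Transport
import Groth.Agent.H7Flat.FiberBasis

/-!
# Existence of complete dévissages after etale localization
-/

set_option autoImplicit false
set_option linter.style.haveILetI false
set_option backward.isDefEq.respectTransparency false
set_option maxHeartbeats 1000000

universe u

open TensorProduct

attribute [local instance] Algebra.TensorProduct.rightAlgebra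

namespace Groth.Agent.H7Flat.Chain

open Groth.Agent.H7Flat.ElemDev Groth.Agent.H8Props.Devissage

/-- After etale neighbourhoods of the base and of the source there is a complete dévissage. -/
def Loc (R S : Type u) [CommRing R] [CommRing S] [Algebra R S] (N : Type u) [AddCommGroup N] [Module S N]
    (p : Ideal R) [p.IsPrime] (q : Ideal S) [q.IsPrime] : Prop :=
  ∃ (R' S' : Type u) (_ : CommRing R') (_ : CommRing S') (_ : Algebra R R') (_ : Algebra S S')
    (_ : Algebra R' S') (_ : Algebra R S') (_ : IsScalarTower R R' S') (_ : IsScalarTower R S S')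
    (p' : Ideal R') (q' : Ideal S') (_ : p'.IsPrime) (_ : q'.IsPrime),
    FlatCA.IsEtaleNhd R R' p p' ∧ FlatCA.IsEtaleNhd S S' q q' ∧ q'.LiesOver p' ∧
    FlatCA.HasCompleteDevissageAt R' S' (S' ⊗[S] N) p' q'

theorem algebraMap_tmul_one {R A B : Type u} [CommRing R] [CommRing A] [CommRing B] [Algebra R A]
    [Algebra R B] (r : R) : (algebraMap R A r) ⊗ₜ[R] (1 : B) = (1 : A) ⊗ₜ[R] algebraMap R B r := by
  rw [Algebra.algebraMap_eq_smul_one, Algebra.algebraMap_eq_smul_one, TensorProduct.smul_tmul]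

theorem isEtaleNhd_comp {A B C : Type u} [CommRing A] [CommRing B] [CommRing C] [Algebra A B] [Algebra B C]
    [Algebra A C] [IsScalarTower A B C] {a : Ideal A} [a.IsPrime] {b : Ideal B} [b.IsPrime] {c : Ideal C}
    [c.IsPrime] (h₁ : FlatCA.IsEtaleNhd A B a b) (h₂ : FlatCA.IsEtaleNhd B C b c) :
    FlatCA.IsEtaleNhd A C a c := by
  obtain ⟨e₁, f₁⟩ := isEtaleNhd_fracSurj h₁
  obtain ⟨e₂, f₂⟩ := isEtaleNhd_fracSurj h₂
  haveI : Algebra.Etale A B := h₁.1
  haveI : Algebra.Etale B C := h₂.1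
  haveI : Algebra.Etale A C := Algebra.Etale.comp A B C
  refine isEtaleNhd_of_fracSurj ?_ ?_
  · rw [IsScalarTower.algebraMap_eq A B C, ← Ideal.comap_comap, ← e₂]
    exact e₁
  · rw [IsScalarTower.algebraMap_eq A B C]
    refine f₂.comp ?_
    rw [← e₂]
    exact f₁

theorem isEtaleNhd_away {A : Type u} [CommRing A] {a : Ideal A} [a.IsPrime] (h : A) (hh : h ∉ a)
    [(a.map (algebraMap A (Localization.Away h))).IsPrime] :
    FlatCA.IsEtaleNhd A (Localization.Away h) a (a.map (algebraMap A (Localization.Away h))) := by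
  haveI : Algebra.Etale A (Localization.Away h) := Algebra.Etale.of_isLocalizationAway h
  refine isEtaleNhd_of_fracSurj ?_ (fracSurj_of_isLocalization (Submonoid.powers h) _ _)
  exact (IsLocalization.under_map_of_isPrime_disjoint (Submonoid.powers h) (Localization.Away h) ‹_› (by
    rw [Set.disjoint_left]
    rintro _ ⟨k, rfl⟩ hk
    exact hh (‹a.IsPrime›.mem_of_pow_mem k hk))).symm

theorem Loc.comp {R S : Type u} [CommRing R] [CommRing S] [Algebra R S] {N : Type u} [AddCommGroup N]
    [Module S N] {p : Ideal R} [p.IsPrime] {q : Ideal S} [q.IsPrime]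
    (R₁ S₁ : Type u) [CommRing R₁] [CommRing S₁] [Algebra R R₁] [Algebra S S₁] [Algebra R₁ S₁]
    [Algebra R S₁] [IsScalarTower R R₁ S₁] [IsScalarTower R S S₁] {p₁ : Ideal R₁} [p₁.IsPrime]
    {q₁ : Ideal S₁} [q₁.IsPrime] (hR : FlatCA.IsEtaleNhd R R₁ p p₁) (hS : FlatCA.IsEtaleNhd S S₁ q q₁)
    {N₁ : Type u} [AddCommGroup N₁] [Module S₁ N₁] [Module S N₁] [IsScalarTower S S₁ N₁]
    {f : N →ₗ[S] N₁} (hf : IsBaseChange S₁ f) (h : Loc R₁ S₁ N₁ p₁ q₁) : Loc R S N p q := by
  obtain ⟨R', S', _, _, _, _, _, _, _, _, p', q', _, _, hR', hS', hq', hd⟩ := h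
  letI : Algebra R R' := ((algebraMap R₁ R').comp (algebraMap R R₁)).toAlgebra
  haveI : IsScalarTower R R₁ R' := IsScalarTower.of_algebraMap_eq fun _ => rfl
  letI : Algebra S S' := ((algebraMap S₁ S').comp (algebraMap S S₁)).toAlgebra
  haveI : IsScalarTower S S₁ S' := IsScalarTower.of_algebraMap_eq fun _ => rfl
  letI : Algebra R S' := ((algebraMap R' S').comp (algebraMap R R')).toAlgebra
  haveI : IsScalarTower R R' S' := IsScalarTower.of_algebraMap_eq fun _ => rfl
  haveI : IsScalarTower R S S' := IsScalarTower.of_algebraMap_eq fun r => by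
    show algebraMap R' S' (algebraMap R₁ R' (algebraMap R R₁ r)) =
      algebraMap S₁ S' (algebraMap S S₁ (algebraMap R S r))
    rw [← IsScalarTower.algebraMap_apply R₁ R' S', IsScalarTower.algebraMap_apply R₁ S₁ S',
      ← IsScalarTower.algebraMap_apply R R₁ S₁, ← IsScalarTower.algebraMap_apply R S S₁]
  refine ⟨R', S', _, _, _, _, _, _, inferInstance, inferInstance, p', q', ‹_›, ‹_›,
    isEtaleNhd_comp hR hR', isEtaleNhd_comp hS hS', hq', hcd_congr ?_ hd⟩
  exact (AlgebraTensorModule.cancelBaseChange S S₁ S' S' N).symm ≪≫ₗ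
    AlgebraTensorModule.congr (LinearEquiv.refl S' S') hf.equiv

/-- Smoothness of an etale neighbourhood of a smooth algebra over an etale neighbourhood of the base. -/
theorem smooth_nhd {R R' D D' : Type u} [CommRing R] [CommRing R'] [CommRing D] [CommRing D'] [Algebra R R']
    [Algebra R D] [Algebra R' D'] [Algebra R D'] [IsScalarTower R R' D'] [Algebra D D']
    [IsScalarTower R D D'] [Algebra.Etale R R'] [Algebra.Etale D D'] [Algebra.Smooth R D] {n : ℕ}
    (h : FlatCA.SmoothRelDim n R D) : Algebra.Smooth R' D' ∧ FlatCA.SmoothRelDim n R' D' := by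
  let T := R' ⊗[R] D
  let φ : T →ₐ[R'] D' := Algebra.TensorProduct.lift (Algebra.ofId R' D') (IsScalarTower.toAlgHom R D D')
    fun _ _ => .all _ _
  letI : Algebra T D' := φ.toRingHom.toAlgebra
  haveI : IsScalarTower R' T D' := IsScalarTower.of_algebraMap_eq fun r => (φ.commutes r).symm
  haveI : IsScalarTower D T D' := IsScalarTower.of_algebraMap_eq fun d => by
    show algebraMap D D' d = φ ((1 : R') ⊗ₜ[R] d)
    rw [Algebra.TensorProduct.lift_tmul, map_one, one_mul]
    rfl
  haveI : Algebra.Etale D T :=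
    Algebra.Etale.of_equiv (A := D ⊗[R] R')
      ({ (Algebra.TensorProduct.comm R D R').toRingEquiv with
        commutes' := fun d => by
          show Algebra.TensorProduct.comm R D R' (d ⊗ₜ 1) = (1 : R') ⊗ₜ d
          simp } : D ⊗[R] R' ≃ₐ[D] T)
  haveI : Algebra.Etale T D' := Algebra.Etale.of_restrictScalars D T D'
  haveI : Algebra.Smooth R' T := inferInstance
  exact ⟨Algebra.Smooth.comp R' T D',
    smoothRelDim_comp_etale (T := T) (smoothRelDim_baseChange R R' D T n h)⟩

open AlgebraicGeometry in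
theorem geomIrredFibres_of_geomIntegral {R D : Type u} [CommRing R] [CommRing D] [Algebra R D]
    (h : FlatCA.GeomIntegralFibres R D) : FlatCA.GeomIrredFibres R D := by
  haveI : GeometricallyIntegral (Spec.map (CommRingCat.ofHom (algebraMap R D))) := h
  show GeometricallyIrreducible _
  infer_instance

open AlgebraicGeometry in
theorem smooth_of_relDim {R D : Type u} [CommRing R] [CommRing D] [Algebra R D] {n : ℕ}
    (h : FlatCA.SmoothRelDim n R D) : Algebra.Smooth R D := by
  haveI : SmoothOfRelativeDimension n (Spec.map (CommRingCat.ofHom (algebraMap R D))) := h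
  have h' : Smooth (Spec.map (CommRingCat.ofHom (algebraMap R D))) :=
    SmoothOfRelativeDimension.smooth n _
  exact RingHom.smooth_algebraMap.mp ((HasRingHomProperty.Spec_iff (P := @Smooth)).mp h')

theorem exists_point {R S : Type u} [CommRing R] [CommRing S] [Algebra R S] [Algebra.FiniteType R S]
    (N : Type u) [AddCommGroup N] [Module S N] [Module.Finite S N] (p : Ideal R) [p.IsPrime] (q : Ideal S)
    [q.IsPrime] [q.LiesOver p] (hq : (⟨q, inferInstance⟩ : PrimeSpectrum S) ∈ Module.support S N) :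
    ∃ (x : PrimeSpectrum (p.Fiber S)) (hx : x ∈ Module.support (p.Fiber S) (FlatCA.fiberMod p S N)) (m : ℕ),
      x.asIdeal = FlatCA.fiberIdeal p q ∧
      FlatMor.localDim (Module.support (p.Fiber S) (FlatCA.fiberMod p S N)) ⟨x, hx⟩ = m := by
  haveI : Module.Finite (p.Fiber S) (FlatCA.fiberMod p S N) :=
    inferInstanceAs (Module.Finite (p.Fiber S) ((p.Fiber S) ⊗[S] N))
  let x : PrimeSpectrum (p.Fiber S) := ⟨FlatCA.fiberIdeal p q, isPrime_fiberIdeal p q⟩
  have hx : x ∈ Module.support (p.Fiber S) (FlatCA.fiberMod p S N) := by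
    refine (H06EGA12.mem_support_baseChange_iff N x).mpr ?_
    convert hq using 2
    exact comap_fiberIdeal p q
  obtain ⟨m, hm⟩ := exists_nat_localDim_supp (k := p.ResidueField) _ x hx
  exact ⟨x, hx, m, rfl, hm⟩

theorem subsingleton_tensor_of_isUnit {D D' : Type u} [CommRing D] [CommRing D'] [Algebra D D'] {d : D}
    (hd : IsUnit (algebraMap D D' d)) (K : Type u) [AddCommGroup K] [Module D K]
    (h : ∀ k : K, d • k = 0) : Subsingleton (D' ⊗[D] K) := by
  refine subsingleton_of_forall_eq 0 fun z => ?_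
  have : algebraMap D D' d • z = 0 := by
    induction z using TensorProduct.induction_on with
    | zero => exact smul_zero _
    | tmul a k =>
      rw [TensorProduct.smul_tmul', smul_eq_mul, ← Algebra.smul_def, TensorProduct.smul_tmul, h,
        TensorProduct.tmul_zero]
    | add a b ha hb => rw [smul_add, ha, hb, add_zero]
  exact hd.smul_eq_zero.mp this

/-- The neighbourhood of the smooth algebra carrying the dévissage of the cokernel. -/
theorem exists_tail {R D : Type u} [CommRing R] [CommRing D] [Algebra R D] [Algebra.Smooth R D]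
    (K : Type u) [AddCommGroup K] [Module D K] [Module.Finite D K] (p : Ideal R) [p.IsPrime]
    (y : Ideal D) [y.IsPrime] [y.LiesOver p] (hpt : FlatCA.PurelyTranscendental p y) {n : ℕ}
    (hn : FlatCA.SmoothRelDim n R D)
    (hK : (⟨y, inferInstance⟩ : PrimeSpectrum D) ∉ Module.support D K ∨ Loc R D K p y) :
    ∃ (R' D' : Type u) (_ : CommRing R') (_ : CommRing D') (_ : Algebra R R') (_ : Algebra R D')
      (_ : Algebra R' D') (_ : IsScalarTower R R' D') (_ : Algebra D D') (_ : IsScalarTower R D D')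
      (p' : Ideal R') (_ : p'.IsPrime) (y' : Ideal D') (_ : y'.IsPrime) (_ : y'.LiesOver p'),
      FlatCA.IsEtaleNhd R R' p p' ∧ FlatCA.IsEtaleNhd D D' y y' ∧ FlatCA.GeomIrredFibres R' D' ∧
      (Subsingleton (D' ⊗[D] K) ∨ FlatCA.HasCompleteDevissageAt R' D' (D' ⊗[D] K) p' y') := by
  classical
  rcases hK with hK | hK
  · obtain ⟨d, hdK, hdy⟩ := SetLike.not_le_iff_exists.mp
      (Module.mem_support_iff_of_finite.not.mp hK)
    let D₂ := Localization.Away d
    let y₂ : Ideal D₂ := y.map (algebraMap D D₂)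
    haveI : y₂.IsPrime := isPrime_map_away d y hdy
    have hnhd₂ : FlatCA.IsEtaleNhd D D₂ y y₂ := isEtaleNhd_away d hdy
    obtain ⟨hy₂, hf₂⟩ := isEtaleNhd_fracSurj hnhd₂
    haveI : y₂.LiesOver p := ⟨by
      rw [Ideal.under_def, IsScalarTower.algebraMap_eq R D D₂, ← Ideal.comap_comap, ← hy₂]
      exact y.over_def p⟩
    haveI : Algebra.Smooth R D₂ := Algebra.Smooth.comp R D D₂
    have hpt₂ : FlatCA.PurelyTranscendental p y₂ :=
      purelyTranscendental_of_fracSurj p y p (by simp) (fracSurj_of_surjective _ Function.surjective_id _)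
        y₂ hy₂ hf₂ hpt
    obtain ⟨R₃, _, _, p₃, _, y₃, _, u, hR₃, hy₃p, hy₃y, huy, hgi⟩ := exists_geomIrred_shrink p y₂ hpt₂
    let T := R₃ ⊗[R] D₂
    let D' := Localization.Away u
    let y' : Ideal D' := y₃.map (algebraMap T D')
    haveI : y'.IsPrime := isPrime_map_away u y₃ huy
    haveI : y'.LiesOver y₃ := liesOver_map_away u y₃ huy
    haveI : Algebra.Etale R R₃ := hR₃.1
    obtain ⟨hpp₃, hfp₃⟩ := isEtaleNhd_fracSurj hR₃
    haveI : Algebra.Etale D₂ T :=
      Algebra.Etale.of_equiv (A := D₂ ⊗[R] R₃)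
        ({ (Algebra.TensorProduct.comm R D₂ R₃).toRingEquiv with
          commutes' := fun d => by
            show Algebra.TensorProduct.comm R D₂ R₃ (d ⊗ₜ 1) = (1 : R₃) ⊗ₜ d
            simp } : D₂ ⊗[R] R₃ ≃ₐ[D₂] T)
    have hnhdT : FlatCA.IsEtaleNhd D₂ T y₂ y₃ :=
      isEtaleNhd_of_fracSurj hy₃y.symm (fracSurj_of_generated (algebraMap R R₃) (algebraMap R D₂)
        (Algebra.TensorProduct.includeLeftRingHom : R₃ →+* T) (algebraMap D₂ T)
        (RingHom.ext fun r => by
          show (algebraMap R R₃ r) ⊗ₜ[R] (1 : D₂) = (1 : R₃) ⊗ₜ[R] algebraMap R D₂ r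
          rw [Algebra.algebraMap_eq_smul_one, Algebra.algebraMap_eq_smul_one, TensorProduct.smul_tmul])
        (closure_range_tensor R R₃ D₂) y₃ (hy₃p.symm ▸ hfp₃))
    letI : Algebra D T := ((algebraMap D₂ T).comp (algebraMap D D₂)).toAlgebra
    haveI : IsScalarTower D D₂ T := IsScalarTower.of_algebraMap_eq fun _ => rfl
    haveI : IsScalarTower D T D' := inferInstance
    haveI : IsScalarTower R D D' := IsScalarTower.of_algebraMap_eq fun r => by
      rw [IsScalarTower.algebraMap_apply D T D']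
      show _ = algebraMap T D' (algebraMap D₂ T (algebraMap D D₂ (algebraMap R D r)))
      rw [← IsScalarTower.algebraMap_apply R D D₂, IsScalarTower.algebraMap_apply R T D']
      refine congrArg _ ?_
      show (algebraMap R R₃ r) ⊗ₜ[R] (1 : D₂) = (1 : R₃) ⊗ₜ[R] algebraMap R D₂ r
      rw [Algebra.algebraMap_eq_smul_one, Algebra.algebraMap_eq_smul_one, TensorProduct.smul_tmul]
    haveI : y'.LiesOver p₃ := ⟨by
      rw [Ideal.under_def, IsScalarTower.algebraMap_eq R₃ T D', ← Ideal.comap_comap]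
      rw [show y'.comap (algebraMap T D') = y₃ from (y'.over_def y₃).symm]
      exact hy₃p.symm⟩
    refine ⟨R₃, D', _, _, _, _, _, inferInstance, _, inferInstance, p₃, ‹_›, y', ‹_›, ‹_›, hR₃,
      isEtaleNhd_comp (isEtaleNhd_comp hnhd₂ hnhdT) (isEtaleNhd_away u huy), hgi, Or.inl ?_⟩
    refine subsingleton_tensor_of_isUnit (d := d) ?_ K fun k => Module.mem_annihilator.mp hdK k
    exact ((IsLocalization.Away.algebraMap_isUnit (S := D₂) d).map (algebraMap D₂ T)).map (algebraMap T D')
  · obtain ⟨R₂, D₂, _, _, _, _, _, _, _, _, p₂, y₂, _, _, hR₂, hD₂, hyp₂, hd⟩ := hK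
    haveI := hyp₂
    haveI : Algebra.Etale R R₂ := hR₂.1
    haveI : Algebra.Etale D D₂ := hD₂.1
    obtain ⟨hpp₂, hfp₂⟩ := isEtaleNhd_fracSurj hR₂
    obtain ⟨hy₂, hfy₂⟩ := isEtaleNhd_fracSurj hD₂
    obtain ⟨hsm₂, -⟩ := smooth_nhd (R' := R₂) (D' := D₂) hn
    haveI := hsm₂
    have hpt₂ : FlatCA.PurelyTranscendental p₂ y₂ :=
      purelyTranscendental_of_fracSurj p y p₂ hpp₂ hfp₂ y₂ hy₂ hfy₂ hpt
    obtain ⟨R₃, _, _, p₃, _, y₃, _, u, hR₃, hy₃p, hy₃y, huy, hgi⟩ := exists_geomIrred_shrink p₂ y₂ hpt₂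
    let T := R₃ ⊗[R₂] D₂
    obtain ⟨hpp₃, hfp₃⟩ := isEtaleNhd_fracSurj hR₃
    haveI : Algebra.Etale R₂ R₃ := hR₃.1
    haveI : p₃.LiesOver p₂ := ⟨hpp₃⟩
    haveI : y₃.LiesOver p₃ := ⟨hy₃p.symm⟩
    haveI : y₃.LiesOver y₂ := ⟨hy₃y.symm⟩
    have hdT : FlatCA.HasCompleteDevissageAt R₃ T (T ⊗[D₂] (D₂ ⊗[D] K)) p₃ y₃ :=
      hcd_baseChange hd R₃ p₃ (bijective_of_fracSurj hpp₃ hfp₃) T (T ⊗[D₂] (D₂ ⊗[D] K))
        (TensorProduct.mk D₂ T (D₂ ⊗[D] K) 1) (TensorProduct.isBaseChange D₂ (D₂ ⊗[D] K) T) y₃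
    obtain ⟨g, hX, hg, hXy, huX, hgX, _, _, hp₄, hy₄, hsurj, hd₄⟩ := hcd_shrink hdT huy
    obtain ⟨w, rfl⟩ := huX
    let R₄ := Localization.Away g
    let D' := Localization.Away (u * w)
    let p₄ := p₃.map (algebraMap R₃ R₄)
    let y' : Ideal D' := y₃.map (algebraMap T D')
    haveI : p₄.LiesOver p₃ := liesOver_map_away g p₃ hg
    haveI : y'.LiesOver y₃ := liesOver_map_away (u * w) y₃ hXy
    haveI : y'.LiesOver p₃ := Ideal.LiesOver.trans y' y₃ p₃
    haveI : y'.LiesOver p₄ := SH.liesOver_localization g y' p₃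
    haveI : Algebra.Etale D₂ T :=
      Algebra.Etale.of_equiv (A := D₂ ⊗[R₂] R₃)
        ({ (Algebra.TensorProduct.comm R₂ D₂ R₃).toRingEquiv with
          commutes' := fun d => by
            show Algebra.TensorProduct.comm R₂ D₂ R₃ (d ⊗ₜ 1) = (1 : R₃) ⊗ₜ d
            simp } : D₂ ⊗[R₂] R₃ ≃ₐ[D₂] T)
    have hnhdT : FlatCA.IsEtaleNhd D₂ T y₂ y₃ :=
      isEtaleNhd_of_fracSurj hy₃y.symm (fracSurj_of_generated (algebraMap R₂ R₃) (algebraMap R₂ D₂)
        (Algebra.TensorProduct.includeLeftRingHom : R₃ →+* T) (algebraMap D₂ T)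
        (RingHom.ext fun r => by
          show (algebraMap R₂ R₃ r) ⊗ₜ[R₂] (1 : D₂) = (1 : R₃) ⊗ₜ[R₂] algebraMap R₂ D₂ r
          rw [Algebra.algebraMap_eq_smul_one, Algebra.algebraMap_eq_smul_one, TensorProduct.smul_tmul])
        (closure_range_tensor R₂ R₃ D₂) y₃ (hy₃p.symm ▸ hfp₃))
    letI : Algebra R R₃ := ((algebraMap R₂ R₃).comp (algebraMap R R₂)).toAlgebra
    haveI : IsScalarTower R R₂ R₃ := IsScalarTower.of_algebraMap_eq fun _ => rfl
    haveI : IsScalarTower R R₃ R₄ := inferInstance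
    letI : Algebra D T := ((algebraMap D₂ T).comp (algebraMap D D₂)).toAlgebra
    haveI : IsScalarTower D D₂ T := IsScalarTower.of_algebraMap_eq fun _ => rfl
    haveI : IsScalarTower D T D' := inferInstance
    haveI : IsScalarTower R R₄ D' := IsScalarTower.of_algebraMap_eq fun r => by
      rw [IsScalarTower.algebraMap_apply R T D', IsScalarTower.algebraMap_apply R R₃ R₄,
        ← IsScalarTower.algebraMap_apply R₃ R₄ D', IsScalarTower.algebraMap_apply R₃ T D']
      rfl
    haveI : IsScalarTower R D D' := IsScalarTower.of_algebraMap_eq fun r => by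
      rw [IsScalarTower.algebraMap_apply D T D', IsScalarTower.algebraMap_apply R R₄ D',
        IsScalarTower.algebraMap_apply R R₃ R₄]
      show algebraMap R₄ D' (algebraMap R₃ R₄ (algebraMap R₂ R₃ (algebraMap R R₂ r))) =
        algebraMap T D' (algebraMap D₂ T (algebraMap D D₂ (algebraMap R D r)))
      rw [← IsScalarTower.algebraMap_apply R D D₂, IsScalarTower.algebraMap_apply R R₂ D₂,
        ← IsScalarTower.algebraMap_apply R₃ R₄ D', IsScalarTower.algebraMap_apply R₃ T D']
      refine congrArg _ ?_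
      exact algebraMap_tmul_one (algebraMap R R₂ r)
    have hgi' : FlatCA.GeomIrredFibres R₄ D' := by
      let W := Localization.Away u
      let lf : W →+* D' := IsLocalization.Away.lift u (g := algebraMap T D')
        (isUnit_of_mul_isUnit_left ((map_mul (algebraMap T D') u w).symm ▸
          IsLocalization.Away.algebraMap_isUnit (S := D') (u * w)))
      letI : Algebra W D' := lf.toAlgebra
      haveI : IsScalarTower T W D' := IsScalarTower.of_algebraMap_eq fun t =>
        (IsLocalization.Away.lift_eq u _ t).symm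
      haveI : IsScalarTower R₃ W D' := IsScalarTower.of_algebraMap_eq fun r => by
        rw [IsScalarTower.algebraMap_apply R₃ T D', IsScalarTower.algebraMap_apply R₃ T W,
          ← IsScalarTower.algebraMap_apply T W D']
      haveI : IsLocalization.Away (algebraMap T W w) D' := away_image u w
      exact geomIrredFibres_localization (R := R₃) (D := W) (R₁ := R₄) (D₁ := D') g (algebraMap T W w)
        hgi hsurj
    refine ⟨R₄, D', _, _, _, _, _, inferInstance, _, inferInstance, p₄, hp₄, y', hy₄, ‹_›,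
      isEtaleNhd_comp (isEtaleNhd_comp hR₂ hR₃) (isEtaleNhd_away g hg),
      isEtaleNhd_comp (isEtaleNhd_comp hD₂ hnhdT) (isEtaleNhd_away (u * w) hXy), hgi', Or.inr ?_⟩
    refine hcd_congr ?_ hd₄
    exact (AlgebraTensorModule.cancelBaseChange D T D' D' K).symm ≪≫ₗ
      AlgebraTensorModule.congr (LinearEquiv.refl D' D')
        (AlgebraTensorModule.cancelBaseChange D D₂ T T K).symm ≪≫ₗ
      (LocalizedModule.equivTensorProduct (Submonoid.powers (u * w)) (T ⊗[D₂] (D₂ ⊗[D] K))).symm

/-- Existence of a complete dévissage after etale localization, by induction on the local dimension. -/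
theorem exists_loc : ∀ (m : ℕ) (R S : Type u) [CommRing R] [CommRing S] [Algebra R S]
    [Algebra.FiniteType R S] (N : Type u) [AddCommGroup N] [Module S N] [Module.Finite S N]
    (p : Ideal R) [p.IsPrime] (q : Ideal S) [q.IsPrime] [q.LiesOver p] (x : PrimeSpectrum (p.Fiber S))
    (hx : x ∈ Module.support (p.Fiber S) (FlatCA.fiberMod p S N)),
    x.asIdeal = FlatCA.fiberIdeal p q →
    FlatMor.localDim (Module.support (p.Fiber S) (FlatCA.fiberMod p S N)) ⟨x, hx⟩ = m →
    Loc R S N p q := by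
  intro m
  induction m using Nat.strong_induction_on with
  | h m ih =>
  intro R S _ _ _ _ N _ _ _ p _ q _ _ x hx hxq hm
  classical
  letI : Module R N := Module.compHom N (algebraMap R S)
  haveI : IsScalarTower R S N := .of_algebraMap_smul fun _ _ => rfl
  obtain ⟨E⟩ := exists_elemDevissage N p q m x hxq hx hm
  haveI : Algebra.Etale R E.R' := E.etaleR.1
  haveI : Algebra.Etale S E.S' := E.etaleS.1
  haveI : Algebra.FiniteType R E.S' := Algebra.FiniteType.trans ‹Algebra.FiniteType R S› inferInstance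
  haveI : Algebra.FiniteType E.R' E.S' := .of_restrictScalars_finiteType R _ _
  haveI : Module.Finite E.D E.C := E.finiteDC
  haveI : Module.Finite E.C E.G := E.finiteG
  haveI : Module.Finite E.S' E.N' := Module.Finite.equiv E.isBaseChange.equiv
  haveI : Algebra.Smooth E.R' E.D := smooth_of_relDim E.smooth
  have hgi : FlatCA.GeomIrredFibres E.R' E.D := geomIrredFibres_of_geomIntegral E.geomInt
  haveI : (E.p'.map (algebraMap E.R' E.D)).IsPrime := isPrime_map E.R' E.D E.p' hgi
  haveI : Module.Finite E.D E.G := Module.Finite.trans E.C E.G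
  have hqS : (⟨q, inferInstance⟩ : PrimeSpectrum S) ∈ Module.support S N := by
    have := (H06EGA12.mem_support_baseChange_iff N x).mp hx
    convert this using 2
    show q = x.asIdeal.comap (algebraMap S (p.Fiber S))
    rw [hxq, comap_fiberIdeal]
  have hq' : (⟨E.q', inferInstance⟩ : PrimeSpectrum E.S') ∈ Module.support E.S' E.N' := by
    rw [← E.isBaseChange.equiv.support_eq]
    refine (H06EGA12.mem_support_baseChange_iff N _).mpr ?_
    convert hqS using 2
    exact E.etaleS.2.1.over.symm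
  refine Loc.comp E.R' E.S' E.etaleR E.etaleS E.isBaseChange ?_
  by_cases hη : (⟨E.p'.map (algebraMap E.R' E.D), inferInstance⟩ : PrimeSpectrum E.D) ∈
      Module.support E.D E.G
  · obtain ⟨r, α, hα⟩ := FiberBasis.exists_basis (N := E.G) (E.p'.map (algebraMap E.R' E.D))
    let K := E.G ⧸ LinearMap.range α
    have hKη : (⟨E.p'.map (algebraMap E.R' E.D), inferInstance⟩ : PrimeSpectrum E.D) ∉
        Module.support E.D K := by
      refine Module.notMem_support_iff'.mpr fun k => ?_
      obtain ⟨v, rfl⟩ := Submodule.Quotient.mk_surjective _ k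
      obtain ⟨s, hs, hsv⟩ := FiberBasis.exists_smul_mem_range _ α hα.2 v
      exact ⟨s, hs, by rw [← Submodule.Quotient.mk_smul]; exact (Submodule.Quotient.mk_eq_zero _).mpr hsv⟩
    have hK : (⟨E.y, inferInstance⟩ : PrimeSpectrum E.D) ∉ Module.support E.D K ∨
        Loc E.R' E.D K E.p' E.y := by
      by_cases hy : (⟨E.y, inferInstance⟩ : PrimeSpectrum E.D) ∈ Module.support E.D K
      · obtain ⟨x', hx', m', hxy', hm'⟩ := exists_point K E.p' E.y hy
        obtain ⟨m₁, hm₁, hm₁'⟩ := localDim_lt (R := E.R') (S := E.D) (C := E.D) (D := E.D) (N := K) (G := K)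
          E.p' Function.surjective_id (LinearEquiv.refl E.D K) E.smooth hgi hKη x' hx'
        exact Or.inr (ih m₁ hm₁ E.R' E.D K E.p' E.y x' hx' hxy' hm₁')
      · exact Or.inl hy
    obtain ⟨R', D', _, _, _, _, _, _, _, _, p', _, y', _, _, hR', hD', hgi', htail⟩ :=
      exists_tail K E.p' E.y E.pureTrans E.smooth hK
    haveI : Algebra.Etale E.R' R' := hR'.1
    haveI : Algebra.Etale E.D D' := hD'.1
    obtain ⟨hsm', hn'⟩ := smooth_nhd (R' := R') (D' := D') E.smooth
    haveI := hsm'
    obtain ⟨S', _, _, _, _, _, _, q', _, hS', hq'p, hd⟩ := exists_transport E.N' E.G E.p' E.q' E.y E.z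
      (E.z.over_def E.q') E.surjC E.fpC E.iso hgi E.pureTrans E.uniq hη α hα R' D' p' y' hR' hgi' m hn'
      hD' htail
    exact ⟨R', S', _, _, _, _, _, _, inferInstance, inferInstance, p', q', ‹_›, ‹_›, hR', hS', hq'p, hd⟩
  · obtain ⟨x', hx', m', hxq', hm'⟩ := exists_point E.N' E.p' E.q' hq'
    obtain ⟨m₁, hm₁, hm₁'⟩ := localDim_lt E.p' E.surjC E.iso E.smooth hgi hη x' hx'
    exact ih m₁ hm₁ E.R' E.S' E.N' E.p' E.q' x' hx' hxq' hm₁'

end Groth.Agent.H7Flat.Chain
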