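import Groth.Agent.H7Flat.Chain.PureOpen
import Groth.Agent.H7Flat.GenericFreeness
import Mathlib

/-!
# Associated points of fibres near the generic point of the base
-/

set_option autoImplicit false
set_option linter.style.haveILetI false
set_option backward.isDefEq.respectTransparency false
set_option maxHeartbeats 1000000
set_option synthInstance.maxHeartbeats 400000

universe u

open TensorProduct Topology PrimeSpectrum FlatMor Groth.Agent.H8Props.Devissage

attribute [local instance] Algebra.TensorProduct.rightAlgebra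

namespace Groth.Agent.H7Flat.Chain

/-- All associated points of the fibre avoid the zero locus of the elements. -/
def AssAvoid {A B : Type u} [CommRing A] [CommRing B] [Algebra A B] (N : Type u) [AddCommGroup N] [Module B N]
    [Module A N] [IsScalarTower A B N] {k : ℕ} (g : Fin k → B) (t : PrimeSpectrum A) : Prop :=
  ∀ (Q : Ideal B) [Q.IsPrime], Q.LiesOver t.asIdeal →
    FlatCA.fiberIdeal t.asIdeal Q ∈ associatedPrimes (t.asIdeal.Fiber B) (FlatCA.fiberMod t.asIdeal B N) →
    ∃ i, g i ∉ Q

/-- The locus of fibres with associated points avoiding a finitely generated ideal is constructible. -/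
theorem isConstructible_assAvoid {A B : Type u} [CommRing A] [CommRing B] [Algebra A B]
    [Algebra.FinitePresentation A B] (N : Type u) [AddCommGroup N] [Module B N] [Module A N]
    [IsScalarTower A B N] [Module.FinitePresentation B N] {k : ℕ} (g : Fin k → B) :
    IsConstructible {t : PrimeSpectrum A | AssAvoid N g t} := by
  convert isConstructible_jointInjLocus (A := A) N g using 1
  exact Set.ext fun t => (mem_jointInjLocus_lsmul_iff N g t).symm

/-- A constructible condition is constant near the generic point of a domain. -/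
theorem exists_const_of_isConstructible {D : Type u} [CommRing D] [IsDomain D] {E : Set (PrimeSpectrum D)}
    (hE : IsConstructible E) :
    ∃ a : D, a ≠ 0 ∧ ∀ t : PrimeSpectrum D, a ∉ t.asIdeal → (t ∈ E ↔ (⟨⊥, Ideal.isPrime_bot⟩ : PrimeSpectrum D) ∈ E) := by
  have key : ∀ F : Set (PrimeSpectrum D), IsConstructible F → (⟨⊥, Ideal.isPrime_bot⟩ : PrimeSpectrum D) ∈ F →
      ∃ a : D, a ≠ 0 ∧ ∀ t : PrimeSpectrum D, a ∉ t.asIdeal → t ∈ F := fun F hF h0 => by
    obtain ⟨S, rfl⟩ := PrimeSpectrum.exists_constructibleSetData_iff.mpr hF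
    obtain ⟨C, hC, hg, hf⟩ := Set.mem_iUnion₂.mp h0
    refine ⟨C.f, fun h => hf ?_, fun t ht => Set.mem_iUnion₂.mpr ⟨C, hC, ?_, ?_⟩⟩
    · simp [h]
    · refine (mem_zeroLocus _ _).mpr fun z hz => ?_
      have hz0 : z ∈ (⊥ : Ideal D) := (mem_zeroLocus _ _).mp hg hz
      rw [Ideal.mem_bot.mp hz0]
      exact zero_mem _
    · simpa [mem_zeroLocus] using ht
  by_cases h0 : (⟨⊥, Ideal.isPrime_bot⟩ : PrimeSpectrum D) ∈ E
  · obtain ⟨a, ha, h⟩ := key E hE h0
    exact ⟨a, ha, fun t ht => iff_of_true (h t ht) h0⟩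
  · obtain ⟨a, ha, h⟩ := key Eᶜ hE.compl h0
    exact ⟨a, ha, fun t ht => iff_of_false (h t ht) h0⟩

/-- Over a domain the condition on associated points is constant near the generic point. -/
theorem exists_assAvoid_const {D B : Type u} [CommRing D] [IsDomain D] [CommRing B] [Algebra D B]
    [Algebra.FiniteType D B] (N : Type u) [AddCommGroup N] [Module B N] [Module D N] [IsScalarTower D B N]
    [Module.Finite B N] {k : ℕ} (g : Fin k → B) :
    ∃ a : D, a ≠ 0 ∧ ∀ t : PrimeSpectrum D, a ∉ t.asIdeal →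
      (t ∈ jointInjLocus D (fun i => (LinearMap.lsmul B N (g i)).restrictScalars D) ↔
        (⟨⊥, Ideal.isPrime_bot⟩ : PrimeSpectrum D) ∈
          jointInjLocus D (fun i => (LinearMap.lsmul B N (g i)).restrictScalars D)) := by
  obtain ⟨h₁, h₁0, hB⟩ := exists_finitePresentation_algebra (R := D) B
  obtain ⟨h₂, h₂0, hN⟩ := exists_finitePresentation_module (R := D) B N
  let h := h₁ * h₂
  let Dh := Localization.Away h
  let Bh := Localization.Away (algebraMap D B h)
  letI : Algebra Dh Bh := (IsLocalization.Away.lift h (g := algebraMap D Bh)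
    (by rw [IsScalarTower.algebraMap_apply D B Bh]; exact IsLocalization.Away.algebraMap_isUnit _)).toAlgebra
  haveI : IsScalarTower D Dh Bh := IsScalarTower.of_algebraMap_eq fun z =>
    (IsLocalization.Away.lift_eq (g := algebraMap D Bh) h _ z).symm
  haveI : IsLocalization (Algebra.algebraMapSubmonoid B (Submonoid.powers h)) Bh := by
    rw [Algebra.algebraMapSubmonoid, Submonoid.map_powers]
    infer_instance
  haveI : Algebra.IsPushout D B Dh Bh := Algebra.isPushout_of_isLocalization (Submonoid.powers h) Dh B Bh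
  haveI : Algebra.IsPushout D Dh B Bh := Algebra.IsPushout.symm ‹_›
  haveI : Algebra.FinitePresentation Dh Bh := by
    haveI := hB h (dvd_mul_right h₁ h₂)
    exact Algebra.FinitePresentation.equiv (Algebra.IsPushout.equiv D Dh B Bh)
  let Nh := LocalizedModule (Submonoid.powers (algebraMap D B h)) N
  haveI : Module.FinitePresentation Bh Nh := hN h (dvd_mul_left h₂ h₁)
  letI : Module Dh Nh := Module.compHom Nh (algebraMap Dh Bh)
  haveI : IsScalarTower Dh Bh Nh := IsScalarTower.of_algebraMap_smul fun _ _ => rfl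
  haveI : IsScalarTower D Dh Nh := IsScalarTower.of_algebraMap_smul fun r x => by
    show algebraMap Dh Bh (algebraMap D Dh r) • x = r • x
    rw [← IsScalarTower.algebraMap_apply, algebraMap_smul]
  let mk : N →ₗ[B] Nh := LocalizedModule.mkLinearMap (Submonoid.powers (algebraMap D B h)) N
  have hbc : IsBaseChange Bh mk :=
    (isLocalizedModule_iff_isBaseChange (Submonoid.powers (algebraMap D B h)) Bh mk).mp inferInstance
  have hc : IsBaseChange Dh (mk.restrictScalars D) := isBaseChange_restrict hbc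
  have hv : ∀ i x, (LinearMap.lsmul Bh Nh (algebraMap B Bh (g i))).restrictScalars Dh (mk.restrictScalars D x) =
      mk.restrictScalars D ((LinearMap.lsmul B N (g i)).restrictScalars D x) := fun i x => by
    show algebraMap B Bh (g i) • mk x = mk (g i • x)
    rw [algebraMap_smul, map_smul]
  haveI : IsDomain Dh := IsLocalization.isDomain_of_le_nonZeroDivisors Dh
    (powers_le_nonZeroDivisors_of_noZeroDivisors (mul_ne_zero h₁0 h₂0))
  obtain ⟨a, ha, hconst⟩ := exists_const_of_isConstructible
    (isConstructible_jointInjLocus (A := Dh) Nh fun i => algebraMap B Bh (g i))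
  have hh : h ≠ 0 := mul_ne_zero h₁0 h₂0
  obtain ⟨n, a₀, ha₀⟩ := IsLocalization.Away.surj h a
  have hinj : Function.Injective (algebraMap D Dh) :=
    IsLocalization.injective Dh (powers_le_nonZeroDivisors_of_noZeroDivisors hh)
  have hu : IsUnit (algebraMap D Dh h ^ n) := (IsLocalization.Away.algebraMap_isUnit h).pow n
  refine ⟨h * a₀, mul_ne_zero hh fun h0 => ha ?_, fun t ht => ?_⟩
  · rw [h0, map_zero] at ha₀
    exact hu.mul_left_eq_zero.mp ha₀
  have hht : h ∉ t.asIdeal := fun hm => ht (t.asIdeal.mul_mem_right _ hm)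
  haveI : (t.asIdeal.map (algebraMap D Dh)).IsPrime := isPrime_map_away h t.asIdeal hht
  let th : PrimeSpectrum Dh := ⟨t.asIdeal.map (algebraMap D Dh), inferInstance⟩
  have hth : PrimeSpectrum.comap (algebraMap D Dh) th = t :=
    PrimeSpectrum.ext (liesOver_map_away h t.asIdeal hht).over.symm
  have hb0 : PrimeSpectrum.comap (algebraMap D Dh) ⟨⊥, Ideal.isPrime_bot⟩ = ⟨⊥, Ideal.isPrime_bot⟩ :=
    PrimeSpectrum.ext (Ideal.comap_bot_of_injective _ hinj)
  rw [← hth, ← hb0, ← mem_jointInjLocus_iff _ _ hc hv, ← mem_jointInjLocus_iff _ _ hc hv]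
  refine hconst th fun hm => ht (t.asIdeal.mul_mem_left _ ?_)
  rw [← (liesOver_map_away (S₁ := Dh) h t.asIdeal hht).over.symm, Ideal.mem_comap, ← ha₀]
  exact Ideal.mul_mem_right _ _ hm

/-- The condition on associated points after base change to a domain. -/
theorem exists_assAvoid_const_baseChange {A B D B' : Type u} [CommRing A] [CommRing B] [CommRing D] [IsDomain D]
    [CommRing B'] [Algebra A B] [Algebra A D] [Algebra D B'] [Algebra B B'] [Algebra A B'] [IsScalarTower A D B']
    [IsScalarTower A B B'] [Algebra.IsPushout A D B B'] [Algebra.FiniteType D B'] (N : Type u) [AddCommGroup N]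
    [Module B N] [Module A N] [IsScalarTower A B N] [Module.Finite B N] {k : ℕ} (g : Fin k → B) :
    ∃ a : D, a ≠ 0 ∧ ∀ t : PrimeSpectrum D, a ∉ t.asIdeal →
      (PrimeSpectrum.comap (algebraMap A D) t ∈
          jointInjLocus A (fun i => (LinearMap.lsmul B N (g i)).restrictScalars A) ↔
        PrimeSpectrum.comap (algebraMap A D) ⟨⊥, Ideal.isPrime_bot⟩ ∈
          jointInjLocus A (fun i => (LinearMap.lsmul B N (g i)).restrictScalars A)) := by
  let N' := B' ⊗[B] N
  let mk : N →ₗ[B] N' := TensorProduct.mk B B' N 1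
  haveI : IsScalarTower A D N' := IsScalarTower.of_algebraMap_smul fun r x => by
    rw [← algebraMap_smul B' (algebraMap A D r) x, ← IsScalarTower.algebraMap_apply, algebraMap_smul]
  haveI : IsScalarTower A B N' := IsScalarTower.of_algebraMap_smul fun (r : A) (z : N') => by
    rw [← algebraMap_smul B' (algebraMap A B r) z, ← IsScalarTower.algebraMap_apply, algebraMap_smul]
  have hc : IsBaseChange D (mk.restrictScalars A) := isBaseChange_restrict (TensorProduct.isBaseChange B N B')
  have hv : ∀ i x, (LinearMap.lsmul B' N' (algebraMap B B' (g i))).restrictScalars D (mk.restrictScalars A x) =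
      mk.restrictScalars A ((LinearMap.lsmul B N (g i)).restrictScalars A x) := fun i x => by
    show algebraMap B B' (g i) • mk x = mk (g i • x)
    rw [algebraMap_smul, map_smul]
  obtain ⟨a, ha, hconst⟩ := exists_assAvoid_const (D := D) N' fun i => algebraMap B B' (g i)
  refine ⟨a, ha, fun t ht => ?_⟩
  rw [← mem_jointInjLocus_iff _ _ hc hv, ← mem_jointInjLocus_iff _ _ hc hv]
  exact hconst t ht

/-- The condition on associated points is constant near a generic point of the base. -/
theorem exists_assAvoid_nhd {A B : Type u} [CommRing A] [CommRing B] [Algebra A B] [Algebra.FiniteType A B]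
    (N : Type u) [AddCommGroup N] [Module B N] [Module A N] [IsScalarTower A B N] [Module.Finite B N]
    {k : ℕ} (g : Fin k → B) (t₀ : PrimeSpectrum A) (ht₀ : ∀ t : PrimeSpectrum A, t₀.asIdeal ≤ t.asIdeal) :
    ∃ a : A, a ∉ t₀.asIdeal ∧ ∀ t : PrimeSpectrum A, a ∉ t.asIdeal → (AssAvoid N g t ↔ AssAvoid N g t₀) := by
  let D := A ⧸ t₀.asIdeal
  obtain ⟨a, ha, hconst⟩ := exists_assAvoid_const_baseChange (A := A) (D := D) (B' := D ⊗[A] B) N g
  obtain ⟨a, rfl⟩ := Ideal.Quotient.mk_surjective a
  refine ⟨a, fun h => ha (Ideal.Quotient.eq_zero_iff_mem.mpr h), fun t ht => ?_⟩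
  have hlift : ∀ s : PrimeSpectrum A, ∃ s' : PrimeSpectrum D, PrimeSpectrum.comap (algebraMap A D) s' = s := by
    intro s
    have hs : s ∈ Set.range (PrimeSpectrum.comap (Ideal.Quotient.mk t₀.asIdeal)) := by
      rw [_root_.range_comap_of_surjective _ _ Ideal.Quotient.mk_surjective, Ideal.mk_ker]
      exact (mem_zeroLocus _ _).mpr (ht₀ s)
    exact hs
  obtain ⟨t', rfl⟩ := hlift t
  obtain ⟨t₀', ht₀'⟩ := hlift t₀
  have h0 : t₀' = ⟨⊥, Ideal.isPrime_bot⟩ := by
    refine PrimeSpectrum.ext ?_
    have h1 : t₀'.asIdeal.comap (Ideal.Quotient.mk t₀.asIdeal) = t₀.asIdeal := congrArg PrimeSpectrum.asIdeal ht₀'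
    show t₀'.asIdeal = ⊥
    rw [← Ideal.map_comap_of_surjective _ Ideal.Quotient.mk_surjective t₀'.asIdeal, h1, Ideal.map_quotient_self]
  subst h0
  unfold AssAvoid
  conv_rhs => rw [← ht₀']
  rw [← mem_jointInjLocus_lsmul_iff, ← mem_jointInjLocus_lsmul_iff]
  exact hconst t' ht

/-- Finitely many elements of a set cut out the same subset of a fibre as the whole set. -/
theorem exists_finite_cut {A B : Type u} [CommRing A] [CommRing B] [Algebra A B] [Algebra.FiniteType A B]
    (G : Set B) (p : Ideal A) [p.IsPrime] :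
    ∃ (k : ℕ) (g : Fin k → B), (∀ i, g i ∈ G) ∧
      ∀ s ∈ Ideal.span G, algebraMap B (p.Fiber B) s ∈ Ideal.span (algebraMap B (p.Fiber B) '' Set.range g) := by
  classical
  have : IsNoetherianRing (p.Fiber B) := Algebra.FiniteType.isNoetherianRing p.ResidueField _
  obtain ⟨F', hF', hspan⟩ := (Submodule.fg_span_iff_fg_span_finset_subset
    ((algebraMap B (p.Fiber B)) '' G)).mp ((isNoetherianRing_iff_ideal_fg (p.Fiber B)).mp ‹_› (Ideal.span ((algebraMap B (p.Fiber B)) '' G)))
  obtain ⟨F, hF, rfl⟩ := Finset.subset_set_image_iff.mp hF'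
  let e := F.equivFin
  refine ⟨F.card, fun i => (e.symm i : B), fun i => hF (e.symm i).2, fun s hs => ?_⟩
  have hr : Set.range (fun i => (e.symm i : B)) = (F : Set B) :=
    (e.symm.surjective.range_comp (Subtype.val : F → B)).trans Subtype.range_val
  rw [hr, ← Finset.coe_image]
  change _ ∈ Submodule.span (p.Fiber B) _
  rw [← hspan]
  have : (Ideal.span G).map (algebraMap B (p.Fiber B)) = Ideal.span (algebraMap B (p.Fiber B) '' G) :=
    Ideal.map_span _ _
  change _ ∈ Ideal.span ((algebraMap B (p.Fiber B)) '' G)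
  rw [← this]
  exact Ideal.mem_map_of_mem _ hs

/-- If all associated points of the generic fibre avoid a closed set then so do those of nearby fibres. -/
theorem exists_avoid_near {A B : Type u} [CommRing A] [CommRing B] [Algebra A B] [Algebra.FiniteType A B]
    (N : Type u) [AddCommGroup N] [Module B N] [Module A N] [IsScalarTower A B N] [Module.Finite B N]
    (G : Set B) (t₀ : PrimeSpectrum A) (ht₀ : ∀ t : PrimeSpectrum A, t₀.asIdeal ≤ t.asIdeal)
    (h : ∀ (Q : Ideal B) [Q.IsPrime], Q.LiesOver t₀.asIdeal →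
      FlatCA.fiberIdeal t₀.asIdeal Q ∈ associatedPrimes (t₀.asIdeal.Fiber B) (FlatCA.fiberMod t₀.asIdeal B N) →
      ∃ s ∈ G, s ∉ Q) :
    ∃ a : A, a ∉ t₀.asIdeal ∧ ∀ t : PrimeSpectrum A, a ∉ t.asIdeal → ∀ (Q : Ideal B) [Q.IsPrime],
      Q.LiesOver t.asIdeal →
      FlatCA.fiberIdeal t.asIdeal Q ∈ associatedPrimes (t.asIdeal.Fiber B) (FlatCA.fiberMod t.asIdeal B N) →
      ∃ s ∈ G, s ∉ Q := by
  obtain ⟨k, g, hg, hcut⟩ := exists_finite_cut (A := A) G t₀.asIdeal
  obtain ⟨a, ha, hconst⟩ := exists_assAvoid_nhd N g t₀ ht₀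
  refine ⟨a, ha, fun t ht Q _ hQ hass => ?_⟩
  have h0 : AssAvoid N g t₀ := fun P _ hP hPass => by
    by_contra hne
    push Not at hne
    obtain ⟨s, hs, hsP⟩ := h P hP hPass
    haveI := hP
    refine hsP ?_
    rw [← Groth.Agent.H7Flat.ImpurityDescend.comap_fiberIdeal t₀.asIdeal P, Ideal.mem_comap]
    refine Ideal.span_le.mpr ?_ (hcut s (Ideal.subset_span hs))
    rintro _ ⟨_, ⟨i, rfl⟩, rfl⟩
    exact Ideal.mem_map_of_mem _ (hne i)
  obtain ⟨i, hi⟩ := (hconst t ht).mpr h0 Q hQ hass
  exact ⟨g i, hg i, hi⟩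

/-- An associated point of the generic fibre has associated points of nearby fibres above it. -/
theorem exists_ass_above_near {A B : Type u} [CommRing A] [CommRing B] [Algebra A B] [Algebra.FiniteType A B]
    (N : Type u) [AddCommGroup N] [Module B N] [Module A N] [IsScalarTower A B N] [Module.Finite B N]
    (t₀ : PrimeSpectrum A) (ht₀ : ∀ t : PrimeSpectrum A, t₀.asIdeal ≤ t.asIdeal)
    (P : Ideal B) [P.IsPrime] [P.LiesOver t₀.asIdeal]
    (hP : FlatCA.fiberIdeal t₀.asIdeal P ∈ associatedPrimes (t₀.asIdeal.Fiber B) (FlatCA.fiberMod t₀.asIdeal B N)) :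
    ∃ a : A, a ∉ t₀.asIdeal ∧ ∀ t : PrimeSpectrum A, a ∉ t.asIdeal → ∃ Q : Ideal B, Q.IsPrime ∧ P ≤ Q ∧
      Q.LiesOver t.asIdeal ∧
      FlatCA.fiberIdeal t.asIdeal Q ∈ associatedPrimes (t.asIdeal.Fiber B) (FlatCA.fiberMod t.asIdeal B N) := by
  classical
  let p := t₀.asIdeal
  obtain ⟨k, g, hg, hcut⟩ := exists_finite_cut (A := A) (P : Set B) p
  obtain ⟨a, ha, hconst⟩ := exists_assAvoid_nhd N g t₀ ht₀
  -- the ideal of the elements modulo the base prime
  let J : Ideal B := Ideal.span (Set.range g) ⊔ p.map (algebraMap A B)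
  have hpJ : ∀ r ∈ p, ∀ m : B ⧸ J, r • m = 0 := fun r hr m => by
    rw [← algebraMap_smul B r m, Algebra.smul_def, Ideal.Quotient.algebraMap_eq,
      Ideal.Quotient.eq_zero_iff_mem.mpr (Ideal.mem_sup_right (Ideal.mem_map_of_mem _ hr)), zero_mul]
  have htor : Module.IsTorsionBySet A (B ⧸ J) (p : Set A) := fun m r => hpJ r r.2 m
  let D := A ⧸ p
  let C := B ⧸ J
  letI : Algebra D C := (Ideal.Quotient.lift p (algebraMap A C) fun r hr => by
    rw [IsScalarTower.algebraMap_apply A B C, Ideal.Quotient.algebraMap_eq]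
    exact Ideal.Quotient.eq_zero_iff_mem.mpr (Ideal.mem_sup_right (Ideal.mem_map_of_mem _ hr))).toAlgebra
  haveI : IsScalarTower A D C := IsScalarTower.of_algebraMap_eq fun _ => rfl
  haveI : Algebra.FiniteType A C := Algebra.FiniteType.trans ‹Algebra.FiniteType A B› inferInstance
  haveI : Algebra.FiniteType D C := Algebra.FiniteType.of_restrictScalars_finiteType A D C
  obtain ⟨f, hf0, hf⟩ := exists_isAwayFree_of_finiteType (R := D) C C
  obtain ⟨f, rfl⟩ := Ideal.Quotient.mk_surjective f
  let mk : C →ₗ[D] Localization.Away (Ideal.Quotient.mk p f) ⊗[D] C := TensorProduct.mk D _ C 1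
  haveI : IsLocalizedModule (Submonoid.powers (Ideal.Quotient.mk p f)) mk :=
    (isLocalizedModule_iff_isBaseChange _ (Localization.Away (Ideal.Quotient.mk p f)) mk).mpr
      (TensorProduct.isBaseChange D C _)
  haveI := hf.free_baseChange
  -- a multiple of every element of `P` lies in the ideal
  have key : ∀ s ∈ P, ∃ n : ℕ, algebraMap A B f ^ n * s ∈ J := fun s hs => by
    have h1 : algebraMap B (p.Fiber B) s • FlatCA.toFiberMod p B C (1 : C) = 0 := by
      have hle : Ideal.span (algebraMap B (p.Fiber B) '' Set.range g) ≤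
          (Submodule.span (p.Fiber B) {FlatCA.toFiberMod p B C (1 : C)}).annihilator := by
        refine Ideal.span_le.mpr ?_
        rintro _ ⟨_, ⟨i, rfl⟩, rfl⟩
        rw [SetLike.mem_coe, Submodule.mem_annihilator_span_singleton]
        refine (Groth.Agent.H02CA.FibreAss.fiber_smul (R := A) p (g i) _).symm.trans ?_
        rw [← map_smul, show g i • (1 : C) = 0 from ?_, map_zero]
        rw [Algebra.smul_def, mul_one, Ideal.Quotient.algebraMap_eq]
        exact Ideal.Quotient.eq_zero_iff_mem.mpr (Ideal.mem_sup_left (Ideal.subset_span ⟨i, rfl⟩))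
      exact (Submodule.mem_annihilator_span_singleton _ _).mp (hle (hcut s (Ideal.subset_span hs)))
    have h2 : FlatCA.toFiberMod p B C (s • (1 : C)) = 0 := by
      rw [map_smul]
      exact (Groth.Agent.H02CA.FibreAss.fiber_smul (R := A) p s _).trans h1
    obtain ⟨r, hr, hrs⟩ := (Groth.Agent.H02CA.FibreAss.toFiberMod_eq_zero_iff p _).mp h2
    have h3 : algebraMap A B r * s ∈ J := by
      have hle : p.map (algebraMap A B) • (⊤ : Submodule B C) ≤ ⊥ := Submodule.smul_le.mpr fun z hz m _ => by
        rw [Submodule.mem_bot, Algebra.smul_def, Ideal.Quotient.algebraMap_eq,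
          Ideal.Quotient.eq_zero_iff_mem.mpr (Ideal.mem_sup_right hz), zero_mul]
      have h4 := (Submodule.mem_bot B).mp (hle hrs)
      rw [Algebra.smul_def, Algebra.smul_def, mul_one, Ideal.Quotient.algebraMap_eq, ← map_mul,
        Ideal.Quotient.eq_zero_iff_mem] at h4
      exact h4
    have h5 : (Ideal.Quotient.mk p r) • (Ideal.Quotient.mk J s : C) = 0 := by
      rw [Algebra.smul_def]
      show Ideal.Quotient.mk J (algebraMap A B r) * Ideal.Quotient.mk J s = 0
      rw [← map_mul]
      exact Ideal.Quotient.eq_zero_iff_mem.mpr h3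
    have h6 : mk (Ideal.Quotient.mk J s) = 0 := by
      have hr0 : Ideal.Quotient.mk p r ≠ 0 := fun h => hr (Ideal.Quotient.eq_zero_iff_mem.mp h)
      have hle := powers_le_nonZeroDivisors_of_noZeroDivisors hf0
      haveI : IsDomain (Localization.Away (Ideal.Quotient.mk p f)) :=
        IsLocalization.isDomain_of_le_nonZeroDivisors _ hle
      have h7 : algebraMap D (Localization.Away (Ideal.Quotient.mk p f)) (Ideal.Quotient.mk p r) •
          mk (Ideal.Quotient.mk J s) = 0 := by
        rw [algebraMap_smul, ← map_smul, h5, map_zero]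
      refine (smul_eq_zero.mp h7).resolve_left fun h => hr0 ?_
      exact IsLocalization.injective (Localization.Away (Ideal.Quotient.mk p f)) hle (h.trans (map_zero _).symm)
    obtain ⟨⟨_, n, rfl⟩, hn⟩ := (IsLocalizedModule.eq_zero_iff (Submonoid.powers (Ideal.Quotient.mk p f)) mk).mp h6
    refine ⟨n, ?_⟩
    change (Ideal.Quotient.mk p f) ^ n • (Ideal.Quotient.mk J s : C) = 0 at hn
    rw [Algebra.smul_def, map_pow] at hn
    change Ideal.Quotient.mk J (algebraMap A B f) ^ n * Ideal.Quotient.mk J s = 0 at hn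
    rwa [← map_pow, ← map_mul, Ideal.Quotient.eq_zero_iff_mem] at hn
  refine ⟨a * f, fun hm => ?_, fun t ht => ?_⟩
  · rcases t₀.isPrime.mem_or_mem hm with h | h
    · exact ha h
    · exact hf0 (Ideal.Quotient.eq_zero_iff_mem.mpr h)
  have hna : ¬ AssAvoid N g t := fun h => by
    obtain ⟨i, hi⟩ := (hconst t fun hm => ht (t.asIdeal.mul_mem_right _ hm)).mp h P inferInstance hP
    exact hi (hg i)
  unfold AssAvoid at hna
  push Not at hna
  obtain ⟨Q, hQ, hQt, hass, hgQ⟩ := hna
  refine ⟨Q, hQ, fun s hs => ?_, hQt, hass⟩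
  haveI := hQt
  obtain ⟨n, hn⟩ := key s hs
  have hJQ : J ≤ Q := sup_le (Ideal.span_le.mpr fun z hz => by obtain ⟨i, rfl⟩ := hz; exact hgQ i)
    (Ideal.map_le_iff_le_comap.mpr ((ht₀ t).trans (Q.over_def t.asIdeal).le))
  refine (hQ.mem_or_mem (hJQ hn)).resolve_left fun h => ht (t.asIdeal.mul_mem_left _ ?_)
  rw [Q.over_def t.asIdeal]
  exact hQ.mem_of_pow_mem n h

end Groth.Agent.H7Flat.Chain
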