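import Groth.Agent.H7Flat.Chain.RelAssStalk
import Groth.Agent.H7Flat.Chain.RelAssGeneric
import Groth.Agent.H29Fitt.Sheaf
import Groth.Agent.H10Coh.FinType2
import Groth.Prelude.Def_MoreMor
import Mathlib

/-!
# The relative assassin on affine charts
-/

set_option autoImplicit false
set_option linter.style.haveILetI false
set_option backward.isDefEq.respectTransparency false
set_option maxHeartbeats 1000000

universe u

open AlgebraicGeometry CategoryTheory TensorProduct FlatMor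

namespace Groth.Agent.H7Flat.Chain.RelAss

variable {X Y : Scheme.{u}} (f : X ⟶ Y) [LocallyOfFiniteType f]

/-- The relative assassin read off on affine opens. -/
theorem mem_relAss_iff (F : X.Modules) (hF : Coh.IsQCoh F) {V : Y.Opens} (hV : IsAffineOpen V)
    {W : X.Opens} (hW : IsAffineOpen W) (hWV : W ≤ f ⁻¹ᵁ V) (x : W)
    [Algebra Γ(Y, V) Γ(X, W)] (halg : algebraMap Γ(Y, V) Γ(X, W) = (f.appLE V W hWV).hom)
    [Module Γ(Y, V) Γ(F, W)] [IsScalarTower Γ(Y, V) Γ(X, W) Γ(F, W)] :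
    x.1 ∈ MoreMor.relAss f F ↔
      FlatCA.fiberIdeal (hV.primeIdealOf ⟨f x.1, hWV x.2⟩).asIdeal (hW.primeIdealOf x).asIdeal ∈
        associatedPrimes ((hV.primeIdealOf ⟨f x.1, hWV x.2⟩).asIdeal.Fiber Γ(X, W))
          (FlatCA.fiberMod (hV.primeIdealOf ⟨f x.1, hWV x.2⟩).asIdeal Γ(X, W) Γ(F, W)) := by
  haveI : Algebra.FiniteType Γ(Y, V) Γ(X, W) := by
    have h : (f.appLE V W hWV).hom.FiniteType := f.finiteType_appLE hV hW hWV
    rw [← halg] at h
    exact RingHom.finiteType_algebraMap.mp h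
  set q := hW.primeIdealOf x with hq
  set p := hV.primeIdealOf ⟨f x.1, hWV x.2⟩ with hp
  letI := TopCat.Presheaf.algebra_section_stalk X.presheaf x
  letI := TopCat.Presheaf.algebra_section_stalk Y.presheaf (⟨f x.1, hWV x.2⟩ : V)
  letI := Module.compHom (F.presheaf.stalk x.1) (algebraMap Γ(X, W) (X.presheaf.stalk x.1))
  haveI : IsScalarTower Γ(X, W) (X.presheaf.stalk x.1) (F.presheaf.stalk x.1) :=
    IsScalarTower.of_algebraMap_smul fun _ _ => rfl
  haveI : IsLocalization q.asIdeal.primeCompl (X.presheaf.stalk x.1) := hW.isLocalization_stalk x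
  haveI : IsLocalization p.asIdeal.primeCompl (Y.presheaf.stalk (f x.1)) :=
    hV.isLocalization_stalk ⟨f x.1, hWV x.2⟩
  haveI : IsLocalizedModule q.asIdeal.primeCompl (H29Fitt.germLin F x) :=
    H29Fitt.isLocalizedModule_germLin F hF hW x
  haveI : q.asIdeal.LiesOver p.asIdeal := ⟨by
    rw [Ideal.under_def, halg]
    exact (congrArg PrimeSpectrum.asIdeal (IsAffineOpen.comap_primeIdealOf_appLE (f := f) V hV W hW hWV x.2)).symm⟩
  letI : Algebra Γ(Y, V) (X.presheaf.stalk x.1) :=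
    ((algebraMap Γ(X, W) (X.presheaf.stalk x.1)).comp (algebraMap Γ(Y, V) Γ(X, W))).toAlgebra
  haveI : IsScalarTower Γ(Y, V) Γ(X, W) (X.presheaf.stalk x.1) := IsScalarTower.of_algebraMap_eq fun _ => rfl
  have hcomm : (f.stalkMap x.1).hom.comp (algebraMap Γ(Y, V) (Y.presheaf.stalk (f x.1))) =
      algebraMap Γ(Y, V) (X.presheaf.stalk x.1) := by
    show (Y.presheaf.germ V (f x.1) (hWV x.2) ≫ f.stalkMap x.1).hom =
      (X.presheaf.germ W x.1 x.2).hom.comp (algebraMap Γ(Y, V) Γ(X, W))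
    rw [halg, Scheme.Hom.germ_stalkMap, Scheme.Hom.appLE]
    simp only [CommRingCat.hom_comp]
    rw [← RingHom.comp_assoc, ← CommRingCat.hom_comp (X.presheaf.map _) (X.presheaf.germ W x.1 x.2),
      TopCat.Presheaf.germ_res]
  have hI : Ideal.map (f.stalkMap x.1).hom (IsLocalRing.maximalIdeal (Y.presheaf.stalk (f x.1))) =
      p.asIdeal.map (algebraMap Γ(Y, V) (X.presheaf.stalk x.1)) := by
    rw [← IsLocalization.AtPrime.map_eq_maximalIdeal (Rₚ := Y.presheaf.stalk (f x.1)) p.asIdeal,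
      Ideal.map_map, hcomm]
  show IsAssociatedPrime _ _ ↔ _
  rw [hI]
  exact maximalIdeal_mem_ass_quot_iff (B := Γ(X, W)) q.asIdeal (H29Fitt.germLin F x) p.asIdeal

/-- The condition that the associated points of a fibre in an affine open lie in an open, in ring terms. -/
theorem forall_mem_open_iff (F : X.Modules) (hF : Coh.IsQCoh F) {V : Y.Opens} (hV : IsAffineOpen V)
    {W : X.Opens} (hW : IsAffineOpen W) (hWV : W ≤ f ⁻¹ᵁ V) (U : Set X) (G : Set Γ(X, W))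
    (hG : ∀ x : W, x.1 ∈ U ↔ ∃ s ∈ G, s ∉ (hW.primeIdealOf x).asIdeal)
    [Algebra Γ(Y, V) Γ(X, W)] (halg : algebraMap Γ(Y, V) Γ(X, W) = (f.appLE V W hWV).hom)
    [Module Γ(Y, V) Γ(F, W)] [IsScalarTower Γ(Y, V) Γ(X, W) Γ(F, W)] (y : V) :
    (∀ x ∈ MoreMor.relAss f F, f x = y.1 → x ∈ W → x ∈ U) ↔
      ∀ (Q : Ideal Γ(X, W)) [Q.IsPrime], Q.LiesOver (hV.primeIdealOf y).asIdeal →
        FlatCA.fiberIdeal (hV.primeIdealOf y).asIdeal Q ∈
          associatedPrimes ((hV.primeIdealOf y).asIdeal.Fiber Γ(X, W))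
            (FlatCA.fiberMod (hV.primeIdealOf y).asIdeal Γ(X, W) Γ(F, W)) →
        ∃ s ∈ G, s ∉ Q := by
  constructor
  · intro h Q hQ hQt hass
    let x : W := ⟨hW.fromSpec ⟨Q, hQ⟩, by
      have : hW.fromSpec ⟨Q, hQ⟩ ∈ Set.range hW.fromSpec := ⟨_, rfl⟩
      rwa [hW.range_fromSpec] at this⟩
    have hx : hW.primeIdealOf x = ⟨Q, hQ⟩ :=
      hW.fromSpec.isOpenEmbedding.injective (hW.fromSpec_primeIdealOf x)
    have hy : (⟨f x.1, hWV x.2⟩ : V) = y := by
      have h1 : hV.primeIdealOf ⟨f x.1, hWV x.2⟩ = hV.primeIdealOf y := by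
        rw [← IsAffineOpen.comap_primeIdealOf_appLE (f := f) V hV W hW hWV x.2, hx]
        refine PrimeSpectrum.ext ?_
        rw [hQt.over, Ideal.under_def, halg]
        rfl
      exact Subtype.ext (by rw [← hV.fromSpec_primeIdealOf ⟨f x.1, hWV x.2⟩, h1, hV.fromSpec_primeIdealOf])
    have hxU : x.1 ∈ U := by
      refine h x.1 ((mem_relAss_iff f F hF hV hW hWV x halg).mpr ?_) (congrArg Subtype.val hy) x.2
      rw [hy, hx]
      exact hass
    obtain ⟨s, hs, hsx⟩ := (hG x).mp hxU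
    exact ⟨s, hs, by rwa [hx] at hsx⟩
  · intro h x hass hxy hxW
    have hy : (⟨f x, hWV hxW⟩ : V) = y := Subtype.ext hxy
    have hl : (hW.primeIdealOf ⟨x, hxW⟩).asIdeal.LiesOver (hV.primeIdealOf y).asIdeal := ⟨by
      rw [← hy, Ideal.under_def, halg]
      exact (congrArg PrimeSpectrum.asIdeal (IsAffineOpen.comap_primeIdealOf_appLE (f := f) V hV W hW hWV hxW)).symm⟩
    have hass' := (mem_relAss_iff f F hF hV hW hWV ⟨x, hxW⟩ halg).mp hass
    rw [hy] at hass'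
    exact (hG ⟨x, hxW⟩).mpr (h _ hl hass')

/-- Basic opens inside an open. -/
theorem exists_mem_iff {W : X.Opens} (hW : IsAffineOpen W) (s : Γ(X, W)) (x : W) :
    x.1 ∈ X.basicOpen s ↔ s ∉ (hW.primeIdealOf x).asIdeal := by
  have h := hW.fromSpec_preimage_basicOpen s
  have h2 : hW.primeIdealOf x ∈ hW.fromSpec ⁻¹ᵁ X.basicOpen s ↔ hW.primeIdealOf x ∈ PrimeSpectrum.basicOpen s := by
    rw [h]
  rw [← hW.fromSpec_primeIdealOf x]
  exact h2

/-- An open is described by the basic opens inside it. -/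
theorem mem_iff_exists_basicOpen_le (U : X.Opens) {W : X.Opens} (hW : IsAffineOpen W) (x : W) :
    x.1 ∈ U ↔ ∃ s ∈ {s : Γ(X, W) | X.basicOpen s ≤ U}, s ∉ (hW.primeIdealOf x).asIdeal := by
  constructor
  · intro hx
    obtain ⟨s, hs, hxs⟩ := hW.exists_basicOpen_le ⟨x.1, hx⟩ x.2
    exact ⟨s, hs, (exists_mem_iff hW s x).mp hxs⟩
  · rintro ⟨s, hs, hsx⟩
    exact hs ((exists_mem_iff hW s x).mpr hsx)

/-- Finitely many elements suffice for a quasi-compact open. -/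
theorem exists_finite_basicOpen (U : X.Opens) {W : X.Opens} (hW : IsAffineOpen W)
    (hUW : IsCompact ((U : Set X) ∩ W)) :
    ∃ (k : ℕ) (g : Fin k → Γ(X, W)), ∀ x : W, x.1 ∈ U ↔ ∃ s ∈ Set.range g, s ∉ (hW.primeIdealOf x).asIdeal := by
  classical
  obtain ⟨F, hF⟩ := hUW.elim_finite_subcover (fun s : {s : Γ(X, W) // X.basicOpen s ≤ U} => (X.basicOpen s.1 : Set X))
    (fun s => (X.basicOpen s.1).2) fun x hx => by
      obtain ⟨s, hs, hxs⟩ := hW.exists_basicOpen_le ⟨x, hx.1⟩ hx.2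
      exact Set.mem_iUnion.mpr ⟨⟨s, hs⟩, hxs⟩
  refine ⟨F.card, fun i => (F.equivFin.symm i).1.1, fun x => ⟨fun hx => ?_, ?_⟩⟩
  · obtain ⟨s, hs, hxs⟩ := Set.mem_iUnion₂.mp (hF ⟨hx, x.2⟩)
    exact ⟨s.1, ⟨F.equivFin ⟨s, hs⟩, by simp⟩, (exists_mem_iff hW s.1 x).mp hxs⟩
  · rintro ⟨_, ⟨i, rfl⟩, hsx⟩
    exact (F.equivFin.symm i).1.2 ((exists_mem_iff hW _ x).mpr hsx)

end Groth.Agent.H7Flat.Chain.RelAss
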