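import Groth.Agent.H7Flat.Chain.Open
import Groth.Agent.H7Flat.FlatSpreadFT
import Mathlib

/-!
# Finite presentation of flat algebras after etale localization of the base
-/

set_option autoImplicit false
set_option linter.style.haveILetI false
set_option backward.isDefEq.respectTransparency false
set_option maxHeartbeats 1000000

universe u

open TensorProduct

namespace Groth.Agent.H7Flat.Chain

open Groth.Agent.H7Flat.ElemDev Groth.Agent.H8Props.Devissage

/-- A quotient algebra is finitely presented near where it is finitely presented as a module. -/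
theorem finitePresentation_away_of_quotient {A PA SA : Type u} [CommRing A] [CommRing PA] [CommRing SA]
    [Algebra A PA] [Algebra A SA] [Algebra PA SA] [IsScalarTower A PA SA]
    [Algebra.FinitePresentation A PA] (hsurj : Function.Surjective (algebraMap PA SA)) (g : PA)
    (h : Module.FinitePresentation (Localization.Away g) (LocalizedModule (Submonoid.powers g) SA)) :
    Algebra.FinitePresentation A (Localization.Away (algebraMap PA SA g)) := by
  let Pg := Localization.Away g
  let g' := algebraMap PA SA g
  let Sg := Localization.Away g'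
  let φ : Pg →+* Sg := IsLocalization.Away.lift g (g := (algebraMap SA Sg).comp (algebraMap PA SA))
    (IsLocalization.Away.algebraMap_isUnit g')
  letI : Algebra Pg Sg := φ.toAlgebra
  haveI : IsScalarTower PA Pg Sg := IsScalarTower.of_algebraMap_eq fun r => by
    rw [IsScalarTower.algebraMap_apply PA SA Sg]
    exact (IsLocalization.Away.lift_eq (g := (algebraMap SA Sg).comp (algebraMap PA SA)) g
      (IsLocalization.Away.algebraMap_isUnit g') r).symm
  haveI : IsScalarTower A Pg Sg := IsScalarTower.of_algebraMap_eq fun r => by
    rw [IsScalarTower.algebraMap_apply A PA Pg, ← IsScalarTower.algebraMap_apply PA Pg Sg,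
      IsScalarTower.algebraMap_apply PA SA Sg, ← IsScalarTower.algebraMap_apply A PA SA,
      ← IsScalarTower.algebraMap_apply A SA Sg]
  have hT : (Submonoid.powers g).map (algebraMap PA SA) = Submonoid.powers g' := Submonoid.map_powers _ _
  haveI : IsLocalizedModule (Submonoid.powers g') (Algebra.linearMap SA Sg) := inferInstance
  haveI := H7Flat.FlatSpreadFT.isLocalizedModule_of_surjective (Submonoid.powers g) (Submonoid.powers g') hT
    (Algebra.linearMap SA Sg)
  let e := LinearEquiv.extendScalarsOfIsLocalization (Submonoid.powers g) Pg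
    (IsLocalizedModule.iso (Submonoid.powers g) ((Algebra.linearMap SA Sg).restrictScalars PA))
  haveI := h
  haveI : Module.FinitePresentation Pg Sg :=
    Module.FinitePresentation.of_equiv (R := Pg) (M := LocalizedModule (Submonoid.powers g) SA) (N := Sg) e
  have hsurjg : Function.Surjective (algebraMap Pg Sg) := fun y => by
    obtain ⟨s, ⟨_, k, rfl⟩, rfl⟩ := IsLocalization.exists_mk'_eq (Submonoid.powers g') y
    obtain ⟨t, rfl⟩ := hsurj s
    have hgk : g ^ k ∈ Submonoid.powers g := ⟨k, rfl⟩
    refine ⟨IsLocalization.mk' Pg t (⟨g ^ k, hgk⟩ : Submonoid.powers g), ?_⟩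
    rw [IsLocalization.eq_mk'_iff_mul_eq]
    show algebraMap Pg Sg (IsLocalization.mk' Pg t _) * algebraMap SA Sg (g' ^ k) = _
    rw [← map_pow (algebraMap PA SA), ← IsScalarTower.algebraMap_apply PA SA Sg,
      IsScalarTower.algebraMap_apply PA Pg Sg, ← map_mul,
      IsLocalization.mk'_spec Pg t (⟨g ^ k, hgk⟩ : Submonoid.powers g),
      ← IsScalarTower.algebraMap_apply PA Pg Sg, IsScalarTower.algebraMap_apply PA SA Sg]
  haveI : Algebra.FinitePresentation PA Pg := IsLocalization.Away.finitePresentation g
  haveI : Algebra.FinitePresentation A Pg := Algebra.FinitePresentation.trans A PA Pg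
  refine Algebra.FinitePresentation.of_surjective (f := IsScalarTower.toAlgHom A Pg Sg) hsurjg ?_
  exact Module.FinitePresentation.fg_ker (Algebra.linearMap Pg Sg) hsurjg

/-- Flatness and finite presentation of an algebra near a point over the local ring of an etale
neighbourhood. -/
theorem exists_open_algebra_fp_flat {R S : Type u} [CommRing R] [CommRing S] [Algebra R S]
    [Algebra.FiniteType R S] (p : Ideal R) [p.IsPrime] (q : Ideal S) [q.IsPrime] [q.LiesOver p]
    (hflat : Module.Flat R (Localization.AtPrime q)) :
    ∃ (R' : Type u) (_ : CommRing R') (_ : Algebra R R') (p' : Ideal R') (_ : p'.IsPrime),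
      FlatCA.IsEtaleNhd R R' p p' ∧
      ∀ (SA : Type u) [CommRing SA] [Algebra R SA] [Algebra S SA] [Algebra (Localization.AtPrime p') SA]
        [IsScalarTower R S SA] [IsScalarTower R (Localization.AtPrime p') SA]
        [Algebra.IsPushout R S (Localization.AtPrime p') SA],
        ∃ g : SA, (∀ (Q : Ideal SA) [Q.IsPrime], Q.LiesOver q →
            Q.LiesOver (IsLocalRing.maximalIdeal (Localization.AtPrime p')) → g ∉ Q) ∧
          Module.Flat (Localization.AtPrime p') (Localization.Away g) ∧
          Algebra.FinitePresentation (Localization.AtPrime p') (Localization.Away g) := by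
  obtain ⟨n, π, hπ⟩ := Algebra.FiniteType.iff_quotient_mvPolynomial''.mp ‹Algebra.FiniteType R S›
  let P := MvPolynomial (Fin n) R
  letI : Algebra P S := π.toRingHom.toAlgebra
  haveI : IsScalarTower R P S := IsScalarTower.of_algebraMap_eq fun r => (π.commutes r).symm
  haveI : Module.Finite P S := Module.Finite.of_surjective (Algebra.linearMap P S) hπ
  let qP : Ideal P := q.comap (algebraMap P S)
  haveI : qP.LiesOver p := ⟨by
    rw [Ideal.under_def, Ideal.comap_comap, ← IsScalarTower.algebraMap_eq]
    exact q.over_def p⟩
  have hflat' : FlatCA.FlatAt R q S := by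
    haveI := hflat
    exact Module.Flat.of_linearEquiv
      ((IsLocalizedModule.iso q.primeCompl (Algebra.linearMap S (Localization.AtPrime q))).restrictScalars R)
  obtain ⟨R', _, _, p', _, hR, h⟩ := exists_open_fp_flat S p qP ((flatAt_of_surjective hπ S q).mpr hflat')
  refine ⟨R', _, _, p', ‹_›, hR, ?_⟩
  intro SA _ _ _ _ _ _ _
  let A := Localization.AtPrime p'
  letI : Algebra P SA := ((algebraMap S SA).comp (algebraMap P S)).toAlgebra
  haveI : IsScalarTower P S SA := IsScalarTower.of_algebraMap_eq fun _ => rfl
  obtain ⟨PA, _, _, _, _, _, _, _, tP, tA, hPA⟩ := exists_model_over R P S A SA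
  haveI := hPA
  have hfP : IsBaseChange PA ((Algebra.linearMap S SA).restrictScalars P) :=
    isBaseChange_of_quotient (R := R) (A := A) (SA := SA) (Algebra.linearMap S SA) (IsBaseChange.linearMap S SA)
  obtain ⟨g, hg, hfp, hgflat⟩ := h PA SA ((Algebra.linearMap S SA).restrictScalars P) hfP
  have hsurjPA : Function.Surjective (algebraMap PA SA) := by
    intro z
    obtain ⟨w, rfl⟩ := (Algebra.IsPushout.equiv R S A SA).surjective z
    induction w using TensorProduct.induction_on with
    | zero => exact ⟨0, by simp⟩
    | add a b ha hb =>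
      obtain ⟨a', ha'⟩ := ha
      obtain ⟨b', hb'⟩ := hb
      exact ⟨a' + b', by rw [map_add, map_add, ha', hb']⟩
    | tmul s a =>
      obtain ⟨t, rfl⟩ := hπ s
      refine ⟨algebraMap P PA t * algebraMap A PA a, ?_⟩
      rw [Algebra.IsPushout.equiv_tmul, map_mul, ← IsScalarTower.algebraMap_apply,
        ← IsScalarTower.algebraMap_apply, IsScalarTower.algebraMap_apply P S SA]
      rfl
  let g' := algebraMap PA SA g
  haveI : Algebra.IsPushout R A P PA := Algebra.IsPushout.symm hPA
  haveI : Algebra.FinitePresentation A PA :=
    Algebra.FinitePresentation.equiv (Algebra.IsPushout.equiv R A P PA)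
  refine ⟨g', fun Q _ hQq hQm hgQ => hg (Q.comap (algebraMap PA SA)) ⟨?_⟩ ⟨?_⟩ hgQ, ?_,
    finitePresentation_away_of_quotient hsurjPA g hfp⟩
  · rw [Ideal.under_def, Ideal.comap_comap, ← IsScalarTower.algebraMap_eq, IsScalarTower.algebraMap_eq P S SA,
      ← Ideal.comap_comap]
    exact congrArg (Ideal.comap (algebraMap P S)) hQq.over
  · rw [Ideal.under_def, Ideal.comap_comap, ← IsScalarTower.algebraMap_eq]
    exact hQm.over
  · have hT : (Submonoid.powers g).map (algebraMap PA SA) = Submonoid.powers g' := Submonoid.map_powers _ _
    haveI : IsLocalizedModule (Submonoid.powers g') (Algebra.linearMap SA (Localization.Away g')) := inferInstance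
    haveI := H7Flat.FlatSpreadFT.isLocalizedModule_of_surjective (Submonoid.powers g) (Submonoid.powers g') hT
      (Algebra.linearMap SA (Localization.Away g'))
    haveI := hgflat
    exact Module.Flat.of_linearEquiv ((IsLocalizedModule.iso (Submonoid.powers g)
      ((Algebra.linearMap SA (Localization.Away g')).restrictScalars PA)).restrictScalars A).symm

end Groth.Agent.H7Flat.Chain
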