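import Groth.Agent.H8Props.Devissage.Pieces
import Groth.Agent.H8Props.Devissage.PointsBC
import Groth.Agent.H7Flat.DevissageChain
import Mathlib

/-!
# Flatness at all points over a point and the closed point of a test ring
-/

set_option autoImplicit false
set_option linter.style.haveILetI false
set_option backward.isDefEq.respectTransparency false
set_option maxHeartbeats 1000000
set_option synthInstance.maxHeartbeats 400000

universe u

open TensorProduct FlatMor Groth.Agent.H8Props.Devissage

attribute [local instance] Algebra.TensorProduct.rightAlgebra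

namespace Groth.Agent.H7Flat.Chain

variable (A : Type u) [CommRing A] (A' : Type u) [CommRing A'] [IsLocalRing A'] [Algebra A A']

/-- The base change of a module is flat at all points over the given one and the closed point. -/
def AllFlat {S : Type u} [CommRing S] [Algebra A S] (q : Ideal S) (N : Type u) [AddCommGroup N]
    [Module S N] : Prop :=
  ∀ (Q : Ideal (A' ⊗[A] S)) [Q.IsPrime], Q.comap (algebraMap S (A' ⊗[A] S)) = q →
    Q.comap (algebraMap A' (A' ⊗[A] S)) = IsLocalRing.maximalIdeal A' →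
      FlatCA.FlatAt A' Q ((A' ⊗[A] S) ⊗[S] N)

variable {A A'}

/-- The condition only depends on the module up to isomorphism. -/
theorem allFlat_congr {S : Type u} [CommRing S] [Algebra A S] {q : Ideal S} {N N₂ : Type u}
    [AddCommGroup N] [Module S N] [AddCommGroup N₂] [Module S N₂] (e : N ≃ₗ[S] N₂)
    (h : AllFlat A A' q N) : AllFlat A A' q N₂ := fun Q _ h1 h2 =>
  DevissageChain.flatAt_congr Q
    (AlgebraTensorModule.congr (LinearEquiv.refl (A' ⊗[A] S) (A' ⊗[A] S)) e) (h Q h1 h2)

theorem allFlat_congr_iff {S : Type u} [CommRing S] [Algebra A S] {q : Ideal S} {N N₂ : Type u}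
    [AddCommGroup N] [Module S N] [AddCommGroup N₂] [Module S N₂] (e : N ≃ₗ[S] N₂) :
    AllFlat A A' q N ↔ AllFlat A A' q N₂ := ⟨allFlat_congr e, allFlat_congr e.symm⟩

/-- A module without support at the point is flat over it. -/
theorem allFlat_of_killed {S : Type u} [CommRing S] [Algebra A S] (q : Ideal S) [q.IsPrime] (N : Type u)
    [AddCommGroup N] [Module S N] {s : S} (hs : s ∉ q) (h : ∀ x : N, s • x = 0) : AllFlat A A' q N := by
  intro Q _ h1 _
  haveI : Subsingleton (LocalizedModule Q.primeCompl ((A' ⊗[A] S) ⊗[S] N)) := by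
    refine LocalizedModule.subsingleton_iff.mpr fun z => ⟨algebraMap S (A' ⊗[A] S) s, fun hm => hs ?_, ?_⟩
    · rw [← h1]
      exact hm
    · rw [algebraMap_smul]
      induction z using TensorProduct.induction_on with
      | zero => simp
      | tmul a b => rw [← tmul_smul, h, tmul_zero]
      | add a b ha hb => rw [smul_add, ha, hb, add_zero]
  exact (inferInstance : Module.Flat A' (LocalizedModule Q.primeCompl ((A' ⊗[A] S) ⊗[S] N)))

/-- The condition descends along an integral algebra with a unique point over the given one. -/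
theorem allFlat_integral {S C : Type u} [CommRing S] [CommRing C] [Algebra A S] [Algebra A C] [Algebra S C]
    [IsScalarTower A S C] [Algebra.IsIntegral S C] (q : Ideal S) [q.IsPrime] (z : Ideal C) [z.IsPrime]
    (hzq : z.comap (algebraMap S C) = q)
    (huniq : ∀ (Q : Ideal C) [Q.IsPrime], Q.comap (algebraMap S C) = q → Q = z)
    (G : Type u) [AddCommGroup G] [Module C G] [Module S G] [IsScalarTower S C G] :
    AllFlat A A' q G ↔ AllFlat A A' z G := by
  let T := A' ⊗[A] S
  let TC := A' ⊗[A] C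
  let φ : T →ₐ[A'] TC := Algebra.TensorProduct.map (AlgHom.id A' A') (IsScalarTower.toAlgHom A S C)
  letI : Algebra T TC := φ.toRingHom.toAlgebra
  letI : Algebra S TC := ((algebraMap C TC).comp (algebraMap S C)).toAlgebra
  haveI : IsScalarTower S C TC := IsScalarTower.of_algebraMap_eq fun _ => rfl
  haveI : IsScalarTower A' T TC := IsScalarTower.of_algebraMap_eq fun a => (φ.commutes a).symm
  haveI : IsScalarTower S T TC := IsScalarTower.of_algebraMap_eq fun s => by
    show (1 : A') ⊗ₜ[A] algebraMap S C s = φ (1 ⊗ₜ[A] s)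
    rfl
  haveI : Algebra.IsPushout S T C TC := isPushout_middle A S C A' T TC
  haveI : Algebra.IsIntegral T TC :=
    Algebra.IsIntegral.of_surjective (Algebra.IsPushout.equiv S T C TC).toAlgHom
      (Algebra.IsPushout.equiv S T C TC).surjective
  haveI : SMulCommClass C T TC := ⟨fun c t x => by simp [Algebra.smul_def, mul_left_comm]⟩
  let g : G →ₗ[C] TC ⊗[C] G := TensorProduct.mk C TC G 1
  have hg : IsBaseChange TC g := TensorProduct.isBaseChange C G TC
  haveI : IsScalarTower T TC (TC ⊗[C] G) := IsScalarTower.of_algebraMap_smul fun t x => by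
    induction x using TensorProduct.induction_on with
    | zero => simp
    | tmul a b => rw [smul_tmul', smul_tmul', algebraMap_smul]
    | add a b ha hb => rw [smul_add, smul_add, ha, hb]
  have hgS : IsBaseChange T (g.restrictScalars S) := isBaseChange_restrict hg
  let e : T ⊗[S] G ≃ₗ[T] TC ⊗[C] G := hgS.equiv
  constructor
  · intro h Q hQ h1 h2
    let P := Q.comap (algebraMap T TC)
    have hP1 : P.comap (algebraMap S T) = q := by
      rw [Ideal.comap_comap, ← IsScalarTower.algebraMap_eq, IsScalarTower.algebraMap_eq S C TC,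
        ← Ideal.comap_comap, h1, hzq]
    have hP2 : P.comap (algebraMap A' T) = IsLocalRing.maximalIdeal A' := by
      rw [Ideal.comap_comap, ← IsScalarTower.algebraMap_eq, h2]
    exact (FlatAtFinite.flat_localizedModule_integral_iff P (TC ⊗[C] G)).mp
      (DevissageChain.flatAt_congr P e (h P hP1 hP2)) Q rfl
  · intro h P hP h1 h2
    refine DevissageChain.flatAt_congr P e.symm
      ((FlatAtFinite.flat_localizedModule_integral_iff P (TC ⊗[C] G)).mpr fun Q _ hQ => h Q ?_ ?_)
    · refine huniq _ ?_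
      rw [Ideal.comap_comap, ← IsScalarTower.algebraMap_eq, IsScalarTower.algebraMap_eq S T TC,
        ← Ideal.comap_comap, hQ, h1]
    · rw [IsScalarTower.algebraMap_eq A' T TC, ← Ideal.comap_comap, hQ, h2]

/-- The condition is insensitive to etale neighbourhoods. -/
theorem allFlat_etale {S S₁ : Type u} [CommRing S] [CommRing S₁] [Algebra A S] [Algebra A S₁]
    [Algebra S S₁] [IsScalarTower A S S₁] [Module.Flat S S₁] (q : Ideal S) [q.IsPrime] (q₁ : Ideal S₁)
    [q₁.IsPrime] [q₁.LiesOver q] (hκ : Function.Bijective (residueMap S q S₁ q₁))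
    (N : Type u) [AddCommGroup N] [Module S N] :
    AllFlat A A' q N ↔ AllFlat A A' q₁ (S₁ ⊗[S] N) := by
  let T := A' ⊗[A] S
  let T₁ := A' ⊗[A] S₁
  let φ : T →ₐ[A'] T₁ := Algebra.TensorProduct.map (AlgHom.id A' A') (IsScalarTower.toAlgHom A S S₁)
  letI : Algebra T T₁ := φ.toRingHom.toAlgebra
  letI : Algebra S T₁ := ((algebraMap S₁ T₁).comp (algebraMap S S₁)).toAlgebra
  haveI : IsScalarTower S S₁ T₁ := IsScalarTower.of_algebraMap_eq fun _ => rfl
  haveI : IsScalarTower A' T T₁ := IsScalarTower.of_algebraMap_eq fun a => (φ.commutes a).symm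
  haveI : IsScalarTower S T T₁ := IsScalarTower.of_algebraMap_eq fun s => by
    show (1 : A') ⊗ₜ[A] algebraMap S S₁ s = φ (1 ⊗ₜ[A] s)
    rfl
  haveI hpo : Algebra.IsPushout S T S₁ T₁ := isPushout_middle A S S₁ A' T T₁
  haveI : Module.Flat T T₁ := Module.Flat.of_linearEquiv (Algebra.IsPushout.equiv S T S₁ T₁).toLinearEquiv.symm
  haveI : Algebra.IsPushout S S₁ T T₁ := Algebra.IsPushout.symm hpo
  let e : T₁ ⊗[T] (T ⊗[S] N) ≃ₗ[T₁] T₁ ⊗[S₁] (S₁ ⊗[S] N) :=
    AlgebraTensorModule.cancelBaseChange S T T₁ T₁ N ≪≫ₗ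
      (AlgebraTensorModule.cancelBaseChange S S₁ T₁ T₁ N).symm
  have key : ∀ (Q₁ : Ideal T₁) [Q₁.IsPrime],
      FlatCA.FlatAt A' (Q₁.comap (algebraMap T T₁)) (T ⊗[S] N) ↔
        FlatCA.FlatAt A' Q₁ (T₁ ⊗[S₁] (S₁ ⊗[S] N)) := fun Q₁ _ =>
    (FlatAtFinite.flat_localizedModule_flat_iff (TensorProduct.isBaseChange T (T ⊗[S] N) T₁) Q₁).trans
      ⟨DevissageChain.flatAt_congr Q₁ e, DevissageChain.flatAt_congr Q₁ e.symm⟩
  constructor
  · intro h Q₁ _ h1 h2
    have hP1 : (Q₁.comap (algebraMap T T₁)).comap (algebraMap S T) = q := by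
      rw [Ideal.comap_comap, ← IsScalarTower.algebraMap_eq, IsScalarTower.algebraMap_eq S S₁ T₁,
        ← Ideal.comap_comap, h1]
      exact (q₁.over_def q).symm
    have hP2 : (Q₁.comap (algebraMap T T₁)).comap (algebraMap A' T) = IsLocalRing.maximalIdeal A' := by
      rw [Ideal.comap_comap, ← IsScalarTower.algebraMap_eq, h2]
    exact (key Q₁).mp (h _ hP1 hP2)
  · intro h Q _ h1 h2
    haveI : Q.LiesOver q := ⟨h1.symm⟩
    obtain ⟨Q₁, hQ₁, hQ₁q, hQ₁Q⟩ := exists_prime_over (S' := T₁) (p' := q₁) hκ Q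
    haveI := hQ₁
    have h3 : Q₁.comap (algebraMap T T₁) = Q := (hQ₁q.over).symm
    have := (key Q₁).mpr (h Q₁ hQ₁Q.over.symm (by
      rw [IsScalarTower.algebraMap_eq A' T T₁, ← Ideal.comap_comap, h3, h2]))
    exact (show ∀ (I : Ideal T) [I.IsPrime], I = Q → FlatCA.FlatAt A' I (T ⊗[S] N) →
      FlatCA.FlatAt A' Q (T ⊗[S] N) from fun I _ hI hh => by subst hI; exact hh) _ h3 this

end Groth.Agent.H7Flat.Chain
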