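import Groth.Agent.H7Flat.Chain.Basic
import Groth.Agent.H8Props.Devissage.PointsBC
import Groth.Agent.S12243

/-!
# Base change of a complete dévissage at a point without residue field extension
-/

set_option autoImplicit false
set_option linter.style.haveILetI false

universe u

open TensorProduct

namespace Groth.Agent.H7Flat.Chain

open Groth.Agent.H8Props.Devissage

/-- Points of a complete dévissage below its length. -/
structure PreAt {R S : Type u} [CommRing R] [CommRing S] [Algebra R S] {N : Type u} [AddCommGroup N]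
    [Module S N] {p : Ideal R} [p.IsPrime] (𝒟 : FlatCA.CompleteDevissage R S N p) (q : Ideal S)
    (qB : ∀ i, Ideal (𝒟.B i)) (qA : ∀ i, Ideal (𝒟.A i)) (d : ℕ → ℕ) : Prop where
  pts : ∀ i, i < 𝒟.n → ∃ (_ : (qB i).IsPrime) (_ : (qA i).IsPrime) (_ : (qB i).LiesOver p)
    (_ : (qA i).LiesOver (qB i)), FlatCA.PurelyTranscendental p (qB i) ∧
      (∀ (Q : Ideal (𝒟.A i)) [Q.IsPrime], Q.LiesOver (qB i) → Q = qA i) ∧
      ∃ (x : PrimeSpectrum (p.Fiber (𝒟.B i)))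
        (hx : x ∈ Module.support (p.Fiber (𝒟.B i)) (FlatCA.fiberMod p (𝒟.B i) (𝒟.M i))),
        x.asIdeal = FlatCA.fiberIdeal p (qB i) ∧
        FlatMor.localDim (Module.support (p.Fiber (𝒟.B i)) (FlatCA.fiberMod p (𝒟.B i) (𝒟.M i))) ⟨x, hx⟩ = d i
  q0 : (qA 0).comap (algebraMap S (𝒟.A 0)) = q
  qStep : ∀ i, i + 1 < 𝒟.n → (qA (i + 1)).comap (algebraMap (𝒟.B i) (𝒟.A (i + 1))) = qB i
  relDim : ∀ i, i < 𝒟.n → FlatCA.SmoothRelDim (d i) R (𝒟.B i)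

theorem step_zero {R S : Type u} [CommRing R] [CommRing S] [Algebra R S] {N : Type u} [AddCommGroup N]
    [Module S N] {p : Ideal R} [p.IsPrime] (𝒟 : FlatCA.CompleteDevissage R S N p) {q : Ideal S}
    [q.IsPrime] {qB : ∀ i, Ideal (𝒟.B i)} {qA : ∀ i, Ideal (𝒟.A i)} {d : ℕ → ℕ} (h : PreAt 𝒟 q qB qA d)
    [(qB 0).IsPrime] [(qA 0).IsPrime] [(qB 0).LiesOver p] [(qA 0).LiesOver (qB 0)] :
    Step N p q (𝒟.A 0) (𝒟.B 0) (𝒟.M 0) (qB 0) (qA 0) (d 0) (𝒟.r 0) (𝒟.α 0) := by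
  obtain ⟨_, _, _, _, h1, h2, h3⟩ := h.pts 0 𝒟.pos
  exact ⟨𝒟.surjSA, 𝒟.fpSA, 𝒟.finiteBA 0 𝒟.pos, 𝒟.finiteM 0 𝒟.pos, 𝒟.smooth 0 𝒟.pos,
    𝒟.geomIrred 0 𝒟.pos, ⟨𝒟.isoN⟩, h.relDim 0 𝒟.pos, h1, h2, h.q0, 𝒟.fibreIso 0 𝒟.pos, h3⟩

theorem hcd_of_preAt : ∀ (k : ℕ) {R S : Type u} [CommRing R] [CommRing S] [Algebra R S] {N : Type u}
    [AddCommGroup N] [Module S N] {p : Ideal R} [p.IsPrime] (𝒟 : FlatCA.CompleteDevissage R S N p)
    {q : Ideal S} [q.IsPrime] {qB : ∀ i, Ideal (𝒟.B i)} {qA : ∀ i, Ideal (𝒟.A i)} {d : ℕ → ℕ},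
    𝒟.n = k + 1 → PreAt 𝒟 q qB qA d → FlatCA.HasCompleteDevissageAt R S N p q := by
  intro k
  induction k with
  | zero =>
    intro R S _ _ _ N _ _ p _ 𝒟 q _ qB qA d hn h
    obtain ⟨_, _, _, _, -⟩ := h.pts 0 𝒟.pos
    refine hcd_singleton (step_zero 𝒟 h) ?_
    have := 𝒟.cokerLast
    rwa [show 𝒟.n - 1 = 0 by omega] at this
  | succ k ih =>
    intro R S _ _ _ N _ _ p _ 𝒟 q _ qB qA d hn h
    obtain ⟨_, _, _, _, -⟩ := h.pts 0 𝒟.pos
    have hlast : Function.Surjective (𝒟.α (k + 1 - 1 + 1)) := by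
      have := 𝒟.cokerLast
      rw [show 𝒟.n - 1 = k + 1 by omega] at this
      exact this
    let 𝒟₁ : FlatCA.CompleteDevissage R (𝒟.B 0) (𝒟.M 1) p :=
      FlatCA.CompleteDevissage.mk (n := k + 1) (pos := Nat.succ_pos k) (A := fun i => 𝒟.A (i + 1))
        (B := fun i => 𝒟.B (i + 1)) (M := fun i => 𝒟.M (i + 1)) (r := fun i => 𝒟.r (i + 1))
        (α := fun i => 𝒟.α (i + 1)) (surjSA := 𝒟.surjBA' 0 (by omega)) (fpSA := 𝒟.fpBA' 0 (by omega))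
        (surjBA' := fun i hi => 𝒟.surjBA' (i + 1) (by omega))
        (fpBA' := fun i hi => 𝒟.fpBA' (i + 1) (by omega))
        (finiteBA := fun i hi => 𝒟.finiteBA (i + 1) (by omega))
        (smooth := fun i hi => 𝒟.smooth (i + 1) (by omega))
        (geomIrred := fun i hi => 𝒟.geomIrred (i + 1) (by omega))
        (finiteM := fun i hi => 𝒟.finiteM (i + 1) (by omega))
        (isoN := LinearEquiv.refl (𝒟.B 0) (𝒟.M 1))
        (isoCoker := fun i hi => 𝒟.isoCoker (i + 1) (by omega))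
        (fibreIso := fun i hi => 𝒟.fibreIso (i + 1) (by omega)) (cokerLast := hlast)
    have h₁ : PreAt 𝒟₁ (qB 0) (fun i => qB (i + 1)) (fun i => qA (i + 1)) (fun i => d (i + 1)) :=
      ⟨fun i hi => h.pts (i + 1) (by have : i < k + 1 := hi; omega),
        h.qStep 0 (by omega),
        fun i hi => h.qStep (i + 1) (by have : i + 1 < k + 1 := hi; omega),
        fun i hi => h.relDim (i + 1) (by have : i < k + 1 := hi; omega)⟩
    exact hcd_cons (step_zero 𝒟 h) (𝒟.isoCoker 0 (by omega)) (ih 𝒟₁ rfl h₁)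

/-- Base change of a complete dévissage at a point. -/
theorem hcd_baseChange {R S : Type u} [CommRing R] [CommRing S] [Algebra R S] [Algebra.FiniteType R S]
    {N : Type u} [AddCommGroup N] [Module S N] [Module.Finite S N] {p : Ideal R} [p.IsPrime]
    {q : Ideal S} [q.IsPrime] (h : FlatCA.HasCompleteDevissageAt R S N p q)
    (R' : Type u) [CommRing R'] [Algebra R R'] (p' : Ideal R') [p'.IsPrime] [hp' : p'.LiesOver p]
    (hκ : Function.Bijective (residueMap R p R' p'))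
    (S' : Type u) [CommRing S'] [Algebra R' S'] [Algebra R S'] [Algebra S S'] [IsScalarTower R R' S']
    [IsScalarTower R S S'] [Algebra.IsPushout R R' S S']
    (N' : Type u) [AddCommGroup N'] [Module S' N'] [Module S N'] [IsScalarTower S S' N']
    (f : N →ₗ[S] N') (hf : IsBaseChange S' f) (q' : Ideal S') [q'.IsPrime] [q'.LiesOver q]
    [q'.LiesOver p'] : FlatCA.HasCompleteDevissageAt R' S' N' p' q' := by
  obtain ⟨𝒟, ⟨𝒜⟩⟩ := h
  obtain ⟨𝒟', aA, rA, t1, t2, aB, rB, t3, t4, bA, t5, t6, bA', t7, sA, t8, mA, t9, gM, hn, -, hS0, -,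
    hstep, hall⟩ := Groth.Agent.S12243.result R S N p 𝒟 R' p' S' N' f hf
  have hB : ∀ i : Fin 𝒟.n, Algebra.IsPushout R R' (𝒟.B i) (𝒟'.B i) := fun i => (hall i).2.1
  have hA : ∀ i : Fin 𝒟.n, Algebra.IsPushout R R' (𝒟.A i) (𝒟'.A i) := fun i => (hall i).1
  have := 𝒜.hqB
  have := 𝒜.hqA
  have := 𝒜.overB
  have := 𝒜.overA
  have hpA : ∀ i, (𝒜.qA i).LiesOver p := fun i => Ideal.LiesOver.trans (𝒜.qA i) (𝒜.qB i) p
  have hQ : ∀ i : Fin 𝒟.n, ∃ Q : Ideal (𝒟'.B i),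
      Q.IsPrime ∧ Q.LiesOver (𝒜.qB i) ∧ Q.LiesOver p' := fun i => by
    have := hB i
    exact exists_prime_over hκ (𝒜.qB i)
  choose QB hQBp hQBo hQBp' using hQ
  have hP : ∀ i : Fin 𝒟.n, ∃ P : Ideal (𝒟'.A i),
      P.IsPrime ∧ P.LiesOver (𝒜.qA i) ∧ P.LiesOver p' ∧ P.LiesOver (QB i) := fun i => by
    have := hA i
    have := hB i
    have := hQBp i
    have := hQBo i
    have := hQBp' i
    obtain ⟨P, hP, ho, hp⟩ := exists_prime_over (S' := 𝒟'.A i) hκ (𝒜.qA i)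
    have := Ideal.LiesOver.trans P (𝒜.qA i) (𝒜.qB i)
    exact ⟨P, hP, ho, hp, liesOver_of_unique (S' := 𝒟'.B i) hκ (𝒜.qB i) (QB i) P⟩
  choose PA hPAp hPAo hPAp' hPAQ using hP
  let qB' : ∀ i, Ideal (𝒟'.B i) := fun i => if h : i < 𝒟.n then QB ⟨i, h⟩ else ⊤
  let qA' : ∀ i, Ideal (𝒟'.A i) := fun i => if h : i < 𝒟.n then PA ⟨i, h⟩ else ⊤
  have eB : ∀ i : Fin 𝒟.n, qB' i = QB i := fun i => dif_pos i.2
  have eA : ∀ i : Fin 𝒟.n, qA' i = PA i := fun i => dif_pos i.2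
  refine hcd_of_preAt (𝒟.n - 1) 𝒟' (qB := qB') (qA := qA') (d := 𝒜.d)
    (by have := 𝒟.pos; omega) ⟨fun i hi => ?_, ?_, fun i hi => ?_, fun i hi => ?_⟩
  · obtain ⟨j, rfl⟩ : ∃ j : Fin 𝒟.n, (j : ℕ) = i := ⟨⟨i, hn ▸ hi⟩, rfl⟩
    rw [eB j, eA j]
    have := hB j
    have := hA j
    have := hQBp j
    have := hQBo j
    have := hQBp' j
    have := hPAp j
    have := hPAo j
    have := hPAQ j
    refine ⟨inferInstance, inferInstance, inferInstance, inferInstance,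
      purelyTranscendental_baseChange hκ (𝒜.qB j) (QB j) (𝒜.pureTrans j j.2), fun Q _ hQ => ?_, ?_⟩
    · have := Ideal.LiesOver.trans Q (QB j) p'
      have := Ideal.LiesOver.trans Q (QB j) (𝒜.qB j)
      have hy : (Q.under (𝒟.A j)).LiesOver (𝒜.qB j) :=
        ⟨(Q.over_def (𝒜.qB j)).trans (Ideal.under_under Q).symm⟩
      have : Q.LiesOver (𝒜.qA j) := ⟨(𝒜.uniq j j.2 _ hy).symm⟩
      have := Ideal.LiesOver.trans (PA j) (QB j) p'
      exact unique_prime (R := R) (p := p) hκ (𝒜.qA j) Q (PA j)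
    · have : Algebra.IsPushout (𝒟.B j) (𝒟'.B j) (𝒟.A j) (𝒟'.A j) :=
        isPushout_middle R (𝒟.B j) (𝒟.A j) R' (𝒟'.B j) (𝒟'.A j)
      let : Module (𝒟.B j) (𝒟'.M j) := Module.compHom _ (algebraMap (𝒟.B j) (𝒟'.B j))
      have : IsScalarTower (𝒟.B j) (𝒟'.B j) (𝒟'.M j) := .of_algebraMap_smul fun _ _ => rfl
      have : IsScalarTower (𝒟.B j) (𝒟.A j) (𝒟'.M j) := .of_algebraMap_smul fun b x => by
        rw [← algebraMap_smul (𝒟'.A j) (algebraMap (𝒟.B j) (𝒟.A j) b) x,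
          ← algebraMap_smul (𝒟'.B j) b x, ← algebraMap_smul (𝒟'.A j) (algebraMap (𝒟.B j) (𝒟'.B j) b) x,
          ← IsScalarTower.algebraMap_apply, ← IsScalarTower.algebraMap_apply]
      have := 𝒟.finiteM j j.2
      have := 𝒟.finiteBA j j.2
      have : Module.Finite (𝒟.B j) (𝒟.M j) := Module.Finite.trans (𝒟.A j) (𝒟.M j)
      exact exists_localDim_eq hκ (f := (gM j).restrictScalars (𝒟.B j))
        (isBaseChange_restrict (hall j).2.2.1) (𝒜.qB j) (QB j) (𝒜.locDim j j.2)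
  · let j : Fin 𝒟.n := ⟨0, 𝒟.pos⟩
    rw [show qA' 0 = PA j from eA j]
    let : Algebra (𝒟.A 0) (𝒟'.A 0) := aA j
    let : Algebra R (𝒟'.A 0) := rA j
    have : (PA j).IsPrime := hPAp j
    have : (PA j).LiesOver (𝒜.qA 0) := hPAo j
    have : (PA j).LiesOver p' := hPAp' j
    have := hS0
    have hq : (PA j).LiesOver q := by
      have h0 : (𝒜.qA 0).LiesOver q := ⟨𝒜.q0.symm⟩
      exact Ideal.LiesOver.trans (PA j) (𝒜.qA 0) q
    exact (liesOver_of_unique (S' := S') hκ q q' (PA j)).over.symm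
  · have hi₂ : i + 1 < 𝒟.n := hn ▸ hi
    obtain ⟨j, rfl⟩ : ∃ j : Fin 𝒟.n, (j : ℕ) = i := ⟨⟨i, Nat.lt_of_succ_lt hi₂⟩, rfl⟩
    let j' : Fin 𝒟.n := ⟨j + 1, hi₂⟩
    rw [eB j, show qA' ((j : ℕ) + 1) = PA j' from eA j']
    let : Algebra (𝒟.A (j + 1)) (𝒟'.A (j + 1)) := aA j'
    let : Algebra R (𝒟'.A (j + 1)) := rA j'
    have : IsScalarTower R R' (𝒟'.A ((j : ℕ) + 1)) := inferInstanceAs (IsScalarTower R R' (𝒟'.A (j' : ℕ)))
    have : IsScalarTower R (𝒟.A ((j : ℕ) + 1)) (𝒟'.A ((j : ℕ) + 1)) :=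
      inferInstanceAs (IsScalarTower R (𝒟.A (j' : ℕ)) (𝒟'.A (j' : ℕ)))
    have := hB j
    have := hQBp j
    have := hQBo j
    have := hQBp' j
    have : (PA j').IsPrime := hPAp j'
    have : (PA j').LiesOver (𝒜.qA ((j : ℕ) + 1)) := hPAo j'
    have : (PA j').LiesOver p' := hPAp' j'
    have := hstep j hi₂
    have h0 : (𝒜.qA (j + 1)).LiesOver (𝒜.qB j) := ⟨(𝒜.qStep j hi₂).symm⟩
    have := Ideal.LiesOver.trans (PA j') (𝒜.qA (j + 1)) (𝒜.qB j)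
    exact (liesOver_of_unique (S' := 𝒟'.B j) hκ (𝒜.qB j) (QB j) (PA j')).over.symm
  · obtain ⟨j, rfl⟩ : ∃ j : Fin 𝒟.n, (j : ℕ) = i := ⟨⟨i, hn ▸ hi⟩, rfl⟩
    have := hB j
    exact smoothRelDim_baseChange R R' (𝒟.B j) (𝒟'.B j) _ (𝒜.relDim j j.2)

end Groth.Agent.H7Flat.Chain
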