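import Groth.Agent.H8Props.Devissage.Pieces

/-!
# Building complete dévissages at a point step by step
-/

set_option autoImplicit false

universe u

namespace Groth.Agent.H7Flat.Chain

open Groth.Agent.H8Props.Devissage

/-- Having a complete dévissage at a point only depends on the module up to isomorphism. -/
theorem hcd_congr {R S : Type u} [CommRing R] [CommRing S] [Algebra R S] {N N' : Type u}
    [AddCommGroup N] [Module S N] [AddCommGroup N'] [Module S N'] {p : Ideal R} [p.IsPrime]
    {q : Ideal S} [q.IsPrime] (e : N' ≃ₗ[S] N) (h : FlatCA.HasCompleteDevissageAt R S N p q) :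
    FlatCA.HasCompleteDevissageAt R S N' p q := by
  obtain ⟨𝒟, ⟨𝒜⟩⟩ := h
  exact ⟨FlatCA.CompleteDevissage.mk (n := 𝒟.n) (pos := 𝒟.pos) (A := 𝒟.A) (B := 𝒟.B) (M := 𝒟.M)
      (r := 𝒟.r) (α := 𝒟.α) (surjSA := 𝒟.surjSA) (fpSA := 𝒟.fpSA) (surjBA' := 𝒟.surjBA')
      (fpBA' := 𝒟.fpBA') (finiteBA := 𝒟.finiteBA) (smooth := 𝒟.smooth) (geomIrred := 𝒟.geomIrred)
      (finiteM := 𝒟.finiteM) (isoN := e ≪≫ₗ 𝒟.isoN) (isoCoker := 𝒟.isoCoker)
      (fibreIso := 𝒟.fibreIso) (cokerLast := 𝒟.cokerLast),
    ⟨{ qB := 𝒜.qB, qA := 𝒜.qA, hqB := 𝒜.hqB, hqA := 𝒜.hqA, overB := 𝒜.overB, overA := 𝒜.overA,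
       pureTrans := 𝒜.pureTrans, uniq := 𝒜.uniq, q0 := 𝒜.q0, qStep := 𝒜.qStep, d := 𝒜.d,
       relDim := 𝒜.relDim, locDim := 𝒜.locDim }⟩⟩

variable {R S : Type u} [CommRing R] [CommRing S] [Algebra R S] (N : Type u) [AddCommGroup N]
  [Module S N] (p : Ideal R) [p.IsPrime] (q : Ideal S) [q.IsPrime]
  (C D G : Type u) [CommRing C] [CommRing D] [Algebra S C] [Algebra R C] [IsScalarTower R S C]
  [Algebra R D] [Algebra D C] [IsScalarTower R D C] [AddCommGroup G] [Module C G] [Module S G]
  [IsScalarTower S C G] [Module D G] [IsScalarTower D C G]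
  (y : Ideal D) [y.IsPrime] [y.LiesOver p] (z : Ideal C) [z.IsPrime] [z.LiesOver y]

/-- The hypotheses on one step of a complete dévissage at a point. -/
structure Step (n r : ℕ) (α : (Fin r → D) →ₗ[D] G) : Prop where
  surjSC : Function.Surjective (algebraMap S C)
  fpSC : Algebra.FinitePresentation S C
  finiteDC : Module.Finite D C
  finiteG : Module.Finite C G
  smooth : Algebra.Smooth R D
  geomIrred : FlatCA.GeomIrredFibres R D
  equiv : Nonempty (N ≃ₗ[S] G)
  relDim : FlatCA.SmoothRelDim n R D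
  pureTrans : FlatCA.PurelyTranscendental p y
  uniq : ∀ (Q : Ideal C) [Q.IsPrime], Q.LiesOver y → Q = z
  q0 : z.comap (algebraMap S C) = q
  fibreIso : ∀ [(p.map (algebraMap R D)).IsPrime],
    Function.Bijective (α.baseChange (p.map (algebraMap R D)).ResidueField)
  locDim : ∃ (x : PrimeSpectrum (p.Fiber D))
    (hx : x ∈ Module.support (p.Fiber D) (FlatCA.fiberMod p D G)),
    x.asIdeal = FlatCA.fiberIdeal p y ∧
    FlatMor.localDim (Module.support (p.Fiber D) (FlatCA.fiberMod p D G)) ⟨x, hx⟩ = n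

variable {N p q C D G y z}

/-- A step with surjective map from the free module is a complete dévissage. -/
theorem hcd_singleton {n r : ℕ} {α : (Fin r → D) →ₗ[D] G} (h : Step N p q C D G y z n r α)
    (hα : Function.Surjective α) : FlatCA.HasCompleteDevissageAt R S N p q := by
  letI : Module R G := Module.compHom G (algebraMap R D)
  haveI : IsScalarTower R D G := .of_algebraMap_smul fun _ _ => rfl
  have := h.smooth
  have hp : (p.map (algebraMap R D)).IsPrime := isPrime_map R D p h.geomIrred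
  exact ⟨FlatCA.CompleteDevissage.mk (n := 1) (pos := one_pos) (A := fun _ => C) (B := fun _ => D)
      (M := fun _ => G) (r := fun _ => r) (hp := fun _ => hp) (α := fun _ => α)
      (surjSA := h.surjSC) (fpSA := h.fpSC)
      (surjBA' := fun i hi => absurd hi (by omega)) (fpBA' := fun i hi => absurd hi (by omega))
      (finiteBA := fun _ _ => h.finiteDC) (smooth := fun _ _ => h.smooth)
      (geomIrred := fun _ _ => h.geomIrred) (finiteM := fun _ _ => h.finiteG)
      (isoN := h.equiv.some) (isoCoker := fun i hi => absurd hi (by omega))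
      (fibreIso := fun _ _ => h.fibreIso) (cokerLast := hα),
    ⟨{ qB := fun _ => y, qA := fun _ => z, hqB := fun _ => inferInstance, hqA := fun _ => inferInstance,
       overB := fun _ => inferInstance, overA := fun _ => inferInstance,
       pureTrans := fun _ _ => h.pureTrans, uniq := fun _ _ Q hQ hQy => haveI := hQ; h.uniq Q hQy
       q0 := h.q0, qStep := fun i hi => absurd (show i + 1 < 1 from hi) (by omega), d := fun _ => n,
       relDim := fun _ _ => h.relDim, locDim := fun _ _ => h.locDim }⟩⟩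

/-- A step and a complete dévissage of the cokernel give a complete dévissage. -/
theorem hcd_cons {n r : ℕ} {α : (Fin r → D) →ₗ[D] G} (h : Step N p q C D G y z n r α)
    {N₂ : Type u} [AddCommGroup N₂] [Module D N₂] (e : (G ⧸ LinearMap.range α) ≃ₗ[D] N₂)
    (ht : FlatCA.HasCompleteDevissageAt R D N₂ p y) : FlatCA.HasCompleteDevissageAt R S N p q := by
  letI : Module R G := Module.compHom G (algebraMap R D)
  haveI : IsScalarTower R D G := .of_algebraMap_smul fun _ _ => rfl
  have := h.smooth
  have hp : (p.map (algebraMap R D)).IsPrime := isPrime_map R D p h.geomIrred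
  obtain ⟨𝒟, ⟨𝒜⟩⟩ := ht
  let A' : ℕ → Type u := fun i => match i with | 0 => C | j + 1 => 𝒟.A j
  let B' : ℕ → Type u := fun i => match i with | 0 => D | j + 1 => 𝒟.B j
  let M' : ℕ → Type u := fun i => match i with | 0 => G | j + 1 => 𝒟.M j
  let r' : ℕ → ℕ := fun i => match i with | 0 => r | j + 1 => 𝒟.r j
  letI cA' : ∀ i, CommRing (A' i) := fun i => match i with
    | 0 => inferInstanceAs (CommRing C) | j + 1 => 𝒟.cA j
  letI cB' : ∀ i, CommRing (B' i) := fun i => match i with
    | 0 => inferInstanceAs (CommRing D) | j + 1 => 𝒟.cB j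
  letI aRA' : ∀ i, Algebra R (A' i) := fun i => match i with
    | 0 => inferInstanceAs (Algebra R C) | j + 1 => 𝒟.aRA j
  letI aRB' : ∀ i, Algebra R (B' i) := fun i => match i with
    | 0 => inferInstanceAs (Algebra R D) | j + 1 => 𝒟.aRB j
  letI aBA : ∀ i, Algebra (B' i) (A' i) := fun i => match i with
    | 0 => inferInstanceAs (Algebra D C) | j + 1 => 𝒟.aBA j
  haveI tRBA : ∀ i, IsScalarTower R (B' i) (A' i) := fun i => match i with
    | 0 => inferInstanceAs (IsScalarTower R D C) | j + 1 => 𝒟.tRBA j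
  letI aSA : Algebra S (A' 0) := inferInstanceAs (Algebra S C)
  haveI tRSA : IsScalarTower R S (A' 0) := inferInstanceAs (IsScalarTower R S C)
  letI aBA1 : ∀ i, Algebra (B' i) (A' (i + 1)) := fun i => match i with
    | 0 => 𝒟.aSA | j + 1 => 𝒟.aBA' j
  haveI tRBA1 : ∀ i, IsScalarTower R (B' i) (A' (i + 1)) := fun i => match i with
    | 0 => 𝒟.tRSA | j + 1 => 𝒟.tRBA' j
  letI gM : ∀ i, AddCommGroup (M' i) := fun i => match i with
    | 0 => inferInstanceAs (AddCommGroup G) | j + 1 => 𝒟.gM j
  letI mAM : ∀ i, Module (A' i) (M' i) := fun i => match i with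
    | 0 => inferInstanceAs (Module C G) | j + 1 => 𝒟.mAM j
  letI mBM : ∀ i, Module (B' i) (M' i) := fun i => match i with
    | 0 => inferInstanceAs (Module D G) | j + 1 => 𝒟.mBM j
  haveI tBAM : ∀ i, IsScalarTower (B' i) (A' i) (M' i) := fun i => match i with
    | 0 => inferInstanceAs (IsScalarTower D C G) | j + 1 => 𝒟.tBAM j
  letI mRM : ∀ i, Module R (M' i) := fun i => match i with
    | 0 => inferInstanceAs (Module R G) | j + 1 => 𝒟.mRM j
  haveI tRBM : ∀ i, IsScalarTower R (B' i) (M' i) := fun i => match i with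
    | 0 => inferInstanceAs (IsScalarTower R D G) | j + 1 => 𝒟.tRBM j
  letI mSM : Module S (M' 0) := inferInstanceAs (Module S G)
  haveI tSAM : IsScalarTower S (A' 0) (M' 0) := inferInstanceAs (IsScalarTower S C G)
  letI mB'M : ∀ i, Module (B' i) (M' (i + 1)) := fun i => match i with
    | 0 => 𝒟.mSM | j + 1 => 𝒟.mB'M j
  haveI tB'AM : ∀ i, IsScalarTower (B' i) (A' (i + 1)) (M' (i + 1)) := fun i => match i with
    | 0 => 𝒟.tSAM | j + 1 => 𝒟.tB'AM j
  let α' : ∀ i, (Fin (r' i) → B' i) →ₗ[B' i] M' i := fun i => match i with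
    | 0 => α | j + 1 => 𝒟.α j
  have hp' : ∀ i, (p.map (algebraMap R (B' i))).IsPrime := fun i => match i with
    | 0 => hp | j + 1 => 𝒟.hp j
  have hlast : Function.Surjective (α' (𝒟.n + 1 - 1)) := by
    obtain ⟨k, hk⟩ : ∃ k, 𝒟.n = k + 1 := ⟨_, (Nat.succ_pred_eq_of_pos 𝒟.pos).symm⟩
    have hc := 𝒟.cokerLast
    rw [show 𝒟.n - 1 = k by omega] at hc
    rw [show 𝒟.n + 1 - 1 = k + 1 by omega]
    exact hc
  refine ⟨FlatCA.CompleteDevissage.mk (n := 𝒟.n + 1) (pos := Nat.succ_pos _) (A := A') (B := B')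
      (M := M') (r := r') (hp := hp') (α := α') (surjSA := h.surjSC) (fpSA := h.fpSC)
      (surjBA' := ?_) (fpBA' := ?_) (finiteBA := ?_) (smooth := ?_) (geomIrred := ?_) (finiteM := ?_)
      (isoN := h.equiv.some) (isoCoker := ?_) (fibreIso := ?_) (cokerLast := hlast), ⟨?_⟩⟩
  · intro i hi
    cases i with
    | zero => exact 𝒟.surjSA
    | succ j => exact 𝒟.surjBA' j (by omega)
  · intro i hi
    cases i with
    | zero => exact 𝒟.fpSA
    | succ j => exact 𝒟.fpBA' j (by omega)
  · intro i hi
    cases i with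
    | zero => exact h.finiteDC
    | succ j => exact 𝒟.finiteBA j (by omega)
  · intro i hi
    cases i with
    | zero => exact h.smooth
    | succ j => exact 𝒟.smooth j (by omega)
  · intro i hi
    cases i with
    | zero => exact h.geomIrred
    | succ j => exact 𝒟.geomIrred j (by omega)
  · intro i hi
    cases i with
    | zero => exact h.finiteG
    | succ j => exact 𝒟.finiteM j (by omega)
  · exact fun i => match i with
      | 0 => fun _ => e ≪≫ₗ 𝒟.isoN
      | j + 1 => fun hi => 𝒟.isoCoker j (Nat.lt_of_succ_lt_succ hi)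
  · intro i hi
    cases i with
    | zero => exact h.fibreIso
    | succ j => exact 𝒟.fibreIso j (by omega)
  · exact {
      qB := fun i => match i with | 0 => y | j + 1 => 𝒜.qB j
      qA := fun i => match i with | 0 => z | j + 1 => 𝒜.qA j
      hqB := fun i => match i with | 0 => ‹y.IsPrime› | j + 1 => 𝒜.hqB j
      hqA := fun i => match i with | 0 => ‹z.IsPrime› | j + 1 => 𝒜.hqA j
      overB := fun i => match i with | 0 => ‹y.LiesOver p› | j + 1 => 𝒜.overB j
      overA := fun i => match i with | 0 => ‹z.LiesOver y› | j + 1 => 𝒜.overA j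
      pureTrans := fun i => match i with
        | 0 => fun _ => h.pureTrans
        | j + 1 => fun hi => 𝒜.pureTrans j (Nat.lt_of_succ_lt_succ hi)
      uniq := fun i => match i with
        | 0 => fun _ Q hQ hQy => haveI := hQ; h.uniq Q hQy
        | j + 1 => fun hi Q hQ hQy => haveI := hQ; 𝒜.uniq j (Nat.lt_of_succ_lt_succ hi) Q hQy
      q0 := h.q0
      qStep := fun i => match i with
        | 0 => fun _ => 𝒜.q0
        | j + 1 => fun hi => 𝒜.qStep j (Nat.lt_of_succ_lt_succ hi)
      d := fun i => match i with | 0 => n | j + 1 => 𝒜.d j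
      relDim := fun i => match i with
        | 0 => fun _ => h.relDim
        | j + 1 => fun hi => 𝒜.relDim j (Nat.lt_of_succ_lt_succ hi)
      locDim := fun i => match i with
        | 0 => fun _ => h.locDim
        | j + 1 => fun hi => 𝒜.locDim j (Nat.lt_of_succ_lt_succ hi) }

end Groth.Agent.H7Flat.Chain
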