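import Groth.Agent.H7Flat.Chain.Main
import Mathlib

/-!
# Complete dévissages covering a fibre, over one etale neighbourhood of the base
-/

set_option autoImplicit false
set_option linter.style.haveILetI false
set_option backward.isDefEq.respectTransparency false
set_option maxHeartbeats 1000000

universe u

open TensorProduct

attribute [local instance] Algebra.TensorProduct.rightAlgebra

namespace Groth.Agent.H7Flat.Chain

open Groth.Agent.H7Flat.ElemDev Groth.Agent.H8Props.Devissage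

/-- The base change of an etale neighbourhood. -/
theorem etale_tensor {R A B : Type u} [CommRing R] [CommRing A] [CommRing B] [Algebra R A] [Algebra R B]
    [Algebra.Etale R B] : Algebra.Etale A (B ⊗[R] A) :=
  Algebra.Etale.of_equiv (A := A ⊗[R] B)
    ({ (Algebra.TensorProduct.comm R A B).toRingEquiv with
      commutes' := fun d => by
        show Algebra.TensorProduct.comm R A B (d ⊗ₜ 1) = (1 : B) ⊗ₜ d
        simp } : A ⊗[R] B ≃ₐ[A] B ⊗[R] A)

/-- The point of the base change over a pair of points is a neighbourhood without residue extension. -/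
theorem fracSurj_tensor {R A B : Type u} [CommRing R] [CommRing A] [CommRing B] [Algebra R A] [Algebra R B]
    (Q : Ideal (A ⊗[R] B)) [Q.IsPrime]
    (h : FracSurj (algebraMap R A)
      (Q.comap (Algebra.TensorProduct.includeLeftRingHom : A →+* A ⊗[R] B))) :
    FracSurj (algebraMap B (A ⊗[R] B)) Q :=
  fracSurj_of_generated (algebraMap R A) (algebraMap R B)
    (Algebra.TensorProduct.includeLeftRingHom : A →+* A ⊗[R] B) (algebraMap B (A ⊗[R] B))
    (RingHom.ext fun r => algebraMap_tmul_one r) (closure_range_tensor R A B) Q h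

/-- Finitely many etale neighbourhoods of a prime are dominated by one. -/
theorem exists_common {R : Type u} [CommRing R] (p : Ideal R) [p.IsPrime] :
    ∀ (k : ℕ) (Ri : Fin k → Type u) [∀ i, CommRing (Ri i)] [∀ i, Algebra R (Ri i)]
      (pi : ∀ i, Ideal (Ri i)) [∀ i, (pi i).IsPrime], (∀ i, FlatCA.IsEtaleNhd R (Ri i) p (pi i)) →
      ∃ (R' : Type u) (_ : CommRing R') (_ : Algebra R R') (_ : ∀ i, Algebra (Ri i) R')
        (_ : ∀ i, IsScalarTower R (Ri i) R') (p' : Ideal R') (_ : p'.IsPrime),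
        FlatCA.IsEtaleNhd R R' p p' ∧ ∀ i, FlatCA.IsEtaleNhd (Ri i) R' (pi i) p' := by
  intro k
  induction k with
  | zero =>
    intro Ri _ _ pi _ _
    exact ⟨R, _, _, fun i => i.elim0, fun i => i.elim0, p, ‹_›,
      isEtaleNhd_of_fracSurj (by simp) (fracSurj_of_surjective _ Function.surjective_id _), fun i => i.elim0⟩
  | succ k ih =>
    intro Ri _ _ pi _ h
    obtain ⟨R', _, _, ai, ti, p', _, hR', hi⟩ :=
      ih (fun i => Ri i.castSucc) (fun i => pi i.castSucc) fun i => h i.castSucc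
    obtain ⟨hp, hf⟩ := isEtaleNhd_fracSurj hR'
    obtain ⟨hl, hfl⟩ := isEtaleNhd_fracSurj (h (Fin.last k))
    haveI : Algebra.Etale R R' := hR'.1
    haveI : Algebra.Etale R (Ri (Fin.last k)) := (h (Fin.last k)).1
    obtain ⟨Q, hQ, hQ1, hQ2⟩ := exists_prime_tensor p' (pi (Fin.last k)) (hl.symm.trans hp) hf
    let T := R' ⊗[R] Ri (Fin.last k)
    haveI : Algebra.Etale R T := Algebra.Etale.comp R R' T
    have hTR' : FlatCA.IsEtaleNhd R' T p' Q := by
      refine isEtaleNhd_of_fracSurj hQ1.symm ?_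
      exact fracSurj_of_generated (algebraMap R (Ri (Fin.last k))) (algebraMap R R')
        (algebraMap (Ri (Fin.last k)) T) (algebraMap R' T) (RingHom.ext fun r => (algebraMap_tmul_one r).symm)
        (Set.union_comm _ _ ▸ closure_range_tensor R R' (Ri (Fin.last k))) Q
        (show FracSurj _ (Q.comap _) from hQ2.symm ▸ hfl)
    have key : ∀ i, ∃ a : Algebra (Ri i) T,
        (letI := a; IsScalarTower R (Ri i) T) ∧ (letI := a; FlatCA.IsEtaleNhd (Ri i) T (pi i) Q) := by
      intro i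
      induction i using Fin.lastCases with
      | last =>
        refine ⟨inferInstance, IsScalarTower.of_algebraMap_eq fun r => algebraMap_tmul_one r, ?_⟩
        haveI : Algebra.Etale (Ri (Fin.last k)) T := etale_tensor
        exact isEtaleNhd_of_fracSurj hQ2.symm (fracSurj_tensor Q (hQ1.symm ▸ hf))
      | cast i =>
        letI a : Algebra (Ri i.castSucc) T :=
          ((algebraMap R' T).comp (algebraMap (Ri i.castSucc) R')).toAlgebra
        haveI : @IsScalarTower (Ri i.castSucc) R' T (ai i).toSMul Algebra.toSMul a.toSMul :=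
          IsScalarTower.of_algebraMap_eq fun _ => rfl
        haveI := ti i
        exact ⟨_, IsScalarTower.of_algebraMap_eq fun r =>
          (congrArg (algebraMap R' T) (IsScalarTower.algebraMap_apply R (Ri i.castSucc) R' r) :),
          isEtaleNhd_comp (hi i) hTR'⟩
    choose inst htow hnhd using key
    exact ⟨T, _, _, inst, htow, Q, hQ, isEtaleNhd_comp hR' hTR', hnhd⟩

/-- A complete dévissage at a point after etale localization inside a given open. -/
theorem exists_locU {R S : Type u} [CommRing R] [CommRing S] [Algebra R S] [Algebra.FiniteType R S]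
    (N : Type u) [AddCommGroup N] [Module S N] [Module.Finite S N] (p : Ideal R) [p.IsPrime]
    (q : Ideal S) [q.IsPrime] [q.LiesOver p]
    (hq : (⟨q, inferInstance⟩ : PrimeSpectrum S) ∈ Module.support S N) (u : S) (hu : u ∉ q) :
    ∃ (R' S' : Type u) (_ : CommRing R') (_ : CommRing S') (_ : Algebra R R') (_ : Algebra S S')
      (_ : Algebra R' S') (_ : Algebra R S') (_ : IsScalarTower R R' S') (_ : IsScalarTower R S S')
      (p' : Ideal R') (q' : Ideal S') (_ : p'.IsPrime) (_ : q'.IsPrime),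
      FlatCA.IsEtaleNhd R R' p p' ∧ FlatCA.IsEtaleNhd S S' q q' ∧ q'.LiesOver p' ∧
      IsUnit (algebraMap S S' u) ∧
      FlatCA.HasCompleteDevissageAt R' S' (S' ⊗[S] N) p' q' := by
  let S₁ := Localization.Away u
  let q₁ : Ideal S₁ := q.map (algebraMap S S₁)
  haveI : q₁.IsPrime := isPrime_map_away u q hu
  have hnhd : FlatCA.IsEtaleNhd S S₁ q q₁ := isEtaleNhd_away u hu
  haveI : q₁.LiesOver q := liesOver_map_away u q hu
  haveI : q₁.LiesOver p := Ideal.LiesOver.trans q₁ q p
  haveI : Algebra.FiniteType R S₁ := Algebra.FiniteType.trans ‹Algebra.FiniteType R S› inferInstance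
  have hq₁ : (⟨q₁, inferInstance⟩ : PrimeSpectrum S₁) ∈ Module.support S₁ (S₁ ⊗[S] N) := by
    refine (H06EGA12.mem_support_baseChange_iff N _).mpr ?_
    convert hq using 2
    exact (q₁.over_def q).symm
  obtain ⟨x, hx, m, hxq, hm⟩ := exists_point (S₁ ⊗[S] N) p q₁ hq₁
  obtain ⟨R', S', _, _, _, _, _, _, _, _, p', q', _, _, hR', hS', hq', hd⟩ :=
    exists_loc m R S₁ (S₁ ⊗[S] N) p q₁ x hx hxq hm
  letI : Algebra S S' := ((algebraMap S₁ S').comp (algebraMap S S₁)).toAlgebra
  haveI : IsScalarTower S S₁ S' := IsScalarTower.of_algebraMap_eq fun _ => rfl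
  haveI : IsScalarTower R S S' := IsScalarTower.of_algebraMap_eq fun r => by
    show algebraMap R S' r = algebraMap S₁ S' (algebraMap S S₁ (algebraMap R S r))
    rw [← IsScalarTower.algebraMap_apply R S S₁, ← IsScalarTower.algebraMap_apply R S₁ S']
  exact ⟨R', S', _, _, _, _, _, _, inferInstance, inferInstance, p', q', ‹_›, ‹_›, hR',
    isEtaleNhd_comp hnhd hS', hq', (IsLocalization.Away.algebraMap_isUnit u).map (algebraMap S₁ S'),
    hcd_congr (AlgebraTensorModule.cancelBaseChange S S₁ S' S' N).symm hd⟩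

/-- Complete dévissages at points covering the support in a fibre, over one etale neighbourhood of
the base, inside given opens. -/
theorem exists_cover {R S : Type u} [CommRing R] [CommRing S] [Algebra R S] [Algebra.FiniteType R S]
    (N : Type u) [AddCommGroup N] [Module S N] [Module.Finite S N] (p : Ideal R) [p.IsPrime]
    (U : Set (PrimeSpectrum S)) (hU : IsOpen U)
    (hpU : ∀ q : PrimeSpectrum S, q.asIdeal.LiesOver p → q ∈ U) :
    ∃ (R' : Type u) (_ : CommRing R') (_ : Algebra R R') (p' : Ideal R') (_ : p'.IsPrime),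
      FlatCA.IsEtaleNhd R R' p p' ∧
      ∃ (k : ℕ) (C : Fin k → Type u) (_ : ∀ i, CommRing (C i)) (_ : ∀ i, Algebra S (C i))
        (_ : ∀ i, Algebra R' (C i)) (_ : ∀ i, Algebra R (C i)) (_ : ∀ i, IsScalarTower R S (C i))
        (_ : ∀ i, IsScalarTower R R' (C i)) (qc : ∀ i, Ideal (C i)) (_ : ∀ i, (qc i).IsPrime),
        (∀ i, Algebra.Etale S (C i) ∧ (qc i).LiesOver p' ∧
          (∀ Q : PrimeSpectrum (C i), PrimeSpectrum.comap (algebraMap S (C i)) Q ∈ U) ∧
          FlatCA.HasCompleteDevissageAt R' (C i) (C i ⊗[S] N) p' (qc i)) ∧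
        ∀ q : PrimeSpectrum S, q.asIdeal.LiesOver p → q ∈ Module.support S N →
          ∃ (i : Fin k) (Q : Ideal (C i)), Q.IsPrime ∧ Q.comap (algebraMap S (C i)) = q.asIdeal ∧
            Q.LiesOver p' := by
  classical
  let F : Set (PrimeSpectrum S) := PrimeSpectrum.comap (algebraMap R S) ⁻¹' {⟨p, inferInstance⟩}
  have hF : ∀ q, q ∈ F ↔ q.asIdeal.LiesOver p := fun q =>
    ⟨fun h => ⟨(congrArg PrimeSpectrum.asIdeal h).symm⟩, fun h => PrimeSpectrum.ext h.over.symm⟩
  have hFc : IsCompact (F ∩ Module.support S N) := by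
    have : IsCompact F :=
      isCompact_iff_compactSpace.mpr (PrimeSpectrum.preimageHomeomorphFiber R S ⟨p, inferInstance⟩).symm.compactSpace
    exact this.inter_right Module.isClosed_support
  -- a dévissage at every point
  have key : ∀ x : {x // x ∈ F ∩ Module.support S N}, ∃ (R' S' : Type u) (_ : CommRing R') (_ : CommRing S')
      (_ : Algebra R R') (_ : Algebra S S')
      (_ : Algebra R' S') (_ : Algebra R S') (_ : IsScalarTower R R' S') (_ : IsScalarTower R S S')
      (p' : Ideal R') (q' : Ideal S') (_ : p'.IsPrime) (_ : q'.IsPrime) (s : R'),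
      FlatCA.IsEtaleNhd R R' p p' ∧ FlatCA.IsEtaleNhd S S' x.1.asIdeal q' ∧ q'.LiesOver p' ∧ s ∉ p' ∧
      (∀ P : Ideal R', P.IsPrime → P.comap (algebraMap R R') = p → s ∉ P → P = p') ∧
      (∀ Q : PrimeSpectrum S', PrimeSpectrum.comap (algebraMap S S') Q ∈ U) ∧
      FlatCA.HasCompleteDevissageAt R' S' (S' ⊗[S] N) p' q' := by
    intro x
    haveI : x.1.asIdeal.LiesOver p := (hF _).mp x.2.1
    obtain ⟨_, ⟨u, rfl⟩, hux, huU⟩ := PrimeSpectrum.isTopologicalBasis_basic_opens.exists_subset_of_mem_open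
      (hpU x.1 ((hF _).mp x.2.1)) hU
    obtain ⟨R', S', _, _, _, _, _, _, _, _, p', q', _, _, hR', hS', hq', hu, hd⟩ :=
      exists_locU N p x.1.asIdeal x.2.2 u hux
    haveI : Algebra.Etale R R' := hR'.1
    haveI : p'.LiesOver p := hR'.2.1
    let others := (p.primesOver R' \ {p'})
    have hfin : others.Finite := (Algebra.QuasiFinite.finite_primesOver p).sdiff
    have hne : ∀ P ∈ others, ∃ s ∈ P, s ∉ p' := fun P hP => by
      by_contra! hle
      haveI := hP.1.1
      exact hP.2 (Algebra.QuasiFinite.eq_of_le_of_under_eq (R := R) P p' hle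
        (hP.1.2.over.symm.trans (p'.over_def p)))
    choose s hsP hsp using hne
    let t := ∏ P : hfin.toFinset, s P.1 (hfin.mem_toFinset.mp P.2)
    refine ⟨R', S', _, _, _, _, _, _, inferInstance, inferInstance, p', q', ‹_›, ‹_›, t, hR', hS', hq', ?_, ?_,
      fun Q => huU fun hm => Q.isPrime.ne_top (Ideal.eq_top_of_isUnit_mem _ hm hu), hd⟩
    · intro hm
      obtain ⟨P, -, hP⟩ := Ideal.IsPrime.prod_mem_iff.mp hm
      exact hsp _ _ hP
    · intro P hP hPp htP
      by_contra hne
      have hmem : P ∈ others := ⟨⟨hP, ⟨hPp.symm⟩⟩, hne⟩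
      refine htP ?_
      exact Ideal.mem_of_dvd _ (Finset.dvd_prod_of_mem
        (fun P : hfin.toFinset => s P.1 (hfin.mem_toFinset.mp P.2))
        (Finset.mem_univ ⟨P, hfin.mem_toFinset.mpr hmem⟩)) (hsP P hmem)
  choose Rf Sf cR cS aR aS aRS aRS' t1 t2 pf qf hpf hqf sf hR' hS' hq' hsf huniq hUf hd using key
  have hopen : ∀ x, IsOpen (PrimeSpectrum.comap (algebraMap S (Sf x)) ''
      (PrimeSpectrum.basicOpen (algebraMap (Rf x) (Sf x) (sf x)) : Set (PrimeSpectrum (Sf x)))) := fun x => by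
    haveI : Algebra.Etale S (Sf x) := (hS' x).1
    exact PrimeSpectrum.isOpenMap_comap_of_hasGoingDown_of_finitePresentation (R := S) (S := Sf x) _
      (PrimeSpectrum.basicOpen _).isOpen
  obtain ⟨t, ht⟩ := hFc.elim_finite_subcover _ hopen fun x hx => Set.mem_iUnion.mpr
    ⟨⟨x, hx⟩, ⟨qf ⟨x, hx⟩, hqf _⟩, fun hm => hsf ⟨x, hx⟩ (by
      rw [(hq' ⟨x, hx⟩).over]; exact hm), PrimeSpectrum.ext (hS' ⟨x, hx⟩).2.1.over.symm⟩
  let e := t.equivFin
  obtain ⟨R', _, _, ai, ti, p', _, hR, hi⟩ := exists_common p t.card (fun i => Rf (e.symm i).1)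
    (fun i => pf (e.symm i).1) fun i => hR' (e.symm i).1
  refine ⟨R', _, _, p', ‹_›, hR, ?_⟩
  letI aSC : ∀ i, Algebra S (R' ⊗[Rf (e.symm i).1] Sf (e.symm i).1) := fun i =>
    ((algebraMap (Sf (e.symm i).1) (R' ⊗[Rf (e.symm i).1] Sf (e.symm i).1)).comp
      (algebraMap S (Sf (e.symm i).1))).toAlgebra
  haveI : ∀ i, IsScalarTower S (Sf (e.symm i).1) (R' ⊗[Rf (e.symm i).1] Sf (e.symm i).1) := fun i =>
    IsScalarTower.of_algebraMap_eq fun _ => rfl
  haveI hRR' : ∀ i, IsScalarTower R R' (R' ⊗[Rf (e.symm i).1] Sf (e.symm i).1) := fun i =>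
    haveI := ti i
    inferInstance
  haveI hRS : ∀ i, IsScalarTower R S (R' ⊗[Rf (e.symm i).1] Sf (e.symm i).1) := fun i =>
    IsScalarTower.of_algebraMap_eq fun r => by
      haveI := ti i
      show _ =
        algebraMap (Sf (e.symm i).1) _ (algebraMap S (Sf (e.symm i).1) (algebraMap R S r))
      rw [IsScalarTower.algebraMap_apply R R' (R' ⊗[Rf (e.symm i).1] Sf (e.symm i).1)]
      rw [← IsScalarTower.algebraMap_apply R S (Sf (e.symm i).1),
        IsScalarTower.algebraMap_apply R (Rf (e.symm i).1) (Sf (e.symm i).1),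
        IsScalarTower.algebraMap_apply R (Rf (e.symm i).1) R']
      exact algebraMap_tmul_one _
  have hpts : ∀ i, ∃ Q : Ideal (R' ⊗[Rf (e.symm i).1] Sf (e.symm i).1),
      Q.IsPrime ∧ Q.LiesOver (qf (e.symm i).1) ∧ Q.LiesOver p' := fun i => by
    haveI := hq' (e.symm i).1
    haveI : p'.LiesOver (pf (e.symm i).1) := (hi i).2.1
    exact exists_prime_over (S' := R' ⊗[Rf (e.symm i).1] Sf (e.symm i).1)
      (hi i).2.2 (qf (e.symm i).1)
  choose qc hqc hqcq hqcp using hpts
  refine ⟨t.card, fun i => R' ⊗[Rf (e.symm i).1] Sf (e.symm i).1, inferInstance, aSC, inferInstance,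
    inferInstance, hRS, hRR', qc, hqc, fun i => ⟨?_, hqcp i, fun Q => ?_, ?_⟩, fun q hq hqN => ?_⟩
  · haveI : Algebra.Etale S (Sf (e.symm i).1) := (hS' _).1
    haveI : Algebra.Etale (Rf (e.symm i).1) R' := (hi i).1
    haveI : Algebra.Etale (Sf (e.symm i).1) (R' ⊗[Rf (e.symm i).1] Sf (e.symm i).1) := etale_tensor
    exact Algebra.Etale.comp S (Sf (e.symm i).1) _
  · exact hUf (e.symm i).1 (PrimeSpectrum.comap (algebraMap (Sf (e.symm i).1) _) Q)
  · haveI := hqc i
    haveI := hqcq i
    haveI := hqcp i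
    haveI := hq' (e.symm i).1
    haveI : p'.LiesOver (pf (e.symm i).1) := (hi i).2.1
    haveI : Algebra.Etale R (Rf (e.symm i).1) := (hR' _).1
    haveI : Algebra.Etale S (Sf (e.symm i).1) := (hS' _).1
    haveI : Algebra.FiniteType R (Sf (e.symm i).1) :=
      Algebra.FiniteType.trans ‹Algebra.FiniteType R S› inferInstance
    haveI : Algebra.FiniteType (Rf (e.symm i).1) (Sf (e.symm i).1) := .of_restrictScalars_finiteType R _ _
    refine hcd_congr ?_ (hcd_baseChange (hd (e.symm i).1) R' p' (hi i).2.2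
      (R' ⊗[Rf (e.symm i).1] Sf (e.symm i).1)
      ((R' ⊗[Rf (e.symm i).1] Sf (e.symm i).1) ⊗[Sf (e.symm i).1] (Sf (e.symm i).1 ⊗[S] N))
      (TensorProduct.mk _ _ _ 1) (TensorProduct.isBaseChange _ _ _) (qc i))
    exact (AlgebraTensorModule.cancelBaseChange S (Sf (e.symm i).1) _ _ N).symm
  · obtain ⟨x, hxt, P, hP, hPq⟩ := Set.mem_iUnion₂.mp (ht ⟨(hF q).mpr hq, hqN⟩)
    obtain ⟨i, hx⟩ : ∃ i, (e.symm i).1 = x := ⟨e ⟨x, hxt⟩, by rw [e.symm_apply_apply]⟩
    subst hx
    have hPp : P.asIdeal.comap (algebraMap (Rf (e.symm i).1) (Sf (e.symm i).1)) = pf (e.symm i).1 := by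
      refine huniq _ _ (Ideal.IsPrime.comap _) ?_ hP
      rw [Ideal.comap_comap, ← IsScalarTower.algebraMap_eq, IsScalarTower.algebraMap_eq R S (Sf (e.symm i).1),
        ← Ideal.comap_comap]
      exact (congrArg (fun I => I.comap (algebraMap R S)) (congrArg PrimeSpectrum.asIdeal hPq)).trans hq.over.symm
    haveI : P.asIdeal.LiesOver (pf (e.symm i).1) := ⟨hPp.symm⟩
    haveI : p'.LiesOver (pf (e.symm i).1) := (hi i).2.1
    obtain ⟨Q, hQ, hQP, hQp⟩ := exists_prime_over (S' := R' ⊗[Rf (e.symm i).1] Sf (e.symm i).1)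
      (p' := p') (hi i).2.2 P.asIdeal
    refine ⟨i, Q, hQ, ?_, hQp⟩
    show Q.comap ((algebraMap (Sf (e.symm i).1) _).comp (algebraMap S (Sf (e.symm i).1))) = _
    rw [← Ideal.comap_comap, ← show P.asIdeal = Q.comap _ from hQP.over]
    exact congrArg PrimeSpectrum.asIdeal hPq

end Groth.Agent.H7Flat.Chain
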