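import Groth.Agent.H7Flat.Chain.Local
import Mathlib

/-!
# Flat points after etale localization over the local ring of the base
-/

set_option autoImplicit false
set_option linter.style.haveILetI false
set_option backward.isDefEq.respectTransparency false
set_option maxHeartbeats 1000000

universe u

open TensorProduct

namespace Groth.Agent.H7Flat.Chain

open Groth.Agent.H7Flat.ElemDev Groth.Agent.H8Props.Devissage

/-- An etale neighbourhood inside a given open with a complete dévissage or with vanishing module. -/
theorem exists_piece {R S : Type u} [CommRing R] [CommRing S] [Algebra R S] [Algebra.FiniteType R S]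
    (N : Type u) [AddCommGroup N] [Module S N] [Module.Finite S N] (p : Ideal R) [p.IsPrime]
    (q : Ideal S) [q.IsPrime] [q.LiesOver p] (u : S) (hu : u ∉ q) :
    ∃ (R' S' : Type u) (_ : CommRing R') (_ : CommRing S') (_ : Algebra R R') (_ : Algebra S S')
      (_ : Algebra R' S') (_ : Algebra R S') (_ : IsScalarTower R R' S') (_ : IsScalarTower R S S')
      (p' : Ideal R') (q' : Ideal S') (_ : p'.IsPrime) (_ : q'.IsPrime),
      FlatCA.IsEtaleNhd R R' p p' ∧ FlatCA.IsEtaleNhd S S' q q' ∧ q'.LiesOver p' ∧
      IsUnit (algebraMap S S' u) ∧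
      (Subsingleton (S' ⊗[S] N) ∨ FlatCA.HasCompleteDevissageAt R' S' (S' ⊗[S] N) p' q') := by
  by_cases hq : (⟨q, inferInstance⟩ : PrimeSpectrum S) ∈ Module.support S N
  · obtain ⟨R', S', _, _, _, _, _, _, _, _, p', q', _, _, h1, h2, h3, h4, h5⟩ := exists_locU N p q hq u hu
    exact ⟨R', S', _, _, _, _, _, _, inferInstance, inferInstance, p', q', ‹_›, ‹_›, h1, h2, h3, h4, Or.inr h5⟩
  · obtain ⟨d, hdN, hdq⟩ := SetLike.not_le_iff_exists.mp (Module.mem_support_iff_of_finite.not.mp hq)
    have hud : u * d ∉ q := fun h => (‹q.IsPrime›.mem_or_mem h).elim hu hdq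
    let S' := Localization.Away (u * d)
    let q' : Ideal S' := q.map (algebraMap S S')
    haveI : q'.IsPrime := isPrime_map_away (u * d) q hud
    haveI : q'.LiesOver q := liesOver_map_away (u * d) q hud
    have h : IsUnit (algebraMap S S' u * algebraMap S S' d) :=
      map_mul (algebraMap S S') u d ▸ IsLocalization.Away.algebraMap_isUnit (u * d)
    refine ⟨R, S', _, _, _, _, _, _, inferInstance, inferInstance, p, q', ‹_›, ‹_›,
      isEtaleNhd_of_fracSurj (by simp) (fracSurj_of_surjective _ Function.surjective_id _),
      isEtaleNhd_away (u * d) hud, Ideal.LiesOver.trans q' q p, isUnit_of_mul_isUnit_left h, Or.inl ?_⟩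
    exact subsingleton_tensor_of_isUnit (isUnit_of_mul_isUnit_right h) N fun k =>
      Module.mem_annihilator.mp hdN k

/-- The base change to a formally etale base is formally etale. -/
theorem formallyEtale_pushout (R S A SA : Type u) [CommRing R] [CommRing S] [CommRing A] [CommRing SA]
    [Algebra R S] [Algebra R A] [Algebra S SA] [Algebra A SA] [Algebra R SA] [IsScalarTower R S SA]
    [IsScalarTower R A SA] [Algebra.IsPushout R S A SA] [Algebra.FormallyEtale R A] :
    Algebra.FormallyEtale S SA :=
  Algebra.FormallyEtale.of_equiv (Algebra.IsPushout.equiv R S A SA)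

/-- A pushout of an etale algebra over the local ring is etale over the base changed ring. -/
theorem etale_over_model {R S R' S' A SA T : Type u} [CommRing R] [CommRing S] [CommRing R'] [CommRing S']
    [CommRing A] [CommRing SA] [CommRing T] [Algebra R S] [Algebra R R'] [Algebra.Etale R R']
    [Algebra S S'] [Algebra.Etale S S'] [Algebra R' S'] [Algebra R' A] (p' : Ideal R') [p'.IsPrime]
    [IsLocalization.AtPrime A p'] [Algebra R A] [IsScalarTower R R' A]
    [Algebra S SA] [Algebra A SA] [Algebra R SA] [IsScalarTower R S SA] [IsScalarTower R A SA]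
    [Algebra.IsPushout R S A SA]
    [Algebra A T] [Algebra S' T] [Algebra R' T] [IsScalarTower R' A T] [IsScalarTower R' S' T]
    [Algebra.IsPushout R' A S' T] [Algebra S T] [IsScalarTower S S' T]
    [Algebra SA T] [IsScalarTower A SA T] [IsScalarTower S SA T] [Algebra.FiniteType R S]
    [Algebra.FinitePresentation A T] : Algebra.Etale SA T := by
  haveI : Algebra.FormallyEtale R' A := Algebra.FormallyEtale.of_isLocalization p'.primeCompl
  haveI : Algebra.FormallyEtale R A := Algebra.FormallyEtale.comp R R' A
  haveI : Algebra.FormallyEtale S SA := formallyEtale_pushout R S A SA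
  haveI : Algebra.IsPushout R' S' A T := Algebra.IsPushout.symm ‹_›
  haveI : Algebra.FormallyEtale S' T := formallyEtale_pushout R' S' A T
  haveI : Algebra.FormallyEtale S T := Algebra.FormallyEtale.comp S S' T
  haveI : Algebra.IsPushout R A S SA := Algebra.IsPushout.symm ‹_›
  haveI : Algebra.FiniteType A SA :=
    Algebra.FiniteType.equiv inferInstance (Algebra.IsPushout.equiv R A S SA)
  haveI : Algebra.FinitePresentation SA T :=
    Algebra.FinitePresentation.of_restrict_scalars_finitePresentation A SA T
  exact { formallyEtale := Algebra.FormallyEtale.of_restrictScalars (R := S)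
          finitePresentation := inferInstance }

/-- Over the local ring of an etale neighbourhood, an etale neighbourhood of a flat point on which
the module is finitely presented and free. -/
theorem exists_etale_fp_free {R S : Type u} [CommRing R] [CommRing S] [Algebra R S]
    [Algebra.FinitePresentation R S]
    (N : Type u) [AddCommGroup N] [Module S N] [Module R N] [IsScalarTower R S N] [Module.Finite S N]
    (p : Ideal R) [p.IsPrime] (q : Ideal S) [q.IsPrime] [q.LiesOver p] (hflat : FlatCA.FlatAt R q N) :
    ∃ (R' : Type u) (_ : CommRing R') (_ : Algebra R R') (p' : Ideal R') (_ : p'.IsPrime),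
      FlatCA.IsEtaleNhd R R' p p' ∧
      ∀ (SA NA : Type u) [CommRing SA] [Algebra R SA] [Algebra S SA] [Algebra (Localization.AtPrime p') SA]
        [IsScalarTower R S SA] [IsScalarTower R (Localization.AtPrime p') SA]
        [Algebra.IsPushout R S (Localization.AtPrime p') SA]
        [AddCommGroup NA] [Module SA NA] [Module S NA] [IsScalarTower S SA NA]
        (f : N →ₗ[S] NA), IsBaseChange SA f →
        ∃ (C : Type u) (_ : CommRing C) (_ : Algebra SA C) (_ : Algebra (Localization.AtPrime p') C)
          (_ : IsScalarTower (Localization.AtPrime p') SA C) (_ : Algebra S C) (_ : IsScalarTower S SA C)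
          (x' : Ideal C) (_ : x'.IsPrime) (hx : x'.LiesOver q),
          Algebra.Etale SA C ∧ Algebra.FinitePresentation (Localization.AtPrime p') C ∧
          x'.LiesOver (IsLocalRing.maximalIdeal (Localization.AtPrime p')) ∧
          Function.Bijective (Ideal.ResidueField.mapₐ q x' (Algebra.ofId S C) hx.over) ∧
          Module.FinitePresentation C (C ⊗[SA] NA) ∧
          Module.Free (Localization.AtPrime p')
            (RestrictScalars (Localization.AtPrime p') C (C ⊗[SA] NA)) := by
  obtain ⟨R', S', _, _, _, _, _, _, _, _, p', q', _, _, hR, hS, hq', -, hd⟩ :=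
    exists_piece N p q 1 fun h => ‹q.IsPrime›.ne_top ((Ideal.eq_top_iff_one q).mpr h)
  haveI : Algebra.Etale R R' := hR.1
  haveI : Algebra.Etale S S' := hS.1
  haveI := hq'
  refine ⟨R', _, _, p', ‹_›, hR, ?_⟩
  intro SA NA _ _ _ _ _ _ _ _ _ _ _ f hf
  let A := Localization.AtPrime p'
  let T := A ⊗[R'] S'
  letI : Algebra S' T := Algebra.TensorProduct.rightAlgebra
  haveI : Algebra.IsPushout R' A S' T := inferInstance
  letI : Algebra S T := ((algebraMap S' T).comp (algebraMap S S')).toAlgebra
  haveI : IsScalarTower S S' T := IsScalarTower.of_algebraMap_eq fun _ => rfl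
  haveI : IsScalarTower R' S' T := IsScalarTower.of_algebraMap_eq fun r => by
    show algebraMap R' T r = (1 : A) ⊗ₜ[R'] algebraMap R' S' r
    exact algebraMap_tmul_one r
  obtain ⟨hfpA, hfpT, hfree⟩ := fp_free_atPrime N p' A T (hd.imp id fun h =>
    ⟨q', ‹_›, hq', (show ∀ (I : Ideal S) [I.IsPrime], I = q → FlatCA.FlatAt R I N from
      fun I _ h => by subst h; exact hflat) _ hS.2.1.over.symm, h⟩)
  haveI : IsScalarTower R S T := IsScalarTower.of_algebraMap_eq fun r => by
    rw [IsScalarTower.algebraMap_apply R R' T, IsScalarTower.algebraMap_apply R' S' T,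
      IsScalarTower.algebraMap_apply S S' T, ← IsScalarTower.algebraMap_apply R R' S',
      ← IsScalarTower.algebraMap_apply R S S']
  haveI : IsScalarTower R A T := inferInstance
  let φ : SA →ₐ[R] T := Algebra.pushoutDesc SA (IsScalarTower.toAlgHom R S T)
    (IsScalarTower.toAlgHom R A T) fun _ _ => mul_comm _ _
  letI : Algebra SA T := φ.toRingHom.toAlgebra
  haveI : IsScalarTower S SA T := IsScalarTower.of_algebraMap_eq fun b =>
    (Algebra.pushoutDesc_left SA (IsScalarTower.toAlgHom R S T) (IsScalarTower.toAlgHom R A T)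
      (fun _ _ => mul_comm _ _) b).symm
  haveI : IsScalarTower A SA T := IsScalarTower.of_algebraMap_eq fun b =>
    (Algebra.pushoutDesc_right SA (IsScalarTower.toAlgHom R S T) (IsScalarTower.toAlgHom R A T)
      (fun _ _ => mul_comm _ _) b).symm
  haveI := hfpA
  haveI : Algebra.IsPushout R' S' A T := Algebra.IsPushout.symm inferInstance
  haveI : (IsLocalRing.maximalIdeal A).LiesOver p' :=
    ⟨(IsLocalization.AtPrime.under_maximalIdeal A p').symm⟩
  obtain ⟨Q, hQ, hQq, hQm⟩ := exists_prime_over (S' := T) (residueMap_bijective_atPrime p' A) q'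
  haveI := hQ
  haveI := hQq
  haveI : q'.LiesOver q := hS.2.1
  have hx : Q.LiesOver q := Ideal.LiesOver.trans Q q' q
  let e : T ⊗[SA] NA ≃ₗ[T] T ⊗[S] N :=
    (AlgebraTensorModule.congr (LinearEquiv.refl T T) hf.equiv).symm ≪≫ₗ
      AlgebraTensorModule.cancelBaseChange S SA T T N
  have hfree' := free_restrict_congr (A := A) (C := T) (M := T ⊗[S] N) (M' := T ⊗[SA] NA) e.symm hfree
  refine ⟨T, _, _, inferInstance, ‹_›, _, ‹_›, Q, hQ, hx, etale_over_model (R := R) (S := S) (R' := R') (S' := S') (A := A) p',
    hfpA, hQm, bijective_of_fracSurj hx.over ?_, ?_, by exact hfree'⟩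
  · obtain ⟨hq2, hf2⟩ := isEtaleNhd_fracSurj hS
    rw [IsScalarTower.algebraMap_eq S S' T]
    refine FracSurj.comp ?_ ?_
    · exact fracSurj_of_generated (algebraMap R' A) (algebraMap R' S') (algebraMap A T) (algebraMap S' T)
        (by rw [← IsScalarTower.algebraMap_eq, ← IsScalarTower.algebraMap_eq])
        (closure_range_tensor R' A S') Q (fracSurj_of_isLocalization p'.primeCompl A _)
    · rw [show Q.comap (algebraMap S' T) = q' from hQq.over.symm]
      exact hf2
  · haveI := hfpT
    exact Module.FinitePresentation.of_equiv (R := T) (M := T ⊗[S] N) (N := T ⊗[SA] NA) e.symm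

end Groth.Agent.H7Flat.Chain
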