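import Groth.Agent.H7Flat.Chain.Pieces
import Groth.Agent.H7Flat.Chain.Point
import Mathlib

/-!
# Etale covers of a fibre over the local ring of an etale neighbourhood
-/

set_option autoImplicit false
set_option linter.style.haveILetI false
set_option backward.isDefEq.respectTransparency false
set_option maxHeartbeats 1000000

universe u

open TensorProduct

namespace Groth.Agent.H7Flat.Chain

open Groth.Agent.H7Flat.ElemDev Groth.Agent.H8Props.Devissage

/-- Base change to a finite product of algebras is finitely presented and free over the base when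
it is so on every factor. -/
theorem fp_free_pi {A S : Type u} [CommRing A] [CommRing S] {ι : Type} [Fintype ι] (T : ι → Type u)
    [∀ i, CommRing (T i)] [∀ i, Algebra A (T i)] [∀ i, Algebra S (T i)] (N : Type u) [AddCommGroup N]
    [Module S N] :
    ((∀ i, Module.Free A (RestrictScalars A (T i) ((T i) ⊗[S] N))) →
      Module.Free A (RestrictScalars A (∀ i, T i) ((∀ i, T i) ⊗[S] N))) ∧
    ((∀ i, Module.FinitePresentation (T i) ((T i) ⊗[S] N)) →
      Module.FinitePresentation (∀ i, T i) ((∀ i, T i) ⊗[S] N)) := by
  classical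
  let C := ∀ i, T i
  letI aC : ∀ i, Algebra C (T i) := fun i => (Pi.evalRingHom T i).toAlgebra
  haveI : ∀ i, IsScalarTower S C (T i) := fun i => IsScalarTower.of_algebraMap_eq fun _ => rfl
  haveI : ∀ i, IsScalarTower A C (T i) := fun i => IsScalarTower.of_algebraMap_eq fun _ => rfl
  letI : ∀ i, Module C ((T i) ⊗[S] N) := fun i => Module.compHom _ (algebraMap C (T i))
  haveI : ∀ i, IsScalarTower C (T i) ((T i) ⊗[S] N) := fun i => .of_algebraMap_smul fun _ _ => rfl
  let F : C ⊗[S] N →ₗ[C] ∀ i, (T i) ⊗[S] N :=
    LinearMap.liftBaseChange C (LinearMap.pi fun i => TensorProduct.mk S (T i) N 1)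
  have hF : Function.Bijective F := by
    have : ⇑F = ⇑(TensorProduct.piLeft S N T) := by
      funext z
      induction z using TensorProduct.induction_on with
      | zero => simp
      | add a b ha hb => simp [map_add, ha, hb]
      | tmul c n =>
        funext i
        simp only [F, LinearMap.liftBaseChange_tmul, TensorProduct.piLeft, LinearEquiv.trans_apply,
          Pi.smul_apply, LinearMap.pi_apply, TensorProduct.mk_apply]
        show algebraMap C (T i) c • ((1 : T i) ⊗ₜ[S] n) = _
        simp [TensorProduct.smul_tmul', LinearEquiv.piCongrRight_apply, RingHom.algebraMap_toAlgebra]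
        rfl
    rw [this]
    exact (TensorProduct.piLeft S N T).bijective
  let e : C ⊗[S] N ≃ₗ[C] ∀ i, (T i) ⊗[S] N := LinearEquiv.ofBijective F hF
  refine ⟨fun h => ?_, fun h => ?_⟩
  · haveI : ∀ i, Module.Free A ((T i) ⊗[S] N) := fun i => by
      haveI := h i
      exact Module.Free.of_equiv (M := RestrictScalars A (T i) ((T i) ⊗[S] N))
        ({ RestrictScalars.addEquiv A (T i) ((T i) ⊗[S] N) with
          map_smul' := fun a z => by
            show RestrictScalars.addEquiv A (T i) ((T i) ⊗[S] N) (a • z) =
              a • RestrictScalars.addEquiv A (T i) ((T i) ⊗[S] N) z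
            rw [RestrictScalars.addEquiv_map_smul, algebraMap_smul] } :
          RestrictScalars A (T i) ((T i) ⊗[S] N) ≃ₗ[A] (T i) ⊗[S] N)
    haveI : ∀ i, IsScalarTower A C ((T i) ⊗[S] N) := fun i => .of_algebraMap_smul fun a z => by
      rw [← algebraMap_smul (T i) (algebraMap A C a) z, ← IsScalarTower.algebraMap_apply, algebraMap_smul]
    exact free_restrict_congr e.symm (free_restrict_of_tower (M := ∀ i, (T i) ⊗[S] N) inferInstance)
  · haveI : ∀ i, Module.FinitePresentation C (T i) := fun i =>
      Module.finitePresentation_of_surjective (Algebra.linearMap C (T i))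
        (fun t => ⟨Function.update (0 : C) i t, by
          show Function.update (0 : C) i t i = t
          simp⟩) (by
          refine ⟨{Function.update (1 : C) i 0}, ?_⟩
          apply le_antisymm
          · rw [Submodule.span_le]
            intro x hx
            rw [Finset.coe_singleton, Set.mem_singleton_iff] at hx
            subst hx
            show Function.update (1 : C) i 0 i = 0
            simp
          · intro x hx
            have hx' : x i = 0 := hx
            rw [Finset.coe_singleton]
            refine Submodule.mem_span_singleton.mpr ⟨x, funext fun j => ?_⟩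
            show x j * Function.update (1 : C) i 0 j = x j
            by_cases hj : j = i
            · subst hj
              simp [hx']
            · rw [Function.update_of_ne hj]; exact mul_one _)
    haveI := h
    haveI : ∀ i, Module.FinitePresentation C ((T i) ⊗[S] N) := fun i =>
      Module.FinitePresentation.trans C ((T i) ⊗[S] N) (T i)
    haveI : Module.FinitePresentation C (∀ i, (T i) ⊗[S] N) := inferInstance
    exact Module.FinitePresentation.of_equiv e.symm

/-- Over the local ring of an etale neighbourhood, an etale cover of the fibre on which the module is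
finitely presented and free. -/
theorem exists_cover_fp_free {R S : Type u} [CommRing R] [CommRing S] [Algebra R S]
    [Algebra.FinitePresentation R S]
    (N : Type u) [AddCommGroup N] [Module S N] [Module R N] [IsScalarTower R S N] [Module.Finite S N]
    (p : Ideal R) [p.IsPrime]
    (hflat : ∀ (q : Ideal S) [q.IsPrime], q.LiesOver p → FlatCA.FlatAt R q N) :
    ∃ (R' : Type u) (_ : CommRing R') (_ : Algebra R R') (p' : Ideal R') (_ : p'.IsPrime),
      FlatCA.IsEtaleNhd R R' p p' ∧
      ∀ (SA NA : Type u) [CommRing SA] [Algebra R SA] [Algebra S SA] [Algebra (Localization.AtPrime p') SA]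
        [IsScalarTower R S SA] [IsScalarTower R (Localization.AtPrime p') SA]
        [Algebra.IsPushout R S (Localization.AtPrime p') SA]
        [AddCommGroup NA] [Module SA NA] [Module S NA] [IsScalarTower S SA NA]
        (f : N →ₗ[S] NA), IsBaseChange SA f →
        ∃ (C : Type u) (_ : CommRing C) (_ : Algebra SA C) (_ : Algebra (Localization.AtPrime p') C)
          (_ : IsScalarTower (Localization.AtPrime p') SA C) (_ : Algebra S C) (_ : IsScalarTower S SA C),
          Algebra.Etale SA C ∧ Algebra.FinitePresentation (Localization.AtPrime p') C ∧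
          (∀ (q : Ideal S) [q.IsPrime], q.LiesOver p → ∃ x' : Ideal C, x'.IsPrime ∧
            x'.comap (algebraMap S C) = q ∧
            x'.LiesOver (IsLocalRing.maximalIdeal (Localization.AtPrime p'))) ∧
          Module.FinitePresentation C (C ⊗[SA] NA) ∧
          Module.Free (Localization.AtPrime p')
            (RestrictScalars (Localization.AtPrime p') C (C ⊗[SA] NA)) := by
  classical
  obtain ⟨R', _, _, p', _, hR, ι, _, Ci, _, aSC, aR'C, aRC, t1, t2, hP, hcov⟩ :=
    exists_pieces (S := S) N p Set.univ isOpen_univ fun _ _ => trivial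
  haveI : Algebra.Etale R R' := hR.1
  refine ⟨R', _, _, p', ‹_›, hR, ?_⟩
  intro SA NA _ _ _ _ _ _ _ _ _ _ _ f hf
  let A := Localization.AtPrime p'
  haveI : (IsLocalRing.maximalIdeal A).LiesOver p' :=
    ⟨(IsLocalization.AtPrime.under_maximalIdeal A p').symm⟩
  have key : ∀ i, ∃ (T : Type u) (_ : CommRing T) (_ : Algebra SA T) (_ : Algebra A T)
      (_ : IsScalarTower A SA T) (_ : Algebra S T) (_ : IsScalarTower S SA T),
      Algebra.Etale SA T ∧ Algebra.FinitePresentation A T ∧ Module.FinitePresentation T (T ⊗[S] N) ∧
      Module.Free A (RestrictScalars A T (T ⊗[S] N)) ∧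
      ∀ (Q : Ideal (Ci i)) [Q.IsPrime], Q.LiesOver p' → ∃ X : Ideal T, X.IsPrime ∧
        X.comap (algebraMap S T) = Q.comap (algebraMap S (Ci i)) ∧
        X.LiesOver (IsLocalRing.maximalIdeal A) := fun i => by
    haveI := t1 i
    haveI := t2 i
    haveI : Algebra.Etale S (Ci i) := (hP i).etale
    let T := A ⊗[R'] Ci i
    letI : Algebra (Ci i) T := Algebra.TensorProduct.rightAlgebra
    haveI : Algebra.IsPushout R' A (Ci i) T := inferInstance
    letI : Algebra S T := ((algebraMap (Ci i) T).comp (algebraMap S (Ci i))).toAlgebra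
    haveI : IsScalarTower S (Ci i) T := IsScalarTower.of_algebraMap_eq fun _ => rfl
    haveI : IsScalarTower R' (Ci i) T := IsScalarTower.of_algebraMap_eq fun r => by
      show algebraMap R' T r = (1 : A) ⊗ₜ[R'] algebraMap R' (Ci i) r
      exact algebraMap_tmul_one r
    obtain ⟨hfpA, hfpT, hfree⟩ := fp_free_atPrime N p' A T ((hP i).hcd.imp id fun ⟨q', h1, h2, h3⟩ =>
      ⟨q', h1, h2, hflat _ ⟨by
        rw [Ideal.under_def, Ideal.comap_comap, ← IsScalarTower.algebraMap_eq,
          IsScalarTower.algebraMap_eq R R' (Ci i), ← Ideal.comap_comap]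
        exact hR.2.1.over.trans (congrArg _ h2.over)⟩, h3⟩)
    haveI : IsScalarTower R S T := IsScalarTower.of_algebraMap_eq fun r => by
      rw [IsScalarTower.algebraMap_apply R R' T, IsScalarTower.algebraMap_apply R' (Ci i) T,
        IsScalarTower.algebraMap_apply S (Ci i) T, ← IsScalarTower.algebraMap_apply R R' (Ci i),
        ← IsScalarTower.algebraMap_apply R S (Ci i)]
    haveI : IsScalarTower R A T := inferInstance
    let φ : SA →ₐ[R] T := Algebra.pushoutDesc SA (IsScalarTower.toAlgHom R S T)
      (IsScalarTower.toAlgHom R A T) fun _ _ => mul_comm _ _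
    letI : Algebra SA T := φ.toRingHom.toAlgebra
    haveI : IsScalarTower S SA T := IsScalarTower.of_algebraMap_eq fun b =>
      (Algebra.pushoutDesc_left SA (IsScalarTower.toAlgHom R S T) (IsScalarTower.toAlgHom R A T)
        (fun _ _ => mul_comm _ _) b).symm
    haveI : IsScalarTower A SA T := IsScalarTower.of_algebraMap_eq fun b =>
      (Algebra.pushoutDesc_right SA (IsScalarTower.toAlgHom R S T) (IsScalarTower.toAlgHom R A T)
        (fun _ _ => mul_comm _ _) b).symm
    haveI := hfpA
    refine ⟨T, _, _, inferInstance, ‹_›, _, ‹_›,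
      etale_over_model (R := R) (S := S) (R' := R') (S' := Ci i) (A := A) p', hfpA, hfpT, hfree,
      fun Q _ hQ => ?_⟩
    haveI := hQ
    haveI : Algebra.IsPushout R' (Ci i) A T := Algebra.IsPushout.symm ‹_›
    obtain ⟨X, hX, hXQ, hXm⟩ := exists_prime_over (S' := T) (residueMap_bijective_atPrime p' A) Q
    refine ⟨X, hX, ?_, hXm⟩
    rw [IsScalarTower.algebraMap_eq S (Ci i) T, ← Ideal.comap_comap]
    exact congrArg _ hXQ.over.symm
  choose T cT aSAT aAT tA aST tS hTe hTA hTfp hTfree hTpt using key
  let C := ∀ i, T i
  haveI : IsScalarTower A SA C := IsScalarTower.of_algebraMap_eq fun a =>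
    funext fun i => IsScalarTower.algebraMap_apply A SA (T i) a
  haveI : IsScalarTower S SA C := IsScalarTower.of_algebraMap_eq fun a =>
    funext fun i => IsScalarTower.algebraMap_apply S SA (T i) a
  haveI : Algebra.FiniteType R S := inferInstance
  haveI : Algebra.Etale SA C := inferInstance
  haveI : Algebra.IsPushout R (Localization.AtPrime p') S SA := Algebra.IsPushout.symm ‹_›
  haveI : Algebra.FinitePresentation A SA :=
    Algebra.FinitePresentation.equiv (Algebra.IsPushout.equiv R A S SA)
  haveI : Algebra.FinitePresentation A C := Algebra.FinitePresentation.trans A SA C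
  let e : C ⊗[SA] NA ≃ₗ[C] C ⊗[S] N :=
    (AlgebraTensorModule.congr (LinearEquiv.refl C C) hf.equiv).symm ≪≫ₗ
      AlgebraTensorModule.cancelBaseChange S SA C C N
  obtain ⟨hfree, hfp⟩ := fp_free_pi (A := A) (S := S) T N
  have hfree' := free_restrict_congr (A := A) (C := C) (M := C ⊗[S] N) (M' := C ⊗[SA] NA) e.symm (hfree hTfree)
  haveI := hfp hTfp
  refine ⟨C, _, _, inferInstance, ‹_›, _, ‹_›, inferInstance, inferInstance, fun q _ hq => ?_,
    Module.FinitePresentation.of_equiv (R := C) (M := C ⊗[S] N) (N := C ⊗[SA] NA) e.symm, by exact hfree'⟩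
  obtain ⟨i, Q, hQ, hQq, hQp⟩ := hcov ⟨q, ‹_›⟩ hq
  obtain ⟨X, hX, hXq, hXm⟩ := hTpt i Q hQp
  refine ⟨X.comap (Pi.evalRingHom T i), Ideal.IsPrime.comap _, ?_, ⟨?_⟩⟩
  · rw [Ideal.comap_comap]
    exact hXq.trans hQq
  · rw [Ideal.under_def, Ideal.comap_comap]
    exact hXm.over

end Groth.Agent.H7Flat.Chain
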