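import Groth.Agent.H7Flat.Chain.Cover
import Mathlib

/-!
# Complete dévissages covering a whole fibre
-/

set_option autoImplicit false
set_option linter.style.haveILetI false
set_option backward.isDefEq.respectTransparency false
set_option maxHeartbeats 1000000

universe u

open TensorProduct

attribute [local instance] Algebra.TensorProduct.rightAlgebra

namespace Groth.Agent.H7Flat.Chain

open Groth.Agent.H7Flat.ElemDev Groth.Agent.H8Props.Devissage

open AlgebraicGeometry CategoryTheory in
theorem geomIrredFibres_self (R : Type u) [CommRing R] : FlatCA.GeomIrredFibres R R := by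
  show GeometricallyIrreducible _
  refine ⟨fun K _ y Z fst snd h => ?_⟩
  haveI : IsIso (Spec.map (CommRingCat.ofHom (algebraMap R R))) := by
    show IsIso (Spec.map (𝟙 (CommRingCat.of R)))
    infer_instance
  haveI : IsIso snd := h.isIso_snd_of_isIso
  haveI : IrreducibleSpace (Spec (CommRingCat.of K)) :=
    inferInstanceAs (IrreducibleSpace (PrimeSpectrum K))
  show IrreducibleSpace Z
  rw [irreducibleSpace_def]
  have h := (IrreducibleSpace.isIrreducible_univ (Spec (CommRingCat.of K))).image snd.homeomorph.symm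
    snd.homeomorph.symm.continuous.continuousOn
  rwa [Set.image_univ, snd.homeomorph.symm.surjective.range_eq] at h

/-- The zero module has a complete dévissage. -/
theorem nonempty_devissage_subsingleton {R C : Type u} [CommRing R] [CommRing C] [Algebra R C]
    (N : Type u) [AddCommGroup N] [Module C N] [Subsingleton N] (p : Ideal R) [p.IsPrime] :
    Nonempty (FlatCA.CompleteDevissage R C N p) := by
  let Z := C ⧸ (⊤ : Ideal C)
  haveI : Subsingleton Z := Ideal.Quotient.subsingleton_iff.mpr rfl
  haveI : (p.map (algebraMap R R)).IsPrime := by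
    rw [Algebra.algebraMap_self, Ideal.map_id]
    infer_instance
  exact ⟨FlatCA.CompleteDevissage.mk (n := 1) (pos := one_pos) (A := fun _ => Z) (B := fun _ => R)
      (M := fun _ => Z) (r := fun _ => 0) (hp := fun _ => inferInstance) (α := fun _ => 0)
      (surjSA := Ideal.Quotient.mk_surjective)
      (fpSA := Algebra.FinitePresentation.quotient ⟨{1}, by simp [Ideal.span]⟩)
      (surjBA' := fun i hi => absurd hi (by omega)) (fpBA' := fun i hi => absurd hi (by omega))
      (finiteBA := fun _ _ => inferInstance) (smooth := fun _ _ => inferInstance)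
      (geomIrred := fun _ _ => geomIrredFibres_self R) (finiteM := fun _ _ => inferInstance)
      (isoN := { toFun := fun _ => 0
                 map_add' := fun _ _ => Subsingleton.elim _ _
                 map_smul' := fun _ _ => Subsingleton.elim _ _
                 invFun := fun _ => 0
                 left_inv := fun _ => Subsingleton.elim _ _
                 right_inv := fun _ => Subsingleton.elim _ _ })
      (isoCoker := fun i hi => absurd hi (by omega))
      (fibreIso := fun _ _ => ⟨fun a b _ => Subsingleton.elim a b, fun a => ⟨0, Subsingleton.elim _ a⟩⟩)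
      (cokerLast := fun a => ⟨0, Subsingleton.elim _ a⟩)⟩

/-- Having a complete dévissage only depends on the module up to isomorphism. -/
theorem nonempty_devissage_congr {R S : Type u} [CommRing R] [CommRing S] [Algebra R S] {N N' : Type u}
    [AddCommGroup N] [Module S N] [AddCommGroup N'] [Module S N'] {p : Ideal R} [p.IsPrime]
    (e : N' ≃ₗ[S] N) (𝒟 : FlatCA.CompleteDevissage R S N p) :
    Nonempty (FlatCA.CompleteDevissage R S N' p) :=
  ⟨FlatCA.CompleteDevissage.mk (n := 𝒟.n) (pos := 𝒟.pos) (A := 𝒟.A) (B := 𝒟.B) (M := 𝒟.M)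
      (r := 𝒟.r) (α := 𝒟.α) (surjSA := 𝒟.surjSA) (fpSA := 𝒟.fpSA) (surjBA' := 𝒟.surjBA')
      (fpBA' := 𝒟.fpBA') (finiteBA := 𝒟.finiteBA) (smooth := 𝒟.smooth) (geomIrred := 𝒟.geomIrred)
      (finiteM := 𝒟.finiteM) (isoN := e ≪≫ₗ 𝒟.isoN) (isoCoker := 𝒟.isoCoker)
      (fibreIso := 𝒟.fibreIso) (cokerLast := 𝒟.cokerLast)⟩

/-- Finitely many elements of the annihilator cut out the support in a fibre. -/
theorem exists_annihilator_fibre {R S : Type u} [CommRing R] [CommRing S] [Algebra R S]
    [Algebra.FiniteType R S] (N : Type u) [AddCommGroup N] [Module S N] [Module.Finite S N]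
    (p : Ideal R) [p.IsPrime] :
    ∃ (m : ℕ) (d : Fin m → S), (∀ j (x : N), d j • x = 0) ∧
      ∀ q : PrimeSpectrum S, q.asIdeal.LiesOver p → q ∉ Module.support S N → ∃ j, d j ∉ q.asIdeal := by
  classical
  haveI : IsNoetherianRing (p.Fiber S) := Algebra.FiniteType.isNoetherianRing p.ResidueField _
  let f : S →+* p.Fiber S := algebraMap S (p.Fiber S)
  let I := (Module.annihilator S N).map f
  obtain ⟨s, hs, hspan⟩ := (Submodule.fg_span_iff_fg_span_finset_subset
    (R := p.Fiber S) (f '' (Module.annihilator S N : Set S))).mp (IsNoetherian.noetherian I)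
  choose d hd hdf using fun x : s => hs x.2
  refine ⟨s.card, fun j => d (s.equivFin.symm j), fun j x => Module.mem_annihilator.mp (hd _) x,
    fun q hq hqN => ?_⟩
  haveI := hq
  by_contra! hall
  refine hqN (Module.mem_support_iff_of_finite.mpr fun a ha => ?_)
  have hle : I ≤ FlatCA.fiberIdeal p q.asIdeal := by
    refine (le_of_eq hspan).trans (Ideal.span_le.mpr fun x hx => ?_)
    have h := hall (s.equivFin ⟨x, hx⟩)
    rw [Equiv.symm_apply_apply] at h
    rw [← comap_fiberIdeal p q.asIdeal, Ideal.mem_comap, hdf] at h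
    exact h
  rw [← comap_fiberIdeal p q.asIdeal]
  exact hle (Ideal.mem_map_of_mem f ha)

/-- Complete dévissages over every prime in a fibre, for any models of the base changes. -/
theorem exists_cover_models {A B : Type u} [CommRing A] [CommRing B] [Algebra A B]
    [Algebra.FiniteType A B] (N : Type u) [AddCommGroup N] [Module B N] [Module.Finite B N]
    (p : Ideal A) [p.IsPrime] :
    ∃ (A' : Type u) (_ : CommRing A') (_ : Algebra A A') (p' : Ideal A') (_ : p'.IsPrime),
      FlatCA.IsEtaleNhd A A' p p' ∧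
      ∀ (BA NA : Type u) [CommRing BA] [Algebra B BA] [Algebra A' BA] [Algebra A BA]
        [IsScalarTower A B BA] [IsScalarTower A A' BA]
        [Algebra.IsPushout A B A' BA]
        [AddCommGroup NA] [Module BA NA] [Module B NA] [IsScalarTower B BA NA]
        (fA : N →ₗ[B] NA), IsBaseChange BA fA →
        ∃ (k : ℕ) (C : Fin k → Type u) (_ : ∀ i, CommRing (C i)) (_ : ∀ i, Algebra BA (C i))
          (_ : ∀ i, Algebra A' (C i)) (_ : ∀ i, IsScalarTower A' BA (C i))
          (Nc : Fin k → Type u) (_ : ∀ i, AddCommGroup (Nc i)) (_ : ∀ i, Module (C i) (Nc i))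
          (_ : ∀ i, Module BA (Nc i)) (_ : ∀ i, IsScalarTower BA (C i) (Nc i))
          (g : ∀ i, NA →ₗ[BA] Nc i),
          (∀ i, Algebra.Etale BA (C i) ∧ IsBaseChange (C i) (g i) ∧
            Nonempty (FlatCA.CompleteDevissage A' (C i) (Nc i) p')) ∧
          ∀ (Q : Ideal BA) [Q.IsPrime], Q.LiesOver p' →
            ∃ (i : Fin k) (Q' : Ideal (C i)), Q'.IsPrime ∧ Q'.comap (algebraMap BA (C i)) = Q := by
  classical
  obtain ⟨A', _, _, p', _, hA', k, C, _, aBC, aA'C, aAC, t1, t2, qc, _, hC, hcov⟩ :=
    exists_cover (S := B) N p Set.univ isOpen_univ fun _ _ => trivial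
  obtain ⟨m, d, hdN, hd⟩ := exists_annihilator_fibre (S := B) N p
  refine ⟨A', _, _, p', ‹_›, hA', ?_⟩
  intro BA NA _ _ _ _ _ _ _ _ _ _ _ fA hfA
  haveI : Algebra.Etale A A' := hA'.1
  obtain ⟨hpp, hfp⟩ := isEtaleNhd_fracSurj hA'
  let cov : Fin k ⊕ Fin m → Ideal BA → Prop := fun x Q => match x with
    | .inl i => ∃ Q'' : Ideal (C i), Q''.IsPrime ∧
        Q''.comap (algebraMap B (C i)) = Q.comap (algebraMap B BA) ∧ Q''.LiesOver p'
    | .inr j => d j ∉ Q.comap (algebraMap B BA)
  have key : ∀ x : Fin k ⊕ Fin m, ∃ (D : Type u) (_ : CommRing D) (_ : Algebra BA D) (_ : Algebra A' D)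
      (_ : IsScalarTower A' BA D) (M : Type u) (_ : AddCommGroup M) (_ : Module D M) (_ : Module BA M)
      (_ : IsScalarTower BA D M) (g : NA →ₗ[BA] M),
      (Algebra.Etale BA D ∧ IsBaseChange D g ∧ Nonempty (FlatCA.CompleteDevissage A' D M p')) ∧
      ∀ (Q : Ideal BA) [Q.IsPrime], Q.LiesOver p' → cov x Q →
        ∃ Q' : Ideal D, Q'.IsPrime ∧ Q'.comap (algebraMap BA D) = Q := by
    intro x
    rcases x with i | j
    · let φ : BA →ₐ[A] C i := Algebra.pushoutDesc BA (IsScalarTower.toAlgHom A B (C i))
        (IsScalarTower.toAlgHom A A' (C i)) fun _ _ => mul_comm _ _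
      letI : Algebra BA (C i) := φ.toRingHom.toAlgebra
      haveI : IsScalarTower B BA (C i) := IsScalarTower.of_algebraMap_eq fun b =>
        (Algebra.pushoutDesc_left BA (IsScalarTower.toAlgHom A B (C i))
          (IsScalarTower.toAlgHom A A' (C i)) (fun _ _ => mul_comm _ _) b).symm
      haveI : IsScalarTower A' BA (C i) := IsScalarTower.of_algebraMap_eq fun a =>
        (Algebra.pushoutDesc_right BA (IsScalarTower.toAlgHom A B (C i))
          (IsScalarTower.toAlgHom A A' (C i)) (fun _ _ => mul_comm _ _) a).symm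
      haveI : Algebra.Etale B (C i) := (hC i).1
      let e := Algebra.IsPushout.equiv A B A' BA
      haveI : Algebra.Etale B BA := Algebra.Etale.of_equiv e
      haveI : Algebra.IsPushout A A' B BA := Algebra.IsPushout.symm ‹_›
      obtain ⟨𝒟, -⟩ := (hC i).2.2.2
      refine ⟨C i, _, _, aA'C i, ‹_›, C i ⊗[BA] NA, _, _, _, inferInstance,
        TensorProduct.mk BA (C i) NA 1,
        ⟨Algebra.Etale.of_restrictScalars B BA (C i), TensorProduct.isBaseChange _ _ _, ?_⟩, ?_⟩
      · exact nonempty_devissage_congr ((AlgebraTensorModule.congr (LinearEquiv.refl (C i) (C i))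
          hfA.equiv).symm ≪≫ₗ AlgebraTensorModule.cancelBaseChange B BA (C i) (C i) N) 𝒟
      · rintro Q _ hQ ⟨Q'', hQ'', hQB, hQp⟩
        refine ⟨Q'', hQ'', ?_⟩
        haveI := hQ''
        refine (eq_of_comap_eq (algebraMap A A') (algebraMap A B) (algebraMap A' BA) (algebraMap B BA)
          (by rw [← IsScalarTower.algebraMap_eq, ← IsScalarTower.algebraMap_eq])
          (closure_range_pushout (A := A) (B := B) (A' := A') (B' := BA))
          (by rw [show Q.comap (algebraMap A' BA) = p' from hQ.over.symm]; exact hfp) ?_ ?_).symm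
        · rw [Ideal.comap_comap, ← IsScalarTower.algebraMap_eq]
          exact hQB
        · rw [Ideal.comap_comap, ← IsScalarTower.algebraMap_eq]
          exact hQp.over.symm.trans hQ.over
    · let D := Localization.Away (algebraMap B BA (d j))
      haveI : Algebra.Etale BA D := Algebra.Etale.of_isLocalizationAway (algebraMap B BA (d j))
      haveI : Subsingleton (D ⊗[BA] NA) := subsingleton_tensor_of_isUnit
        (IsLocalization.Away.algebraMap_isUnit (S := D) (algebraMap B BA (d j))) NA fun z => by
          induction z using hfA.inductionOn with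
          | zero => exact smul_zero _
          | tmul n => rw [algebraMap_smul, ← map_smul, hdN, map_zero]
          | smul a z hz => rw [smul_comm, hz, smul_zero]
          | add a b ha hb => rw [smul_add, ha, hb, add_zero]
      refine ⟨D, _, _, inferInstance, inferInstance, D ⊗[BA] NA, _, _, _, inferInstance,
        TensorProduct.mk BA D NA 1, ⟨‹_›, TensorProduct.isBaseChange _ _ _,
        nonempty_devissage_subsingleton _ p'⟩, fun Q _ hQ hdQ => ?_⟩
      haveI hP : (Q.map (algebraMap BA D)).IsPrime := isPrime_map_away (algebraMap B BA (d j)) Q hdQ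
      haveI : (Q.map (algebraMap BA D)).LiesOver Q := liesOver_map_away (algebraMap B BA (d j)) Q hdQ
      exact ⟨Q.map (algebraMap BA D), hP, (Ideal.over_def (Q.map (algebraMap BA D)) Q).symm⟩
  choose D cD aD aD' tD M gM mM mM' tM g hg hQ' using key
  let e := (finSumFinEquiv : Fin k ⊕ Fin m ≃ Fin (k + m)).symm
  refine ⟨k + m, fun i => D (e i), fun i => cD _, fun i => aD _, fun i => aD' _, fun i => tD _,
    fun i => M (e i), fun i => gM _, fun i => mM _, fun i => mM' _, fun i => tM _, fun i => g _,
    fun i => hg _, fun Q hQ hQp => ?_⟩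
  haveI := hQp
  have hq : (Q.comap (algebraMap B BA)).LiesOver p := ⟨by
    rw [Ideal.under_def, Ideal.comap_comap, ← IsScalarTower.algebraMap_eq,
      IsScalarTower.algebraMap_eq A A' BA, ← Ideal.comap_comap]
    exact hpp.trans (congrArg _ hQp.over)⟩
  obtain ⟨x, hx⟩ : ∃ x, cov x Q := by
    by_cases hs : (⟨_, Ideal.IsPrime.comap (algebraMap B BA) (hK := hQ)⟩ : PrimeSpectrum B) ∈
        Module.support B N
    · obtain ⟨i, Q'', h1, h2, h3⟩ := hcov _ hq hs
      exact ⟨.inl i, Q'', h1, h2, h3⟩
    · obtain ⟨j, hj⟩ := hd _ hq hs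
      exact ⟨.inr j, hj⟩
  obtain ⟨Q', h1, h2⟩ := hQ' x Q hQp hx
  obtain ⟨i, rfl⟩ := e.surjective x
  exact ⟨i, Q', h1, h2⟩

end Groth.Agent.H7Flat.Chain
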