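import Groth.Agent.H7Flat.Chain.FiniteType
import Groth.Agent.H7Flat.DevissageFP
import Mathlib

/-!
# Open neighbourhoods on which a module is flat and finitely presented over the local ring of the base
-/

set_option autoImplicit false
set_option linter.style.haveILetI false
set_option backward.isDefEq.respectTransparency false
set_option maxHeartbeats 1000000

universe u

open TensorProduct

namespace Groth.Agent.H7Flat.Chain

open Groth.Agent.H7Flat.ElemDev Groth.Agent.H8Props.Devissage

/-- An etale neighbourhood with flat module gives a basic open with flat module. -/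
theorem exists_open_flat {A SA C : Type u} [CommRing A] [CommRing SA] [CommRing C] [Algebra A SA]
    [Algebra SA C] [Algebra A C] [IsScalarTower A SA C] [Algebra.Etale SA C] (x : Ideal C) [x.IsPrime]
    (NA : Type u) [AddCommGroup NA] [Module SA NA] [Module A NA] [IsScalarTower A SA NA]
    (hflat : Module.Free A (RestrictScalars A C (C ⊗[SA] NA))) :
    ∃ g : SA, g ∉ x.comap (algebraMap SA C) ∧ Module.Flat A (LocalizedModule (Submonoid.powers g) NA) ∧
      (Module.FinitePresentation C (C ⊗[SA] NA) →
        Module.FinitePresentation (Localization.Away g) (LocalizedModule (Submonoid.powers g) NA)) := by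
  obtain ⟨g, hg, him⟩ := H7Flat.DevissageLoc.exists_basicOpen_le_image (S := SA) x (1 : C)
    fun h => ‹x.IsPrime›.ne_top ((Ideal.eq_top_iff_one x).mpr h)
  let ψ : NA →ₗ[SA] C ⊗[SA] NA := TensorProduct.mk SA C NA 1
  have hψ : IsBaseChange C ψ := TensorProduct.isBaseChange SA NA C
  haveI : Module.Flat A (C ⊗[SA] NA) := by
    haveI : Module.Free A (RestrictScalars A C (C ⊗[SA] NA)) := hflat
    exact Module.Flat.of_linearEquiv (M := RestrictScalars A C (C ⊗[SA] NA))
      ({ RestrictScalars.addEquiv A C (C ⊗[SA] NA) with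
        map_smul' := fun a z => by
          show RestrictScalars.addEquiv A C (C ⊗[SA] NA) (a • z) = a • RestrictScalars.addEquiv A C (C ⊗[SA] NA) z
          rw [RestrictScalars.addEquiv_map_smul, algebraMap_smul] } :
        RestrictScalars A C (C ⊗[SA] NA) ≃ₗ[A] C ⊗[SA] NA).symm
  refine ⟨g, hg, ?_, fun hfp => ?_⟩
  · refine (H7Flat.DevissageLoc.flat_away_iff g NA).mpr fun q _ hgq => ?_
    obtain ⟨Q, hQ, -, rfl⟩ := him q hgq
    refine (H7Flat.FlatAtFinite.flat_localizedModule_flat_iff hψ Q).mpr ?_
    refine (H7Flat.FlatAtFinite.flat_localizedModule_iff A _ _).mpr fun a z hz => ⟨1, Submonoid.one_mem _, ?_⟩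
    rw [one_smul]
    exact Module.Flat.lTensor_preserves_injective_linearMap (M := C ⊗[SA] NA) a.subtype
      a.subtype_injective (hz.trans (map_zero _).symm)
  · let T' := Submonoid.powers (algebraMap SA C g)
    refine (H7Flat.DevissageFP.fp_localized_baseChange hψ (Submonoid.powers g) T'
      (by rintro _ ⟨k, rfl⟩; exact ⟨k, by simp [map_pow]⟩)).2 inferInstance (fun q hq hd => ?_) ?_
    · have hgq : g ∉ q := fun h => Set.disjoint_left.mp hd ⟨1, pow_one g⟩ h
      obtain ⟨Q, hQ, -, hQc⟩ := him q hgq
      refine ⟨Q, hQ, Set.disjoint_left.mpr ?_, hQc⟩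
      rintro _ ⟨k, rfl⟩ hk
      exact hgq (hQc ▸ hQ.mem_of_pow_mem k hk)
    · haveI := hfp
      exact Module.FinitePresentation.of_equiv
        (IsLocalizedModule.isBaseChange T' (Localization T') (LocalizedModule.mkLinearMap T' (C ⊗[SA] NA))).equiv

/-- Over the local ring of an etale neighbourhood there is one point over a given point in the closed
fibre. -/
theorem eq_of_liesOver {R S R' A SA : Type u} [CommRing R] [CommRing S] [CommRing R'] [CommRing A]
    [IsLocalRing A] [CommRing SA] [Algebra R S] [Algebra R R'] [Algebra R' A] [Algebra R A]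
    [IsScalarTower R R' A] [Algebra S SA] [Algebra A SA] [Algebra R SA] [IsScalarTower R S SA]
    [IsScalarTower R A SA] [Algebra.IsPushout R S A SA] {p : Ideal R} [p.IsPrime] (p' : Ideal R')
    [p'.IsPrime] [IsLocalization.AtPrime A p'] (hR : FlatCA.IsEtaleNhd R R' p p') (q : Ideal S)
    (Q₁ Q₂ : Ideal SA) [Q₁.IsPrime] [Q₂.IsPrime] (h1 : Q₁.LiesOver q)
    (h1' : Q₁.LiesOver (IsLocalRing.maximalIdeal A)) (h2 : Q₂.LiesOver q)
    (h2' : Q₂.LiesOver (IsLocalRing.maximalIdeal A)) : Q₁ = Q₂ := by
  obtain ⟨hpp, hfp⟩ := isEtaleNhd_fracSurj hR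
  have hfA : FracSurj (algebraMap R A) (IsLocalRing.maximalIdeal A) := by
    rw [IsScalarTower.algebraMap_eq R R' A]
    refine (fracSurj_of_isLocalization p'.primeCompl A _).comp ?_
    rw [show (IsLocalRing.maximalIdeal A).comap (algebraMap R' A) = p' from
      IsLocalization.AtPrime.under_maximalIdeal A p']
    exact hfp
  haveI : Algebra.IsPushout R A S SA := Algebra.IsPushout.symm ‹_›
  refine eq_of_comap_eq (algebraMap R A) (algebraMap R S) (algebraMap A SA) (algebraMap S SA)
    (by rw [← IsScalarTower.algebraMap_eq, ← IsScalarTower.algebraMap_eq])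
    (closure_range_pushout (A := R) (B := S) (A' := A) (B' := SA)) ?_ ?_ ?_
  · rw [show Q₁.comap (algebraMap A SA) = IsLocalRing.maximalIdeal A from h1'.over.symm]
    exact hfA
  · exact h2.over.symm.trans h1.over
  · exact h2'.over.symm.trans h1'.over

/-- Flatness and finite presentation near a point over the local ring of an etale neighbourhood. -/
theorem exists_open_fp_flat {R S : Type u} [CommRing R] [CommRing S] [Algebra R S]
    [Algebra.FinitePresentation R S]
    (N : Type u) [AddCommGroup N] [Module S N] [Module R N] [IsScalarTower R S N] [Module.Finite S N]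
    (p : Ideal R) [p.IsPrime] (q : Ideal S) [q.IsPrime] [q.LiesOver p] (hflat : FlatCA.FlatAt R q N) :
    ∃ (R' : Type u) (_ : CommRing R') (_ : Algebra R R') (p' : Ideal R') (_ : p'.IsPrime),
      FlatCA.IsEtaleNhd R R' p p' ∧
      ∀ (SA NA : Type u) [CommRing SA] [Algebra R SA] [Algebra S SA] [Algebra (Localization.AtPrime p') SA]
        [IsScalarTower R S SA] [IsScalarTower R (Localization.AtPrime p') SA]
        [Algebra.IsPushout R S (Localization.AtPrime p') SA]
        [AddCommGroup NA] [Module SA NA] [Module S NA] [IsScalarTower S SA NA]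
        [Module (Localization.AtPrime p') NA] [IsScalarTower (Localization.AtPrime p') SA NA]
        (f : N →ₗ[S] NA), IsBaseChange SA f →
        ∃ g : SA, (∀ (Q : Ideal SA) [Q.IsPrime], Q.LiesOver q →
            Q.LiesOver (IsLocalRing.maximalIdeal (Localization.AtPrime p')) → g ∉ Q) ∧
          Module.FinitePresentation (Localization.Away g) (LocalizedModule (Submonoid.powers g) NA) ∧
          Module.Flat (Localization.AtPrime p') (LocalizedModule (Submonoid.powers g) NA) := by
  obtain ⟨R', _, _, p', _, hR, h⟩ := exists_etale_fp_free N p q hflat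
  refine ⟨R', _, _, p', ‹_›, hR, ?_⟩
  intro SA NA _ _ _ _ _ _ _ _ _ _ _ _ _ f hf
  obtain ⟨C, _, _, _, tA, _, tS, x, _, hx, hC, -, hxm, -, hfp, hfree⟩ := h SA NA f hf
  haveI := hC
  haveI := hx
  haveI := hxm
  obtain ⟨g, hg, hgflat, hgfp⟩ := exists_open_flat x NA hfree
  refine ⟨g, fun Q _ hQq hQm hgQ => hg ?_, hgfp hfp, hgflat⟩
  have hxq : (x.comap (algebraMap SA C)).LiesOver q := ⟨by
    rw [Ideal.under_def, Ideal.comap_comap, ← IsScalarTower.algebraMap_eq]
    exact hx.over⟩
  have hxm' : (x.comap (algebraMap SA C)).LiesOver (IsLocalRing.maximalIdeal (Localization.AtPrime p')) := ⟨by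
    rw [Ideal.under_def, Ideal.comap_comap, ← IsScalarTower.algebraMap_eq]
    exact hxm.over⟩
  rwa [eq_of_liesOver (A := Localization.AtPrime p') p' hR q (x.comap (algebraMap SA C)) Q hxq hxm' hQq hQm]

/-- Flatness near a point over the local ring of an etale neighbourhood. -/
theorem exists_open_flat_point {R S : Type u} [CommRing R] [CommRing S] [Algebra R S]
    [Algebra.FiniteType R S]
    (N : Type u) [AddCommGroup N] [Module S N] [Module R N] [IsScalarTower R S N] [Module.Finite S N]
    (p : Ideal R) [p.IsPrime] (q : Ideal S) [q.IsPrime] [q.LiesOver p] (hflat : FlatCA.FlatAt R q N) :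
    ∃ (R' : Type u) (_ : CommRing R') (_ : Algebra R R') (p' : Ideal R') (_ : p'.IsPrime),
      FlatCA.IsEtaleNhd R R' p p' ∧
      ∀ (SA NA : Type u) [CommRing SA] [Algebra R SA] [Algebra S SA] [Algebra (Localization.AtPrime p') SA]
        [IsScalarTower R S SA] [IsScalarTower R (Localization.AtPrime p') SA]
        [Algebra.IsPushout R S (Localization.AtPrime p') SA]
        [AddCommGroup NA] [Module SA NA] [Module S NA] [IsScalarTower S SA NA]
        [Module (Localization.AtPrime p') NA] [IsScalarTower (Localization.AtPrime p') SA NA]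
        (f : N →ₗ[S] NA), IsBaseChange SA f →
        ∃ g : SA, (∀ (Q : Ideal SA) [Q.IsPrime], Q.LiesOver q →
            Q.LiesOver (IsLocalRing.maximalIdeal (Localization.AtPrime p')) → g ∉ Q) ∧
          Module.Flat (Localization.AtPrime p') (LocalizedModule (Submonoid.powers g) NA) := by
  obtain ⟨R', _, _, p', _, hR, h⟩ := exists_etale_free N p q hflat
  refine ⟨R', _, _, p', ‹_›, hR, ?_⟩
  intro SA NA _ _ _ _ _ _ _ _ _ _ _ _ _ f hf
  obtain ⟨C, _, _, _, tA, _, tS, x, _, hx, hC, hxm, -, hfree⟩ := h SA NA f hf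
  haveI := hC
  haveI := hx
  haveI := hxm
  obtain ⟨g, hg, hgflat, -⟩ := exists_open_flat x NA hfree
  refine ⟨g, fun Q _ hQq hQm hgQ => hg ?_, hgflat⟩
  have hxq : (x.comap (algebraMap SA C)).LiesOver q := ⟨by
    rw [Ideal.under_def, Ideal.comap_comap, ← IsScalarTower.algebraMap_eq]
    exact hx.over⟩
  have hxm' : (x.comap (algebraMap SA C)).LiesOver (IsLocalRing.maximalIdeal (Localization.AtPrime p')) := ⟨by
    rw [Ideal.under_def, Ideal.comap_comap, ← IsScalarTower.algebraMap_eq]
    exact hxm.over⟩
  rwa [eq_of_liesOver (A := Localization.AtPrime p') p' hR q (x.comap (algebraMap SA C)) Q hxq hxm' hQq hQm]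

end Groth.Agent.H7Flat.Chain
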