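import Groth.Agent.H7Flat.Chain.CoverFree
import Groth.Agent.H7Flat.Chain.Open
import Mathlib

/-!
# Flatness along a fibre after etale localization of the base
-/

set_option autoImplicit false
set_option linter.style.haveILetI false
set_option backward.isDefEq.respectTransparency false
set_option maxHeartbeats 1000000

universe u

open TensorProduct

namespace Groth.Agent.H7Flat.Chain

open Groth.Agent.H7Flat.ElemDev Groth.Agent.H8Props.Devissage

/-- A module of a quotient is flat over the base at primes away from the quotient. -/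
theorem flatAt_of_notMem_range {R P S : Type u} [CommRing R] [CommRing P] [CommRing S] [Algebra R P]
    [Algebra R S] [Algebra P S] [IsScalarTower R P S] (hπ : Function.Surjective (algebraMap P S))
    (N : Type u) [AddCommGroup N] [Module S N] [Module P N] [IsScalarTower P S N] [Module R N]
    [IsScalarTower R P N] (q : Ideal P) [q.IsPrime] (h : ¬ RingHom.ker (algebraMap P S) ≤ q) :
    FlatCA.FlatAt R q N := by
  obtain ⟨k, hk, hkq⟩ := SetLike.not_le_iff_exists.mp h
  refine (H7Flat.FlatAtFinite.flat_localizedModule_iff R _ _).mpr fun a z hz => ⟨k, hkq, ?_⟩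
  have h0 : ∀ n : N, k • n = 0 := fun n => by
    rw [← algebraMap_smul S k n, show algebraMap P S k = 0 from hk, zero_smul]
  clear hz
  induction z using TensorProduct.induction_on with
  | zero => exact smul_zero _
  | tmul n x => rw [TensorProduct.smul_tmul', h0, TensorProduct.zero_tmul]
  | add x y hx hy => rw [smul_add, hx, hy, add_zero]

/-- Over the local ring of an etale neighbourhood, an etale cover of the fibre on which the module is
free. -/
theorem exists_cover_free {R S : Type u} [CommRing R] [CommRing S] [Algebra R S] [Algebra.FiniteType R S]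
    (N : Type u) [AddCommGroup N] [Module S N] [Module R N] [IsScalarTower R S N] [Module.Finite S N]
    (p : Ideal R) [p.IsPrime]
    (hflat : ∀ (q : Ideal S) [q.IsPrime], q.LiesOver p → FlatCA.FlatAt R q N) :
    ∃ (R' : Type u) (_ : CommRing R') (_ : Algebra R R') (p' : Ideal R') (_ : p'.IsPrime),
      FlatCA.IsEtaleNhd R R' p p' ∧
      ∀ (SA NA : Type u) [CommRing SA] [Algebra R SA] [Algebra S SA] [Algebra (Localization.AtPrime p') SA]
        [IsScalarTower R S SA] [IsScalarTower R (Localization.AtPrime p') SA]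
        [Algebra.IsPushout R S (Localization.AtPrime p') SA]
        [AddCommGroup NA] [Module SA NA] [Module S NA] [IsScalarTower S SA NA]
        (f : N →ₗ[S] NA), IsBaseChange SA f →
        ∃ (C : Type u) (_ : CommRing C) (_ : Algebra SA C) (_ : Algebra (Localization.AtPrime p') C)
          (_ : IsScalarTower (Localization.AtPrime p') SA C) (_ : Algebra S C) (_ : IsScalarTower S SA C),
          Algebra.Etale SA C ∧
          (∀ (q : Ideal S) [q.IsPrime], q.LiesOver p → ∃ x' : Ideal C, x'.IsPrime ∧
            x'.comap (algebraMap S C) = q ∧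
            x'.LiesOver (IsLocalRing.maximalIdeal (Localization.AtPrime p'))) ∧
          Module.Free (Localization.AtPrime p')
            (RestrictScalars (Localization.AtPrime p') C (C ⊗[SA] NA)) := by
  obtain ⟨n, π, hπ⟩ := Algebra.FiniteType.iff_quotient_mvPolynomial''.mp ‹Algebra.FiniteType R S›
  let P := MvPolynomial (Fin n) R
  letI : Algebra P S := π.toRingHom.toAlgebra
  haveI : IsScalarTower R P S := IsScalarTower.of_algebraMap_eq fun r => (π.commutes r).symm
  haveI : Module.Finite P S := Module.Finite.of_surjective (Algebra.linearMap P S) hπ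
  letI : Module P N := Module.compHom N (algebraMap P S)
  haveI : IsScalarTower P S N := .of_algebraMap_smul fun _ _ => rfl
  haveI : IsScalarTower R P N := .of_algebraMap_smul fun r x => by
    show algebraMap P S (algebraMap R P r) • x = r • x
    rw [← IsScalarTower.algebraMap_apply, algebraMap_smul]
  haveI : Module.Finite P N := Module.Finite.trans S N
  have hflatP : ∀ (Q : Ideal P) [Q.IsPrime], Q.LiesOver p → FlatCA.FlatAt R Q N := fun Q _ hQ => by
    by_cases hker : RingHom.ker (algebraMap P S) ≤ Q
    · haveI : (Q.map (algebraMap P S)).IsPrime := Ideal.map_isPrime_of_surjective hπ hker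
      have hc : (Q.map (algebraMap P S)).comap (algebraMap P S) = Q := by
        refine le_antisymm (fun x hx => ?_) Ideal.le_comap_map
        obtain ⟨y, hy, hxy⟩ := (Ideal.mem_map_iff_of_surjective (algebraMap P S) hπ).mp (Ideal.mem_comap.mp hx)
        have : x - y ∈ Q := hker (by rw [RingHom.mem_ker, map_sub, hxy, sub_self])
        simpa using Q.add_mem this hy
      have hl : (Q.map (algebraMap P S)).LiesOver p := ⟨by
        rw [Ideal.under_def, IsScalarTower.algebraMap_eq R P S, ← Ideal.comap_comap, hc]
        exact hQ.over⟩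
      exact (show ∀ (I : Ideal P) [I.IsPrime], I = Q → FlatCA.FlatAt R I N → FlatCA.FlatAt R Q N from
        fun I _ h hI => by subst h; exact hI) _ hc ((flatAt_of_surjective hπ N _).mpr (hflat _ hl))
    · exact flatAt_of_notMem_range hπ N Q hker
  obtain ⟨R', _, _, p', _, hR, h⟩ := exists_cover_fp_free N p hflatP
  refine ⟨R', _, _, p', ‹_›, hR, ?_⟩
  intro SA NA _ _ _ _ _ _ _ _ _ _ _ f hf
  let A := Localization.AtPrime p'
  letI : Algebra P SA := ((algebraMap S SA).comp (algebraMap P S)).toAlgebra
  haveI : IsScalarTower P S SA := IsScalarTower.of_algebraMap_eq fun _ => rfl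
  obtain ⟨PA, _, _, _, _, _, _, _, _, _, hPA⟩ := exists_model_over R P S A SA
  haveI := hPA
  letI : Module PA NA := Module.compHom NA (algebraMap PA SA)
  haveI : IsScalarTower PA SA NA := .of_algebraMap_smul fun _ _ => rfl
  letI : Module P NA := Module.compHom NA (algebraMap P SA)
  haveI : IsScalarTower P PA NA := .of_algebraMap_smul fun r x => by
    show algebraMap PA SA (algebraMap P PA r) • x = algebraMap P SA r • x
    rw [← IsScalarTower.algebraMap_apply]
  haveI : IsScalarTower P S NA := .of_algebraMap_smul fun r x => by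
    show _ = algebraMap P SA r • x
    rw [IsScalarTower.algebraMap_apply P S SA]
    exact (algebraMap_smul SA (algebraMap P S r) x).symm
  have hfP : IsBaseChange PA (f.restrictScalars P) := isBaseChange_of_quotient (R := R) (A := A) (SA := SA) f hf
  obtain ⟨C, _, _, _, _, _, tPC, hC, -, hpts, -, hfree⟩ := h PA NA (f.restrictScalars P) hfP
  haveI := hC
  haveI : Algebra.Etale R R' := hR.1
  haveI : p'.LiesOver p := hR.2.1
  haveI : (IsLocalRing.maximalIdeal A).LiesOver p' :=
    ⟨(IsLocalization.AtPrime.under_maximalIdeal A p').symm⟩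
  haveI : (IsLocalRing.maximalIdeal A).LiesOver p :=
    Ideal.LiesOver.trans (IsLocalRing.maximalIdeal A) p' p
  obtain ⟨hpp, hfp⟩ := isEtaleNhd_fracSurj hR
  have hfA : FracSurj (algebraMap R A) (IsLocalRing.maximalIdeal A) := by
    rw [IsScalarTower.algebraMap_eq R R' A]
    refine (fracSurj_of_isLocalization p'.primeCompl A _).comp ?_
    rw [show (IsLocalRing.maximalIdeal A).comap (algebraMap R' A) = p' from
      IsLocalization.AtPrime.under_maximalIdeal A p']
    exact hfp
  obtain ⟨D, _, _, _, _, _, _, hD, hfree', hD'⟩ :=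
    exists_quotient_cover (PA := PA) (SA := SA) (C := C) (NA := NA) hπ p hfA hfree
  refine ⟨D, _, _, _, ‹_›, _, ‹_›, hD, fun q _ hq => ?_, hfree'⟩
  have hl : (q.comap (algebraMap P S)).LiesOver p := ⟨by
    rw [Ideal.under_def, Ideal.comap_comap, ← IsScalarTower.algebraMap_eq]
    exact hq.over⟩
  obtain ⟨x, hx, hxq, hxm⟩ := hpts (q.comap (algebraMap P S)) hl
  obtain ⟨X, hX, hXq, hXm, -⟩ := hD' q hq x ⟨hxq.symm⟩ hxm
  exact ⟨X, hX, hXq.over.symm, hXm⟩

/-- Flatness and finite presentation near the fibre over the local ring of an etale neighbourhood. -/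
theorem exists_cover_open_fp_flat {R S : Type u} [CommRing R] [CommRing S] [Algebra R S]
    [Algebra.FinitePresentation R S]
    (N : Type u) [AddCommGroup N] [Module S N] [Module R N] [IsScalarTower R S N] [Module.Finite S N]
    (p : Ideal R) [p.IsPrime]
    (hflat : ∀ (q : Ideal S) [q.IsPrime], q.LiesOver p → FlatCA.FlatAt R q N) :
    ∃ (R' : Type u) (_ : CommRing R') (_ : Algebra R R') (p' : Ideal R') (_ : p'.IsPrime),
      FlatCA.IsEtaleNhd R R' p p' ∧
      ∀ (SA NA : Type u) [CommRing SA] [Algebra R SA] [Algebra S SA] [Algebra (Localization.AtPrime p') SA]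
        [IsScalarTower R S SA] [IsScalarTower R (Localization.AtPrime p') SA]
        [Algebra.IsPushout R S (Localization.AtPrime p') SA]
        [AddCommGroup NA] [Module SA NA] [Module S NA] [IsScalarTower S SA NA]
        [Module (Localization.AtPrime p') NA] [IsScalarTower (Localization.AtPrime p') SA NA]
        (f : N →ₗ[S] NA), IsBaseChange SA f →
        ∀ (Q : Ideal SA) [Q.IsPrime], Q.LiesOver (IsLocalRing.maximalIdeal (Localization.AtPrime p')) →
        ∃ g : SA, g ∉ Q ∧
          Module.FinitePresentation (Localization.Away g) (LocalizedModule (Submonoid.powers g) NA) ∧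
          Module.Flat (Localization.AtPrime p') (LocalizedModule (Submonoid.powers g) NA) := by
  obtain ⟨R', _, _, p', _, hR, h⟩ := exists_cover_fp_free N p hflat
  refine ⟨R', _, _, p', ‹_›, hR, ?_⟩
  intro SA NA _ _ _ _ _ _ _ _ _ _ _ _ _ f hf Q _ hQ
  obtain ⟨C, _, _, _, tA, _, tS, hC, -, hpts, hfp, hfree⟩ := h SA NA f hf
  haveI := hC
  have hq : (Q.comap (algebraMap S SA)).LiesOver p := ⟨by
    rw [Ideal.under_def, Ideal.comap_comap, ← IsScalarTower.algebraMap_eq,
      IsScalarTower.algebraMap_eq R (Localization.AtPrime p') SA, ← Ideal.comap_comap,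
      show Q.comap (algebraMap (Localization.AtPrime p') SA) = _ from hQ.over.symm,
      IsScalarTower.algebraMap_eq R R' (Localization.AtPrime p'), ← Ideal.comap_comap]
    exact hR.2.1.over.trans (congrArg _ (IsLocalization.AtPrime.under_maximalIdeal _ p').symm)⟩
  obtain ⟨x, hx, hxq, hxm⟩ := hpts (Q.comap (algebraMap S SA)) hq
  haveI := hx
  haveI := hxm
  obtain ⟨g, hg, hgflat, hgfp⟩ := exists_open_flat x NA hfree
  refine ⟨g, fun hgQ => hg ?_, hgfp hfp, hgflat⟩
  have h1 : (x.comap (algebraMap SA C)).LiesOver (Q.comap (algebraMap S SA)) := ⟨by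
    rw [Ideal.under_def, Ideal.comap_comap, ← IsScalarTower.algebraMap_eq]
    exact hxq.symm⟩
  have h2 : (x.comap (algebraMap SA C)).LiesOver (IsLocalRing.maximalIdeal (Localization.AtPrime p')) := ⟨by
    rw [Ideal.under_def, Ideal.comap_comap, ← IsScalarTower.algebraMap_eq]
    exact hxm.over⟩
  rwa [eq_of_liesOver (A := Localization.AtPrime p') p' hR (Q.comap (algebraMap S SA))
    (x.comap (algebraMap SA C)) Q h1 h2 ⟨rfl⟩ hQ]

/-- Flatness near the fibre over the local ring of an etale neighbourhood. -/
theorem exists_cover_open_flat {R S : Type u} [CommRing R] [CommRing S] [Algebra R S]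
    [Algebra.FiniteType R S]
    (N : Type u) [AddCommGroup N] [Module S N] [Module R N] [IsScalarTower R S N] [Module.Finite S N]
    (p : Ideal R) [p.IsPrime]
    (hflat : ∀ (q : Ideal S) [q.IsPrime], q.LiesOver p → FlatCA.FlatAt R q N) :
    ∃ (R' : Type u) (_ : CommRing R') (_ : Algebra R R') (p' : Ideal R') (_ : p'.IsPrime),
      FlatCA.IsEtaleNhd R R' p p' ∧
      ∀ (SA NA : Type u) [CommRing SA] [Algebra R SA] [Algebra S SA] [Algebra (Localization.AtPrime p') SA]
        [IsScalarTower R S SA] [IsScalarTower R (Localization.AtPrime p') SA]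
        [Algebra.IsPushout R S (Localization.AtPrime p') SA]
        [AddCommGroup NA] [Module SA NA] [Module S NA] [IsScalarTower S SA NA]
        [Module (Localization.AtPrime p') NA] [IsScalarTower (Localization.AtPrime p') SA NA]
        (f : N →ₗ[S] NA), IsBaseChange SA f →
        ∀ (Q : Ideal SA) [Q.IsPrime], Q.LiesOver (IsLocalRing.maximalIdeal (Localization.AtPrime p')) →
        ∃ g : SA, g ∉ Q ∧
          Module.Flat (Localization.AtPrime p') (LocalizedModule (Submonoid.powers g) NA) := by
  obtain ⟨R', _, _, p', _, hR, h⟩ := exists_cover_free N p hflat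
  refine ⟨R', _, _, p', ‹_›, hR, ?_⟩
  intro SA NA _ _ _ _ _ _ _ _ _ _ _ _ _ f hf Q _ hQ
  obtain ⟨C, _, _, _, tA, _, tS, hC, hpts, hfree⟩ := h SA NA f hf
  haveI := hC
  have hq : (Q.comap (algebraMap S SA)).LiesOver p := ⟨by
    rw [Ideal.under_def, Ideal.comap_comap, ← IsScalarTower.algebraMap_eq,
      IsScalarTower.algebraMap_eq R (Localization.AtPrime p') SA, ← Ideal.comap_comap,
      show Q.comap (algebraMap (Localization.AtPrime p') SA) = _ from hQ.over.symm,
      IsScalarTower.algebraMap_eq R R' (Localization.AtPrime p'), ← Ideal.comap_comap]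
    exact hR.2.1.over.trans (congrArg _ (IsLocalization.AtPrime.under_maximalIdeal _ p').symm)⟩
  obtain ⟨x, hx, hxq, hxm⟩ := hpts (Q.comap (algebraMap S SA)) hq
  haveI := hx
  haveI := hxm
  obtain ⟨g, hg, hgflat, -⟩ := exists_open_flat x NA hfree
  refine ⟨g, fun hgQ => hg ?_, hgflat⟩
  have h1 : (x.comap (algebraMap SA C)).LiesOver (Q.comap (algebraMap S SA)) := ⟨by
    rw [Ideal.under_def, Ideal.comap_comap, ← IsScalarTower.algebraMap_eq]
    exact hxq.symm⟩
  have h2 : (x.comap (algebraMap SA C)).LiesOver (IsLocalRing.maximalIdeal (Localization.AtPrime p')) := ⟨by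
    rw [Ideal.under_def, Ideal.comap_comap, ← IsScalarTower.algebraMap_eq]
    exact hxm.over⟩
  rwa [eq_of_liesOver (A := Localization.AtPrime p') p' hR (Q.comap (algebraMap S SA))
    (x.comap (algebraMap SA C)) Q h1 h2 ⟨rfl⟩ hQ]

end Groth.Agent.H7Flat.Chain
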