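import Groth.Agent.H7Flat.Chain.Pieces
import Groth.Agent.H7Flat.Chain.Projective
import Mathlib

/-!
# Etale covers of a fibre with projective module
-/

set_option autoImplicit false
set_option linter.style.haveILetI false
set_option backward.isDefEq.respectTransparency false
set_option maxHeartbeats 1000000

universe u

open TensorProduct

namespace Groth.Agent.H7Flat.Chain

open Groth.Agent.H7Flat.ElemDev Groth.Agent.H8Props.Devissage

/-- Projectivity over a localization at an element persists to multiples of the element. -/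
theorem projective_away_dvd {R M : Type u} [CommRing R] [AddCommGroup M] [Module R M] {f g : R}
    (hfg : f ∣ g) (h : Module.Projective (Localization.Away f) (LocalizedModule (Submonoid.powers f) M)) :
    Module.Projective (Localization.Away g) (Localization.Away g ⊗[R] M) := by
  let Rf := Localization.Away f
  let Rg := Localization.Away g
  have hu : IsUnit (algebraMap R Rg f) :=
    isUnit_of_dvd_unit (map_dvd (algebraMap R Rg) hfg) (IsLocalization.Away.algebraMap_isUnit g)
  let φ : Rf →+* Rg := IsLocalization.Away.lift f (g := algebraMap R Rg) hu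
  letI : Algebra Rf Rg := φ.toAlgebra
  haveI : IsScalarTower R Rf Rg := IsScalarTower.of_algebraMap_eq fun r =>
    (IsLocalization.Away.lift_eq (g := algebraMap R Rg) f hu r).symm
  haveI : Module.Projective Rf (Rf ⊗[R] M) := by
    haveI := h
    exact Module.Projective.of_equiv (M := LocalizedModule (Submonoid.powers f) M)
      (LocalizedModule.equivTensorProduct (Submonoid.powers f) M)
  exact Module.Projective.of_equiv (M := Rg ⊗[Rf] (Rf ⊗[R] M))
    (AlgebraTensorModule.cancelBaseChange R Rf Rg Rg M)

/-- Projectivity of the base change of a module on an etale piece. -/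
theorem projective_piece {R₁ R' S C D : Type u} [CommRing R₁] [CommRing R'] [CommRing S] [CommRing C]
    [CommRing D] [Algebra R₁ R'] [Algebra R₁ C] [Algebra S C] [Algebra R' D] [Algebra C D] [Algebra S D]
    [IsScalarTower S C D] [Algebra R₁ D] [IsScalarTower R₁ R' D] [IsScalarTower R₁ C D]
    [Algebra.IsPushout R₁ R' C D] (N : Type u) [AddCommGroup N] [Module S N]
    [Module.Projective R' (R' ⊗[R₁] (C ⊗[S] N))] : Module.Projective R' (D ⊗[S] N) := by
  let M := D ⊗[C] (C ⊗[S] N)
  haveI : IsScalarTower R₁ C M := IsScalarTower.of_algebraMap_smul fun (r : R₁) (z : M) => by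
    rw [← algebraMap_smul D (algebraMap R₁ C r) z, ← IsScalarTower.algebraMap_apply, algebraMap_smul]
  have hb : IsBaseChange R' ((TensorProduct.mk C D (C ⊗[S] N) 1).restrictScalars R₁) :=
    isBaseChange_restrict (TensorProduct.isBaseChange C (C ⊗[S] N) D)
  haveI : Module.Projective R' M := Module.Projective.of_equiv hb.equiv
  exact Module.Projective.of_equiv
    ((AlgebraTensorModule.cancelBaseChange S C D D N).restrictScalars R')

/-- An etale cover of a fibre, lying over the chosen point of the base, on which the module is projective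
over the base. -/
theorem exists_cover_projective_over {R S : Type u} [CommRing R] [CommRing S] [Algebra R S]
    [Algebra.FinitePresentation R S]
    (N : Type u) [AddCommGroup N] [Module S N] [Module R N] [IsScalarTower R S N]
    [Module.FinitePresentation S N] (p : Ideal R) [p.IsPrime]
    (hflat : ∀ (q : Ideal S) [q.IsPrime], q.LiesOver p → FlatCA.FlatAt R q N) :
    ∃ (R' S' : Type u) (_ : CommRing R') (_ : CommRing S') (_ : Algebra R R') (_ : Algebra S S')
      (_ : Algebra R' S') (_ : Algebra R S') (_ : IsScalarTower R R' S') (_ : IsScalarTower R S S')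
      (p' : Ideal R') (_ : p'.IsPrime),
      FlatCA.IsEtaleNhd R R' p p' ∧ Algebra.Etale S S' ∧
      (∀ (q : Ideal S) [q.IsPrime], q.LiesOver p →
        ∃ q' : Ideal S', q'.IsPrime ∧ q'.comap (algebraMap S S') = q ∧ q'.comap (algebraMap R' S') = p') ∧
      Module.Projective R' (RestrictScalars R' S' (S' ⊗[S] N)) := by
  classical
  obtain ⟨R₁, _, _, p₁, _, hR, ι, _, Ci, _, aSC, aR'C, aRC, t1, t2, hP, hcov⟩ :=
    exists_pieces (S := S) N p {q | FlatCA.FlatAt R q.asIdeal N}
      (H8Props.FlatLocus.isOpen_setOf_flat_localizedModule R S N) fun q hq => hflat q.asIdeal hq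
  haveI : Algebra.Etale R R₁ := hR.1
  have hf : ∀ i, ∃ f : R₁, f ∉ p₁ ∧ Module.Projective (Localization.Away f)
      (LocalizedModule (Submonoid.powers f) (Ci i ⊗[S] N)) := fun i => by
    haveI := (hP i).etale
    exact exists_projective_away N p₁ (fun Q _ => (hP i).image ⟨Q, ‹_›⟩)
      ((hP i).hcd.imp id fun ⟨_, _, _, h⟩ => ⟨h.choose⟩)
  choose f hfp hproj using hf
  let g := ∏ i, f i
  have hg : g ∉ p₁ := fun h => by
    obtain ⟨i, -, hi⟩ := Ideal.IsPrime.prod_mem_iff.mp h
    exact hfp i hi
  let R' := Localization.Away g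
  let p' : Ideal R' := p₁.map (algebraMap R₁ R')
  haveI : p'.IsPrime := isPrime_map_away g p₁ hg
  haveI : p'.LiesOver p₁ := liesOver_map_away g p₁ hg
  have hnhd : FlatCA.IsEtaleNhd R R' p p' := isEtaleNhd_comp hR (isEtaleNhd_away g hg)
  have key : ∀ i, ∃ (D : Type u) (_ : CommRing D) (_ : Algebra S D) (_ : Algebra R' D) (_ : Algebra R D)
      (_ : IsScalarTower R S D) (_ : IsScalarTower R R' D), Algebra.Etale S D ∧
      Module.Projective R' (D ⊗[S] N) ∧
      ∀ (Q : Ideal (Ci i)) [Q.IsPrime], Q.LiesOver p₁ →
        ∃ X : Ideal D, X.IsPrime ∧ X.comap (algebraMap S D) = Q.comap (algebraMap S (Ci i)) ∧ X.comap (algebraMap R' D) = p' := fun i => by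
    haveI := t1 i
    haveI := t2 i
    haveI := (hP i).etale
    let D := R' ⊗[R₁] Ci i
    letI : Algebra (Ci i) D := Algebra.TensorProduct.rightAlgebra
    letI : Algebra S D := ((algebraMap (Ci i) D).comp (algebraMap S (Ci i))).toAlgebra
    haveI : IsScalarTower S (Ci i) D := IsScalarTower.of_algebraMap_eq fun _ => rfl
    haveI : IsScalarTower R₁ (Ci i) D := IsScalarTower.of_algebraMap_eq fun r => by
      show algebraMap R₁ D r = (1 : R') ⊗ₜ[R₁] algebraMap R₁ (Ci i) r
      exact algebraMap_tmul_one r
    haveI : IsScalarTower R S D := IsScalarTower.of_algebraMap_eq fun r => by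
      rw [IsScalarTower.algebraMap_apply R R₁ D, IsScalarTower.algebraMap_apply R₁ (Ci i) D,
        IsScalarTower.algebraMap_apply S (Ci i) D, ← IsScalarTower.algebraMap_apply R R₁ (Ci i),
        ← IsScalarTower.algebraMap_apply R S (Ci i)]
    haveI : Algebra.Etale R₁ R' := Algebra.Etale.of_isLocalizationAway g
    haveI : Algebra.Etale (Ci i) D := etale_tensor
    haveI : Algebra.IsPushout R₁ R' (Ci i) D := inferInstance
    refine ⟨D, _, _, _, _, inferInstance, inferInstance, Algebra.Etale.comp S (Ci i) D, ?_, fun Q _ hQ => ?_⟩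
    · haveI := projective_away_dvd (g := g) (Finset.dvd_prod_of_mem f (Finset.mem_univ i)) (hproj i)
      exact projective_piece (R₁ := R₁) (C := Ci i) N
    · obtain ⟨hpp, hfp'⟩ := isEtaleNhd_fracSurj (isEtaleNhd_away g hg)
      obtain ⟨X, hX, hX1, hX2⟩ := exists_prime_tensor p' Q (hQ.over.symm.trans hpp) hfp'
      refine ⟨X, hX, ?_, hX1⟩
      rw [IsScalarTower.algebraMap_eq S (Ci i) D, ← Ideal.comap_comap,
        show X.comap (algebraMap (Ci i) D) = Q from hX2]
  choose D cD aSD aR'D aRD u1 u2 hDe hDp hDq using key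
  let S' := ∀ i, D i
  haveI : IsScalarTower R R' S' := IsScalarTower.of_algebraMap_eq fun a =>
    funext fun i => IsScalarTower.algebraMap_apply R R' (D i) a
  haveI : IsScalarTower R S S' := IsScalarTower.of_algebraMap_eq fun a =>
    funext fun i => IsScalarTower.algebraMap_apply R S (D i) a
  refine ⟨R', S', _, _, _, _, _, _, inferInstance, inferInstance, p', ‹_›, hnhd, inferInstance,
    fun q _ hq => ?_, ?_⟩
  · obtain ⟨i, Q, hQ, hQq, hQp⟩ := hcov ⟨q, ‹_›⟩ hq
    obtain ⟨X, hX, hXq, hXp⟩ := hDq i Q hQp
    refine ⟨X.comap (Pi.evalRingHom D i), Ideal.IsPrime.comap _, ?_, ?_⟩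
    · rw [Ideal.comap_comap]
      exact hXq.trans hQq
    · rw [Ideal.comap_comap]
      exact hXp
  · let e : S' ⊗[S] N ≃ₗ[R'] ∀ i, (D i) ⊗[S] N :=
      { TensorProduct.piLeft S N D with
        map_smul' := fun r z => by
          show TensorProduct.piLeft S N D (r • z) = r • TensorProduct.piLeft S N D z
          induction z using TensorProduct.induction_on with
          | zero => simp
          | add a b ha hb => simp only [smul_add, map_add, ha, hb]
          | tmul c n =>
            funext i
            simp [TensorProduct.piLeft, TensorProduct.smul_tmul', LinearEquiv.piCongrRight_apply]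
            rfl }
    haveI : Module.Projective R' (∀ i, (D i) ⊗[S] N) :=
      Module.Projective.of_equiv (DirectSum.linearEquivFunOnFintype R' ι fun i => (D i) ⊗[S] N)
    haveI : Module.Projective R' (S' ⊗[S] N) := Module.Projective.of_equiv e.symm
    exact Module.Projective.of_equiv (M := S' ⊗[S] N)
      ({ (RestrictScalars.addEquiv R' S' (S' ⊗[S] N)).symm with
        map_smul' := fun a x => by
          apply (RestrictScalars.addEquiv R' S' (S' ⊗[S] N)).injective
          show RestrictScalars.addEquiv R' S' (S' ⊗[S] N)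
              ((RestrictScalars.addEquiv R' S' (S' ⊗[S] N)).symm (a • x)) =
            RestrictScalars.addEquiv R' S' (S' ⊗[S] N)
              (a • (RestrictScalars.addEquiv R' S' (S' ⊗[S] N)).symm x)
          rw [RestrictScalars.addEquiv_map_smul, AddEquiv.apply_symm_apply, AddEquiv.apply_symm_apply,
            algebraMap_smul] } : S' ⊗[S] N ≃ₗ[R'] RestrictScalars R' S' (S' ⊗[S] N))

/-- An etale cover of a fibre on which the module is projective over the base. -/
theorem exists_cover_projective {R S : Type u} [CommRing R] [CommRing S] [Algebra R S]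
    [Algebra.FinitePresentation R S]
    (N : Type u) [AddCommGroup N] [Module S N] [Module R N] [IsScalarTower R S N]
    [Module.FinitePresentation S N] (p : Ideal R) [p.IsPrime]
    (hflat : ∀ (q : Ideal S) [q.IsPrime], q.LiesOver p → FlatCA.FlatAt R q N) :
    ∃ (R' S' : Type u) (_ : CommRing R') (_ : CommRing S') (_ : Algebra R R') (_ : Algebra S S')
      (_ : Algebra R' S') (_ : Algebra R S') (_ : IsScalarTower R R' S') (_ : IsScalarTower R S S')
      (p' : Ideal R') (_ : p'.IsPrime),
      FlatCA.IsEtaleNhd R R' p p' ∧ Algebra.Etale S S' ∧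
      (∀ (q : Ideal S) [q.IsPrime], q.LiesOver p →
        ∃ q' : Ideal S', q'.IsPrime ∧ q'.comap (algebraMap S S') = q) ∧
      Module.Projective R' (RestrictScalars R' S' (S' ⊗[S] N)) := by
  obtain ⟨R', S', i1, i2, i3, i4, i5, i6, i7, i8, p', i9, hR, hS, hcov, hproj⟩ :=
    exists_cover_projective_over N p hflat
  exact ⟨R', S', i1, i2, i3, i4, i5, i6, i7, i8, p', i9, hR, hS,
    fun q _ hq => (hcov q hq).imp fun _ h => ⟨h.1, h.2.1⟩, hproj⟩

end Groth.Agent.H7Flat.Chain
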