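import Groth.Agent.H7Flat.Chain.Point
import Mathlib

/-!
# Finite type algebras as quotients of polynomial algebras over the local ring of the base
-/

set_option autoImplicit false
set_option linter.style.haveILetI false
set_option backward.isDefEq.respectTransparency false
set_option maxHeartbeats 8000000

universe u

open TensorProduct

namespace Groth.Agent.H7Flat.Chain

open Groth.Agent.H7Flat.ElemDev Groth.Agent.H8Props.Devissage

/-- Flatness at a prime of a quotient is flatness at its preimage. -/
theorem flatAt_of_surjective {R P S : Type u} [CommRing R] [CommRing P] [CommRing S] [Algebra R P]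
    [Algebra R S] [Algebra P S] [IsScalarTower R P S] (hπ : Function.Surjective (algebraMap P S))
    (N : Type u) [AddCommGroup N] [Module S N] [Module P N] [IsScalarTower P S N] [Module R N]
    [IsScalarTower R S N] [IsScalarTower R P N] (q : Ideal S) [q.IsPrime] :
    FlatCA.FlatAt R (q.comap (algebraMap P S)) N ↔ FlatCA.FlatAt R q N :=
  H7Flat.DevissageLoc.flat_localizedModule_comap (S := P) (C := S) N _ _ (fun _ ht => ht) fun c hc => by
    obtain ⟨t, rfl⟩ := hπ c
    exact ⟨t, hc, dvd_rfl⟩

/-- The models over a polynomial algebra attached to models over a quotient. -/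
theorem isBaseChange_of_quotient {R P S A PA SA : Type u} [CommRing R] [CommRing P] [CommRing S]
    [CommRing A] [CommRing PA] [CommRing SA] [Algebra R P] [Algebra R S] [Algebra P S]
    [IsScalarTower R P S] [Algebra R A] [Algebra P PA] [Algebra A PA] [Algebra R PA]
    [IsScalarTower R P PA] [IsScalarTower R A PA] [Algebra.IsPushout R P A PA] [Algebra S SA]
    [Algebra A SA] [Algebra R SA] [IsScalarTower R S SA] [IsScalarTower R A SA]
    [Algebra.IsPushout R S A SA] [Algebra P SA] [IsScalarTower P S SA] [Algebra PA SA]
    [IsScalarTower P PA SA] [IsScalarTower A PA SA]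
    {N NA : Type u} [AddCommGroup N] [Module S N] [Module P N] [IsScalarTower P S N]
    [AddCommGroup NA] [Module SA NA] [Module S NA] [IsScalarTower S SA NA] [Module PA NA]
    [IsScalarTower PA SA NA] [Module P NA] [IsScalarTower P PA NA] [IsScalarTower P S NA]
    (f : N →ₗ[S] NA) (hf : IsBaseChange SA f) : IsBaseChange PA (f.restrictScalars P) := by
  haveI : IsScalarTower R P SA := IsScalarTower.of_algebraMap_eq fun r => by
    rw [IsScalarTower.algebraMap_apply P S SA, ← IsScalarTower.algebraMap_apply R P S,
      ← IsScalarTower.algebraMap_apply R S SA]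
  haveI : IsScalarTower R PA SA := IsScalarTower.of_algebraMap_eq fun r => by
    rw [IsScalarTower.algebraMap_apply R P SA, IsScalarTower.algebraMap_apply P PA SA,
      ← IsScalarTower.algebraMap_apply R P PA]
  haveI : Algebra.IsPushout P S PA SA :=
    (Algebra.IsPushout.comp_iff R P A PA (T := S) (T' := SA)).mp ‹_›
  haveI : Algebra.IsPushout P PA S SA := Algebra.IsPushout.symm ‹_›
  exact isBaseChange_restrict hf

/-- An etale neighbourhood over the base change of a polynomial algebra induces one over the base
change of the quotient, with a point over every point of the closed fibre upstairs. -/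
theorem exists_quotient_cover {R P S A PA SA C : Type u} [CommRing R] [CommRing P] [CommRing S]
    [CommRing A] [IsLocalRing A] [CommRing PA] [CommRing SA] [CommRing C] [Algebra R P] [Algebra R S]
    [Algebra P S] [IsScalarTower R P S] (hπ : Function.Surjective (algebraMap P S)) [Algebra R A]
    [Algebra P PA] [Algebra A PA] [Algebra R PA] [IsScalarTower R P PA] [IsScalarTower R A PA]
    [Algebra.IsPushout R P A PA] [Algebra S SA] [Algebra A SA] [Algebra R SA] [IsScalarTower R S SA]
    [IsScalarTower R A SA] [Algebra.IsPushout R S A SA] [Algebra P SA] [IsScalarTower P S SA]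
    [Algebra PA SA] [IsScalarTower P PA SA] [IsScalarTower A PA SA]
    [Algebra PA C] [Algebra A C] [IsScalarTower A PA C] [Algebra P C] [IsScalarTower P PA C]
    [Algebra.Etale PA C]
    {NA : Type u} [AddCommGroup NA] [Module SA NA] [Module PA NA] [IsScalarTower PA SA NA]
    (p : Ideal R) [p.IsPrime] [(IsLocalRing.maximalIdeal A).LiesOver p]
    (hfA : FracSurj (algebraMap R A) (IsLocalRing.maximalIdeal A))
    (hfree : Module.Free A (RestrictScalars A C (C ⊗[PA] NA))) :
    ∃ (D : Type u) (_ : CommRing D) (_ : Algebra SA D) (_ : Algebra A D) (_ : IsScalarTower A SA D)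
      (_ : Algebra S D) (_ : IsScalarTower S SA D),
      Algebra.Etale SA D ∧ Module.Free A (RestrictScalars A D (D ⊗[SA] NA)) ∧
      ∀ (q : Ideal S) [q.IsPrime], q.LiesOver p → ∀ (x : Ideal C) [x.IsPrime],
        x.LiesOver (q.comap (algebraMap P S)) → x.LiesOver (IsLocalRing.maximalIdeal A) →
        ∃ (X : Ideal D) (_ : X.IsPrime), X.LiesOver q ∧ X.LiesOver (IsLocalRing.maximalIdeal A) ∧
          (FracSurj (algebraMap P C) x → FracSurj (algebraMap S D) X) := by
  let D := SA ⊗[PA] C
  letI : Algebra C D := Algebra.TensorProduct.rightAlgebra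
  haveI : IsScalarTower A SA D := inferInstance
  haveI : IsScalarTower S SA D := inferInstance
  haveI : IsScalarTower PA C D := IsScalarTower.of_algebraMap_eq fun r => by
    show algebraMap PA D r = (1 : SA) ⊗ₜ[PA] algebraMap PA C r
    exact algebraMap_tmul_one r
  haveI : IsScalarTower A C D := IsScalarTower.of_algebraMap_eq fun a => by
    rw [IsScalarTower.algebraMap_apply A SA D, IsScalarTower.algebraMap_apply A PA SA,
      ← IsScalarTower.algebraMap_apply PA SA D, IsScalarTower.algebraMap_apply PA C D,
      ← IsScalarTower.algebraMap_apply A PA C]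
  -- the point
  have hsurjPA : Function.Surjective (algebraMap PA SA) := by
    intro z
    obtain ⟨w, rfl⟩ := (Algebra.IsPushout.equiv R S A SA).surjective z
    induction w using TensorProduct.induction_on with
    | zero => exact ⟨0, by simp⟩
    | add a b ha hb =>
      obtain ⟨a', ha'⟩ := ha
      obtain ⟨b', hb'⟩ := hb
      exact ⟨a' + b', by rw [map_add, map_add, ha', hb']⟩
    | tmul s a =>
      obtain ⟨t, rfl⟩ := hπ s
      refine ⟨algebraMap P PA t * algebraMap A PA a, ?_⟩
      rw [Algebra.IsPushout.equiv_tmul, map_mul, ← IsScalarTower.algebraMap_apply,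
        ← IsScalarTower.algebraMap_apply, IsScalarTower.algebraMap_apply P S SA]
  have hsurjD : Function.Surjective (algebraMap C D) := by
    intro z
    induction z using TensorProduct.induction_on with
    | zero => exact ⟨0, map_zero _⟩
    | add a b ha hb =>
      obtain ⟨a', ha'⟩ := ha
      obtain ⟨b', hb'⟩ := hb
      exact ⟨a' + b', by rw [map_add, ha', hb']⟩
    | tmul s c =>
      obtain ⟨t, rfl⟩ := hsurjPA s
      refine ⟨t • c, ?_⟩
      show (1 : SA) ⊗ₜ[PA] (t • c) = _
      rw [← TensorProduct.smul_tmul, Algebra.smul_def, mul_one]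
  haveI : IsScalarTower PA C (D ⊗[SA] NA) := IsScalarTower.of_algebraMap_smul fun r z => by
    rw [← algebraMap_smul D (algebraMap PA C r) z, ← IsScalarTower.algebraMap_apply, algebraMap_smul]
  haveI : Algebra.IsPushout PA C SA D := inferInstance
  let g : NA →ₗ[SA] D ⊗[SA] NA := TensorProduct.mk SA D NA 1
  have hg : IsBaseChange C (g.restrictScalars PA) :=
    isBaseChange_restrict (TensorProduct.isBaseChange SA NA D)
  haveI : IsScalarTower A C (D ⊗[SA] NA) := .of_algebraMap_smul fun a z => by
    rw [← algebraMap_smul D (algebraMap A C a) z, ← IsScalarTower.algebraMap_apply, algebraMap_smul]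
  have hfree₂ : Module.Free A (RestrictScalars A C (D ⊗[SA] NA)) :=
    free_restrict_congr (A := A) (C := C) (M := C ⊗[PA] NA) (M' := D ⊗[SA] NA) hg.equiv hfree
  have hfree₃ : Module.Free A (D ⊗[SA] NA) :=
    Module.Free.of_equiv (M := RestrictScalars A C (D ⊗[SA] NA))
      ({ RestrictScalars.addEquiv A C (D ⊗[SA] NA) with
        map_smul' := fun a z => by
          show RestrictScalars.addEquiv A C (D ⊗[SA] NA) (a • z) = a • RestrictScalars.addEquiv A C (D ⊗[SA] NA) z
          rw [RestrictScalars.addEquiv_map_smul, algebraMap_smul] } :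
        RestrictScalars A C (D ⊗[SA] NA) ≃ₗ[A] D ⊗[SA] NA)
  refine ⟨D, _, _, inferInstance, ‹_›, _, ‹_›, inferInstance, free_restrict_of_tower hfree₃,
    fun q _ hqp x _ hx hxm => ?_⟩
  haveI := hqp
  haveI : Algebra.IsPushout R A S SA := Algebra.IsPushout.symm ‹_›
  obtain ⟨Q, hQ, hQq, hQm⟩ := exists_prime_over (S' := SA)
    (bijective_of_fracSurj ((IsLocalRing.maximalIdeal A).over_def p) hfA) q
  haveI := hQ
  haveI := hxm
  haveI : Algebra.IsPushout R A P PA := Algebra.IsPushout.symm ‹_›
  have heq : x.comap (algebraMap PA C) = Q.comap (algebraMap PA SA) := by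
    refine eq_of_comap_eq (algebraMap R A) (algebraMap R P) (algebraMap A PA) (algebraMap P PA)
      (by rw [← IsScalarTower.algebraMap_eq, ← IsScalarTower.algebraMap_eq])
      (closure_range_pushout (A := R) (B := P) (A' := A) (B' := PA)) ?_ ?_ ?_
    · rw [Ideal.comap_comap, ← IsScalarTower.algebraMap_eq,
        show x.comap (algebraMap A C) = IsLocalRing.maximalIdeal A from hxm.over.symm]
      exact hfA
    · rw [Ideal.comap_comap, Ideal.comap_comap, ← IsScalarTower.algebraMap_eq,
        ← IsScalarTower.algebraMap_eq, IsScalarTower.algebraMap_eq P S SA, ← Ideal.comap_comap,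
        show Q.comap (algebraMap S SA) = q from hQq.over.symm]
      exact hx.over
    · rw [Ideal.comap_comap, Ideal.comap_comap, ← IsScalarTower.algebraMap_eq,
        ← IsScalarTower.algebraMap_eq]
      exact hQm.over.symm.trans hxm.over
  obtain ⟨X, hX, hXQ, hXx⟩ := exists_prime_tensor Q x heq (fracSurj_of_surjective _ hsurjPA Q)
  haveI := hX
  have hXS : X.comap (algebraMap S D) = q := by
    rw [IsScalarTower.algebraMap_eq S SA D, ← Ideal.comap_comap,
      show X.comap (algebraMap SA D) = Q from hXQ]
    exact hQq.over.symm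
  haveI hXl : X.LiesOver q := ⟨hXS.symm⟩
  refine ⟨X, hX, hXl, ⟨?_⟩, fun hxf => ?_⟩
  · rw [Ideal.under_def, IsScalarTower.algebraMap_eq A SA D, ← Ideal.comap_comap,
      show X.comap (algebraMap SA D) = Q from hXQ]
    exact hQm.over
  · have hcomm : (algebraMap S D).comp (algebraMap P S) = (algebraMap C D).comp (algebraMap P C) := by
      refine RingHom.ext fun t => ?_
      simp only [RingHom.comp_apply]
      rw [IsScalarTower.algebraMap_apply S SA D, ← IsScalarTower.algebraMap_apply P S SA,
        IsScalarTower.algebraMap_apply P PA SA, IsScalarTower.algebraMap_apply P PA C,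
        ← IsScalarTower.algebraMap_apply PA SA D, ← IsScalarTower.algebraMap_apply PA C D]
    have h1 : FracSurj ((algebraMap C D).comp (algebraMap P C)) X := by
      refine (fracSurj_of_surjective _ hsurjD X).comp ?_
      rw [show X.comap (algebraMap C D) = x from hXx]
      exact hxf
    intro z
    obtain ⟨c, d, hd, hz⟩ := h1 z
    rw [← hcomm] at hd hz
    exact ⟨_, _, hd, hz⟩

/-- An etale neighbourhood over the base change of a polynomial algebra induces one over the base
change of the quotient, carrying the same module. -/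
theorem exists_quotient_nhd {R P S A PA SA C : Type u} [CommRing R] [CommRing P] [CommRing S]
    [CommRing A] [IsLocalRing A] [CommRing PA] [CommRing SA] [CommRing C] [Algebra R P] [Algebra R S]
    [Algebra P S] [IsScalarTower R P S] (hπ : Function.Surjective (algebraMap P S)) [Algebra R A]
    [Algebra P PA] [Algebra A PA] [Algebra R PA] [IsScalarTower R P PA] [IsScalarTower R A PA]
    [Algebra.IsPushout R P A PA] [Algebra S SA] [Algebra A SA] [Algebra R SA] [IsScalarTower R S SA]
    [IsScalarTower R A SA] [Algebra.IsPushout R S A SA] [Algebra P SA] [IsScalarTower P S SA]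
    [Algebra PA SA] [IsScalarTower P PA SA] [IsScalarTower A PA SA]
    [Algebra PA C] [Algebra A C] [IsScalarTower A PA C] [Algebra P C] [IsScalarTower P PA C]
    [Algebra.Etale PA C]
    {NA : Type u} [AddCommGroup NA] [Module SA NA] [Module PA NA] [IsScalarTower PA SA NA]
    (p : Ideal R) [p.IsPrime] (q : Ideal S) [q.IsPrime] [q.LiesOver p]
    [(IsLocalRing.maximalIdeal A).LiesOver p]
    (hfA : FracSurj (algebraMap R A) (IsLocalRing.maximalIdeal A))
    (x : Ideal C) [x.IsPrime] (hx : x.LiesOver (q.comap (algebraMap P S)))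
    (hxm : x.LiesOver (IsLocalRing.maximalIdeal A))
    (hxf : FracSurj (algebraMap P C) x)
    (hfree : Module.Free A (RestrictScalars A C (C ⊗[PA] NA))) :
    ∃ (D : Type u) (_ : CommRing D) (_ : Algebra SA D) (_ : Algebra A D) (_ : IsScalarTower A SA D)
      (_ : Algebra S D) (_ : IsScalarTower S SA D) (X : Ideal D) (_ : X.IsPrime) (hX : X.LiesOver q),
      Algebra.Etale SA D ∧ X.LiesOver (IsLocalRing.maximalIdeal A) ∧
      Function.Bijective (Ideal.ResidueField.mapₐ q X (Algebra.ofId S D) hX.over) ∧
      Module.Free A (RestrictScalars A D (D ⊗[SA] NA)) := by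
  obtain ⟨D, _, _, _, _, _, _, hD, hfree', hpts⟩ :=
    exists_quotient_cover (PA := PA) (SA := SA) (C := C) (NA := NA) hπ p hfA hfree
  obtain ⟨X, hX, hXl, hXm, hXf⟩ := hpts q ‹_› x hx hxm
  exact ⟨D, _, _, _, ‹_›, _, ‹_›, X, hX, hXl, hD, hXm, bijective_of_fracSurj hXl.over (hXf hxf), hfree'⟩

/-- A base change of an algebra mapping to a given base change of a quotient. -/
theorem exists_model_over (R P S A SA : Type u) [CommRing R] [CommRing P] [CommRing S] [CommRing A]
    [CommRing SA] [Algebra R P] [Algebra R S] [Algebra P S] [IsScalarTower R P S] [Algebra R A]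
    [Algebra S SA] [Algebra A SA] [Algebra R SA] [IsScalarTower R S SA] [IsScalarTower R A SA]
    [Algebra P SA] [IsScalarTower P S SA] :
    ∃ (PA : Type u) (_ : CommRing PA) (_ : Algebra P PA) (_ : Algebra A PA) (_ : Algebra R PA)
      (_ : IsScalarTower R P PA) (_ : IsScalarTower R A PA) (_ : Algebra PA SA)
      (_ : IsScalarTower P PA SA) (_ : IsScalarTower A PA SA), Algebra.IsPushout R P A PA := by
  haveI : IsScalarTower R P SA := IsScalarTower.of_algebraMap_eq fun r => by
    rw [IsScalarTower.algebraMap_apply P S SA, ← IsScalarTower.algebraMap_apply R P S,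
      ← IsScalarTower.algebraMap_apply R S SA]
  letI : Algebra A (P ⊗[R] A) := Algebra.TensorProduct.rightAlgebra
  let φ : P ⊗[R] A →ₐ[R] SA := Algebra.TensorProduct.lift (IsScalarTower.toAlgHom R P SA)
    (IsScalarTower.toAlgHom R A SA) fun _ _ => mul_comm _ _
  letI : Algebra (P ⊗[R] A) SA := φ.toRingHom.toAlgebra
  haveI : IsScalarTower P (P ⊗[R] A) SA := IsScalarTower.of_algebraMap_eq fun x => by
    show _ = φ (x ⊗ₜ[R] (1 : A))
    rw [Algebra.TensorProduct.lift_tmul, map_one, mul_one]
    rfl
  haveI : IsScalarTower A (P ⊗[R] A) SA := IsScalarTower.of_algebraMap_eq fun x => by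
    show _ = φ ((1 : P) ⊗ₜ[R] x)
    rw [Algebra.TensorProduct.lift_tmul, map_one, one_mul]
    rfl
  haveI : IsScalarTower R A (P ⊗[R] A) := IsScalarTower.of_algebraMap_eq fun r =>
    algebraMap_tmul_one r
  exact ⟨P ⊗[R] A, _, _, _, _, inferInstance, inferInstance, inferInstance, inferInstance, inferInstance, inferInstance⟩

/-- Over the local ring of an etale neighbourhood, an etale neighbourhood of a flat point on which
the module is free. -/
theorem exists_etale_free {R S : Type u} [CommRing R] [CommRing S] [Algebra R S] [Algebra.FiniteType R S]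
    (N : Type u) [AddCommGroup N] [Module S N] [Module R N] [IsScalarTower R S N] [Module.Finite S N]
    (p : Ideal R) [p.IsPrime] (q : Ideal S) [q.IsPrime] [q.LiesOver p] (hflat : FlatCA.FlatAt R q N) :
    ∃ (R' : Type u) (_ : CommRing R') (_ : Algebra R R') (p' : Ideal R') (_ : p'.IsPrime),
      FlatCA.IsEtaleNhd R R' p p' ∧
      ∀ (SA NA : Type u) [CommRing SA] [Algebra R SA] [Algebra S SA] [Algebra (Localization.AtPrime p') SA]
        [IsScalarTower R S SA] [IsScalarTower R (Localization.AtPrime p') SA]
        [Algebra.IsPushout R S (Localization.AtPrime p') SA]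
        [AddCommGroup NA] [Module SA NA] [Module S NA] [IsScalarTower S SA NA]
        (f : N →ₗ[S] NA), IsBaseChange SA f →
        ∃ (C : Type u) (_ : CommRing C) (_ : Algebra SA C) (_ : Algebra (Localization.AtPrime p') C)
          (_ : IsScalarTower (Localization.AtPrime p') SA C) (_ : Algebra S C) (_ : IsScalarTower S SA C)
          (x' : Ideal C) (_ : x'.IsPrime) (hx : x'.LiesOver q),
          Algebra.Etale SA C ∧ x'.LiesOver (IsLocalRing.maximalIdeal (Localization.AtPrime p')) ∧
          Function.Bijective (Ideal.ResidueField.mapₐ q x' (Algebra.ofId S C) hx.over) ∧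
          Module.Free (Localization.AtPrime p')
            (RestrictScalars (Localization.AtPrime p') C (C ⊗[SA] NA)) := by
  obtain ⟨n, π, hπ⟩ := Algebra.FiniteType.iff_quotient_mvPolynomial''.mp ‹Algebra.FiniteType R S›
  let P := MvPolynomial (Fin n) R
  letI : Algebra P S := π.toRingHom.toAlgebra
  haveI : IsScalarTower R P S := IsScalarTower.of_algebraMap_eq fun r => (π.commutes r).symm
  haveI : Module.Finite P S := Module.Finite.of_surjective (Algebra.linearMap P S) hπ
  letI : Module P N := Module.compHom N (algebraMap P S)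
  haveI : IsScalarTower P S N := .of_algebraMap_smul fun _ _ => rfl
  haveI : IsScalarTower R P N := .of_algebraMap_smul fun r x => by
    show algebraMap P S (algebraMap R P r) • x = r • x
    rw [← IsScalarTower.algebraMap_apply, algebraMap_smul]
  haveI : Module.Finite P N := Module.Finite.trans S N
  let qP : Ideal P := q.comap (algebraMap P S)
  haveI : qP.LiesOver p := ⟨by
    rw [Ideal.under_def, Ideal.comap_comap, ← IsScalarTower.algebraMap_eq]
    exact q.over_def p⟩
  obtain ⟨R', _, _, p', _, hR, h⟩ :=
    exists_etale_fp_free N p qP ((flatAt_of_surjective hπ N q).mpr hflat)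
  refine ⟨R', _, _, p', ‹_›, hR, ?_⟩
  intro SA NA _ _ _ _ _ _ _ _ _ _ _ f hf
  let A := Localization.AtPrime p'
  letI : Algebra P SA := ((algebraMap S SA).comp (algebraMap P S)).toAlgebra
  haveI : IsScalarTower P S SA := IsScalarTower.of_algebraMap_eq fun _ => rfl
  obtain ⟨PA, _, _, _, _, _, _, _, _, _, hPA⟩ := exists_model_over R P S A SA
  haveI := hPA
  letI : Module PA NA := Module.compHom NA (algebraMap PA SA)
  haveI : IsScalarTower PA SA NA := .of_algebraMap_smul fun _ _ => rfl
  letI : Module P NA := Module.compHom NA (algebraMap P SA)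
  haveI : IsScalarTower P PA NA := .of_algebraMap_smul fun r x => by
    show algebraMap PA SA (algebraMap P PA r) • x = algebraMap P SA r • x
    rw [← IsScalarTower.algebraMap_apply]
  haveI : IsScalarTower P S NA := .of_algebraMap_smul fun r x => by
    show _ = algebraMap P SA r • x
    rw [IsScalarTower.algebraMap_apply P S SA]
    exact (algebraMap_smul SA (algebraMap P S r) x).symm
  have hfP : IsBaseChange PA (f.restrictScalars P) := isBaseChange_of_quotient (R := R) (A := A) (SA := SA) f hf
  obtain ⟨C, _, _, _, tAC, _, tPC, x, _, hx, hC, -, hxm, hxb, -, hfree⟩ :=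
    h PA NA (f.restrictScalars P) hfP
  haveI := hC
  haveI : Algebra.Etale R R' := hR.1
  haveI : p'.LiesOver p := hR.2.1
  haveI : (IsLocalRing.maximalIdeal A).LiesOver p' :=
    ⟨(IsLocalization.AtPrime.under_maximalIdeal A p').symm⟩
  haveI : (IsLocalRing.maximalIdeal A).LiesOver p :=
    Ideal.LiesOver.trans (IsLocalRing.maximalIdeal A) p' p
  obtain ⟨hpp, hfp⟩ := isEtaleNhd_fracSurj hR
  have hfA : FracSurj (algebraMap R A) (IsLocalRing.maximalIdeal A) := by
    rw [IsScalarTower.algebraMap_eq R R' A]
    refine (fracSurj_of_isLocalization p'.primeCompl A _).comp ?_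
    rw [show (IsLocalRing.maximalIdeal A).comap (algebraMap R' A) = p' from
      IsLocalization.AtPrime.under_maximalIdeal A p']
    exact hfp
  exact exists_quotient_nhd (PA := PA) (C := C) hπ p q hfA x hx hxm
    (fracSurj_of_bijective hx.over hxb.2) hfree

end Groth.Agent.H7Flat.Chain
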