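import Groth.Agent.H06EGA11.Model
import Mathlib.RingTheory.FiniteType
import Mathlib.RingTheory.Polynomial.Basic

/-!
# Noetherian models of finitely presented modules over polynomial rings, with abstract rings
-/

set_option autoImplicit false

universe u

open TensorProduct

namespace Groth.Agent.H7Flat.Chain

attribute [local instance] Algebra.TensorProduct.rightAlgebra

/-- A finitely presented module over a polynomial ring has a Noetherian model. -/
theorem exists_poly_model {A : Type u} [CommRing A] {n : ℕ} (M : Type u) [AddCommGroup M]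
    [Module (MvPolynomial (Fin n) A) M] [Module A M] [IsScalarTower A (MvPolynomial (Fin n) A) M]
    [Module.FinitePresentation (MvPolynomial (Fin n) A) M] :
    ∃ (R₀ : Type u) (_ : CommRing R₀) (_ : Algebra R₀ A) (P₀ : Type u) (_ : CommRing P₀)
      (_ : Algebra R₀ P₀) (M₀ : Type u) (_ : AddCommGroup M₀) (_ : Module R₀ M₀) (_ : Module P₀ M₀)
      (_ : IsScalarTower R₀ P₀ M₀) (φ : P₀ ⊗[R₀] A →+* MvPolynomial (Fin n) A)
      (e : H06EGA11.BC R₀ P₀ M₀ A ≃+ M),
        IsNoetherianRing R₀ ∧ Algebra.FiniteType R₀ P₀ ∧ Module.Finite P₀ M₀ ∧ Function.Surjective φ ∧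
        (∀ a : A, φ (algebraMap A (P₀ ⊗[R₀] A) a) = algebraMap A _ a) ∧
          ∀ s x, e (s • x) = φ s • e x := by
  obtain ⟨R₀, hR₀, M₀, iG, iR, iP, iT, iF, σ, e, hσ, he⟩ := H06EGA11.exists_model (A := A) (n := n) M
  haveI : Algebra.FiniteType ℤ R₀ := R₀.fg_iff_finiteType.1 hR₀
  have hN : IsNoetherianRing R₀ := Algebra.FiniteType.isNoetherianRing ℤ R₀
  exact ⟨R₀, _, _, MvPolynomial (Fin n) R₀, _, _, M₀, iG, iR, iP, iT, σ.toRingHom, e.toAddEquiv,
    hN, inferInstance, iF, σ.surjective, hσ, he⟩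

end Groth.Agent.H7Flat.Chain
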