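import Groth.Agent.H7Flat.Chain.FlatLocusIdeal
import Groth.Agent.H06EGA11.Global
import Groth.Agent.H7Flat.Chain.PolyModel
import Groth.Agent.H06EGA11.BaseChange
import Mathlib

/-!
# Finite generation of the ideal of the flat locus
-/

set_option autoImplicit false
set_option linter.style.haveILetI false
set_option backward.isDefEq.respectTransparency false
set_option maxHeartbeats 1000000
set_option synthInstance.maxHeartbeats 400000

universe u

open TensorProduct FlatMor Groth.Agent.H8Props.Devissage IsLocalRing Groth.Agent.H06EGA11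

attribute [local instance] Algebra.TensorProduct.rightAlgebra

namespace Groth.Agent.H7Flat.Chain

section Model

variable {R₀ P₀ M₀ : Type u} [CommRing R₀] [CommRing P₀] [Algebra R₀ P₀] [AddCommGroup M₀]
  [Module R₀ M₀] [Module P₀ M₀] [IsScalarTower R₀ P₀ M₀] {A A' : Type u} [CommRing A] [CommRing A']
  [Algebra R₀ A] [Algebra R₀ A'] [Algebra A A'] [IsScalarTower R₀ A A']

/-- The model of the base change is the base change of the model. -/
theorem exists_equiv_model :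
    ∃ θ : A' ⊗[A] (P₀ ⊗[R₀] A) ≃+* P₀ ⊗[R₀] A',
      (∀ a, θ (algebraMap A' (A' ⊗[A] (P₀ ⊗[R₀] A)) a) = algebraMap A' (P₀ ⊗[R₀] A') a) ∧
      (∀ s, θ (algebraMap (P₀ ⊗[R₀] A) (A' ⊗[A] (P₀ ⊗[R₀] A)) s) =
        mapBC P₀ (IsScalarTower.toAlgHom R₀ A A') s) ∧
      ∀ (Q : Ideal (P₀ ⊗[R₀] A')) [Q.IsPrime],
        FlatCA.FlatAt A' (Q.comap θ.toRingHom) ((A' ⊗[A] (P₀ ⊗[R₀] A)) ⊗[P₀ ⊗[R₀] A] BC R₀ P₀ M₀ A) ↔
          FlatCA.FlatAt A' Q (BC R₀ P₀ M₀ A') := by
  let S := P₀ ⊗[R₀] A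
  let T := A' ⊗[A] S
  let U := P₀ ⊗[R₀] A'
  let ι := mapBC P₀ (IsScalarTower.toAlgHom R₀ A A')
  letI : Algebra S U := ι.toRingHom.toAlgebra
  letI : Algebra A U := ((algebraMap A' U).comp (algebraMap A A')).toAlgebra
  haveI : IsScalarTower A A' U := IsScalarTower.of_algebraMap_eq fun _ => rfl
  haveI : IsScalarTower A S U := IsScalarTower.of_algebraMap_eq fun a => rfl
  haveI : IsScalarTower P₀ S U := IsScalarTower.of_algebraMap_eq fun p => (ι.commutes p).symm
  haveI : IsScalarTower R₀ S U := IsScalarTower.of_algebraMap_eq fun r => by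
    rw [IsScalarTower.algebraMap_apply R₀ P₀ S, ← IsScalarTower.algebraMap_apply P₀ S U,
      ← IsScalarTower.algebraMap_apply]
  haveI : IsScalarTower R₀ A U := IsScalarTower.of_algebraMap_eq fun r => by
    rw [IsScalarTower.algebraMap_apply A A' U, ← IsScalarTower.algebraMap_apply R₀ A A',
      ← IsScalarTower.algebraMap_apply]
  haveI : Algebra.IsPushout R₀ A P₀ S := Algebra.IsPushout.symm inferInstance
  haveI : Algebra.IsPushout R₀ A' P₀ U := Algebra.IsPushout.symm inferInstance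
  haveI : Algebra.IsPushout A A' S U :=
    (Algebra.IsPushout.comp_iff R₀ A P₀ S (T := A') (T' := U)).mp inferInstance
  let θ := Algebra.IsPushout.equiv A A' S U
  have hθS : ∀ s : S, θ (algebraMap S T s) = algebraMap S U s := fun s => by
    show θ ((1 : A') ⊗ₜ[A] s) = _
    simp [θ, Algebra.IsPushout.equiv_tmul]
  refine ⟨θ.toRingEquiv, fun a => θ.commutes a, hθS, fun Q _ => ?_⟩
  letI : Algebra T U := θ.toRingEquiv.toRingHom.toAlgebra
  haveI : IsScalarTower A' T U :=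
    IsScalarTower.of_algebraMap_eq (R := A') (S := T) (A := U) fun a => (θ.commutes a).symm
  letI : Algebra P₀ T := ((algebraMap S T).comp (algebraMap P₀ S)).toAlgebra
  haveI : IsScalarTower P₀ S T := IsScalarTower.of_algebraMap_eq fun _ => rfl
  haveI : IsScalarTower P₀ T U := IsScalarTower.of_algebraMap_eq fun p =>
    (IsScalarTower.algebraMap_apply P₀ S U p).trans (hθS (algebraMap P₀ S p)).symm
  haveI : Module.Flat T U := Module.Flat.of_linearEquiv
    (LinearEquiv.ofBijective (Algebra.linearMap T U) θ.bijective).symm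
  let e₁ : U ⊗[T] (T ⊗[P₀] M₀) ≃ₗ[U] BC R₀ P₀ M₀ A' :=
    AlgebraTensorModule.cancelBaseChange P₀ T U U M₀
  let e₂ : T ⊗[P₀] M₀ ≃ₗ[T] T ⊗[S] BC R₀ P₀ M₀ A :=
    (AlgebraTensorModule.cancelBaseChange P₀ S T T M₀).symm
  have hiff := FlatAtFinite.flat_localizedModule_flat_iff (R := A') (S := T) (S' := U)
    (N := T ⊗[P₀] M₀) (N' := U ⊗[T] (T ⊗[P₀] M₀))
    (TensorProduct.isBaseChange T (T ⊗[P₀] M₀) U) Q
  exact ⟨fun h => DevissageChain.flatAt_congr Q e₁ (hiff.mp (DevissageChain.flatAt_congr _ e₂.symm h)),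
    fun h => DevissageChain.flatAt_congr _ e₂ (hiff.mpr (DevissageChain.flatAt_congr Q e₁.symm h))⟩

end Model

/-- The ideal is finitely generated for modules with a Noetherian model. -/
theorem fg_of_corepAllFlat_model {R₀ P₀ M₀ A : Type u} [CommRing R₀] [IsNoetherianRing R₀] [CommRing P₀]
    [Algebra R₀ P₀] [Algebra.FiniteType R₀ P₀] [AddCommGroup M₀] [Module R₀ M₀] [Module P₀ M₀]
    [IsScalarTower R₀ P₀ M₀] [Module.Finite P₀ M₀] [CommRing A] [IsLocalRing A] [Algebra R₀ A]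
    (q : Ideal (P₀ ⊗[R₀] A)) [q.IsPrime] [q.LiesOver (maximalIdeal A)] (I : Ideal A)
    (hI : CorepAllFlat q (BC R₀ P₀ M₀ A) I) : I.FG := by
  classical
  by_cases hproper : I = ⊤
  · exact hproper ▸ ⟨{1}, by simp⟩
  have hle : I ≤ maximalIdeal A := IsLocalRing.le_maximalIdeal hproper
  have hnt : ∀ J : Ideal A, J ≤ I → Nontrivial (A ⧸ J) := fun J hJ =>
    Ideal.Quotient.nontrivial_iff.mpr fun h =>
      (maximalIdeal.isMaximal A).ne_top (top_le_iff.mp (h ▸ hJ.trans hle))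
  haveI := hnt I le_rfl
  let A'' := A ⧸ I
  haveI : IsLocalRing A'' := IsLocalRing.of_surjective' (Ideal.Quotient.mk I) Ideal.Quotient.mk_surjective
  haveI : IsLocalHom (algebraMap A A'') :=
    Function.Surjective.isLocalHom (f := algebraMap A A'') Ideal.Quotient.mk_surjective
  obtain ⟨Q, hQ, hQq, hQm⟩ := exists_point_over (A := A) (A' := A'') q
  haveI := hQ
  obtain ⟨θ, -, hθS, hθ⟩ := exists_equiv_model (R₀ := R₀) (P₀ := P₀) (M₀ := M₀) (A := A) (A' := A'')
  let Q' : Ideal (P₀ ⊗[R₀] A'') := Q.comap θ.symm.toRingHom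
  have hQ' : Q'.comap θ.toRingHom = Q := by
    ext x
    show θ.symm (θ x) ∈ Q ↔ _
    rw [θ.symm_apply_apply]
  have hflat : FlatCA.FlatAt A'' Q' (BC R₀ P₀ M₀ A'') := by
    refine (hθ Q').mp ?_
    exact (show ∀ (J : Ideal (A'' ⊗[A] (P₀ ⊗[R₀] A))) [J.IsPrime], J = Q →
      FlatCA.FlatAt A'' J ((A'' ⊗[A] (P₀ ⊗[R₀] A)) ⊗[P₀ ⊗[R₀] A] BC R₀ P₀ M₀ A) from fun J _ hJ => by
        subst hJ
        exact (hI A'').mpr (Ideal.map_quotient_self I) J hQq hQm) _ hQ'
  haveI : Module.Flat A'' (LocalizedModule Q'.primeCompl (BC R₀ P₀ M₀ A'')) := hflat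
  obtain ⟨R₁, hR₁, hdesc⟩ := exists_stage_flat_at (R₀ := R₀) (B₀ := P₀) (M₀ := M₀) (A := A'') Q'
  haveI := hdesc R₁ le_rfl hR₁
  obtain ⟨t, ht⟩ := hR₁
  let mkI : A →ₐ[R₀] A'' := Ideal.Quotient.mkₐ R₀ I
  choose f hf using fun x : A'' => (Ideal.Quotient.mk_surjective x : ∃ a, mkI a = x)
  let R₂ := Algebra.adjoin R₀ ((t.image f : Finset A) : Set A)
  haveI : Algebra.FiniteType R₀ R₂ := R₂.fg_iff_finiteType.1 (Subalgebra.fg_adjoin_finset _)
  haveI : IsNoetherianRing R₂ := Algebra.FiniteType.isNoetherianRing R₀ R₂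
  have hmap : R₂.map mkI = R₁ := by
    rw [AlgHom.map_adjoin, ← ht]
    congr 1
    ext x
    simp only [Finset.coe_image, Set.mem_image, Finset.mem_coe, exists_exists_and_eq_and]
    exact ⟨fun ⟨a, ha, h⟩ => (show a = x from (hf a).symm.trans h) ▸ ha, fun hx => ⟨x, hx, hf x⟩⟩
  let π : R₂ →ₐ[R₀] R₁ := (mkI.comp R₂.val).codRestrict R₁ fun x => hmap ▸ ⟨x.1, x.2, rfl⟩
  have hπ : Function.Surjective π := fun y => by
    obtain ⟨x, hx, hxy⟩ := hmap.ge y.2
    exact ⟨⟨x, hx⟩, Subtype.ext hxy⟩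
  let K := RingHom.ker π.toRingHom
  let J : Ideal A := K.map R₂.val.toRingHom
  have hJfg : J.FG := Ideal.FG.map (IsNoetherian.noetherian K) _
  have hJI : J ≤ I := Ideal.map_le_iff_le_comap.mpr fun x hx => by
    have h0 : Ideal.Quotient.mk I x.1 = 0 := congrArg Subtype.val (show π x = 0 from hx)
    show R₂.val.toRingHom x ∈ I
    exact Ideal.Quotient.eq_zero_iff_mem.mp h0
  haveI := hnt J hJI
  let AJ := A ⧸ J
  haveI : IsLocalRing AJ := IsLocalRing.of_surjective' (Ideal.Quotient.mk J) Ideal.Quotient.mk_surjective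
  haveI : IsLocalHom (algebraMap A AJ) :=
    Function.Surjective.isLocalHom (f := algebraMap A AJ) Ideal.Quotient.mk_surjective
  let f₂ : R₂ →ₐ[R₀] AJ := (Ideal.Quotient.mkₐ R₀ J).comp R₂.val
  obtain ⟨ι, hι⟩ : ∃ ι : R₁ →ₐ[R₀] AJ, ι.comp π = f₂ := by
    refine ⟨(Ideal.Quotient.liftₐ K f₂ fun x hx => Ideal.Quotient.eq_zero_iff_mem.mpr
      (Ideal.mem_map_of_mem R₂.val.toRingHom hx)).comp
      (Ideal.quotientKerAlgEquivOfSurjective hπ).symm.toAlgHom, AlgHom.ext fun x => ?_⟩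
    have hx : (Ideal.quotientKerAlgEquivOfSurjective hπ).symm (π x) = Ideal.Quotient.mk K x :=
      (AlgEquiv.symm_apply_eq _).mpr rfl
    simp only [AlgHom.comp_apply]
    erw [hx]
    rfl
  let j : AJ →ₐ[R₀] A'' := Ideal.Quotient.factorₐ R₀ hJI
  have hjι : j.comp ι = R₁.val := AlgHom.ext fun y => by
    obtain ⟨x, rfl⟩ := hπ y
    show j (ι (π x)) = _
    rw [show ι (π x) = f₂ x from AlgHom.congr_fun hι x]
    rfl
  let QJ : Ideal (P₀ ⊗[R₀] AJ) := Q'.comap (mapBC P₀ j).toRingHom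
  haveI : QJ.IsPrime := Ideal.comap_isPrime _ _
  haveI : Module.Flat R₁ (LocalizedModule (QJ.comap (mapBC P₀ ι).toRingHom).primeCompl
      (BC R₀ P₀ M₀ R₁)) := by
    have hcomap : QJ.comap (mapBC P₀ ι).toRingHom = Q'.comap (mapBC P₀ R₁.val).toRingHom := by
      ext x
      show mapBC P₀ j (mapBC P₀ ι x) ∈ Q' ↔ mapBC P₀ R₁.val x ∈ Q'
      rw [mapBC_mapBC, hjι]
    exact (show ∀ (L : Ideal (P₀ ⊗[R₀] R₁)) [L.IsPrime], L = Q'.comap (mapBC P₀ R₁.val).toRingHom →
      Module.Flat R₁ (LocalizedModule L.primeCompl (BC R₀ P₀ M₀ R₁)) from fun L _ hL => by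
        subst hL; infer_instance) _ hcomap
  have hflatJ := flat_localizedModule_baseChange (B₀ := P₀) (M₀ := M₀) ι QJ
  obtain ⟨θJ, -, hθJS, hθJ⟩ := exists_equiv_model (R₀ := R₀) (P₀ := P₀) (M₀ := M₀) (A := A) (A' := AJ)
  have hsurj : Function.Surjective (algebraMap (P₀ ⊗[R₀] A) (AJ ⊗[A] (P₀ ⊗[R₀] A))) := by
    intro t
    induction t using TensorProduct.induction_on with
    | zero => exact ⟨0, map_zero _⟩
    | tmul a d =>
      obtain ⟨a, rfl⟩ := Ideal.Quotient.mk_surjective a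
      refine ⟨a • d, ?_⟩
      show (1 : AJ) ⊗ₜ[A] (a • d) = _
      rw [← smul_tmul, ← Algebra.algebraMap_eq_smul_one]
      rfl
    | add a b ha hb =>
      obtain ⟨x, hx⟩ := ha
      obtain ⟨z, hz⟩ := hb
      exact ⟨x + z, by rw [map_add, hx, hz]⟩
  have hcomapq : (QJ.comap θJ.toRingHom).comap
      (algebraMap (P₀ ⊗[R₀] A) (AJ ⊗[A] (P₀ ⊗[R₀] A))) = q := by
    ext s
    show mapBC P₀ j (θJ (algebraMap _ _ s)) ∈ Q' ↔ _
    rw [hθJS, mapBC_mapBC, show j.comp (IsScalarTower.toAlgHom R₀ A AJ) = IsScalarTower.toAlgHom R₀ A A''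
      from AlgHom.ext fun _ => rfl, ← hθS]
    show θ.symm (θ _) ∈ Q ↔ _
    rw [θ.symm_apply_apply]
    exact SetLike.ext_iff.mp hQq s
  have hall : AllFlat A AJ q (BC R₀ P₀ M₀ A) := fun L _ hL _ => by
    have hLeq : L = QJ.comap θJ.toRingHom :=
      Ideal.comap_injective_of_surjective _ hsurj (hL.trans hcomapq.symm)
    subst hLeq
    exact (hθJ QJ).mpr hflatJ
  have hmapI := (hI AJ).mp hall
  rw [Ideal.map_eq_bot_iff_le_ker, Ideal.Quotient.algebraMap_eq, Ideal.mk_ker] at hmapI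
  exact (le_antisymm hmapI hJI) ▸ hJfg

/-- The ideal is finitely generated for modules over quotients of algebras with a Noetherian model. -/
theorem fg_of_corepAllFlat_quotient {R₀ P₀ M₀ A S : Type u} [CommRing R₀] [IsNoetherianRing R₀]
    [CommRing P₀] [Algebra R₀ P₀] [Algebra.FiniteType R₀ P₀] [AddCommGroup M₀] [Module R₀ M₀]
    [Module P₀ M₀] [IsScalarTower R₀ P₀ M₀] [Module.Finite P₀ M₀] [CommRing A] [IsLocalRing A]
    [Algebra R₀ A] [CommRing S] [Algebra A S] (N : Type u) [AddCommGroup N] [Module S N]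
    (q : Ideal S) [q.IsPrime] [q.LiesOver (maximalIdeal A)] (I : Ideal A) (hI : CorepAllFlat q N I)
    (φ : P₀ ⊗[R₀] A →+* S) (hφ : Function.Surjective φ)
    (hA : ∀ a, φ (algebraMap A (P₀ ⊗[R₀] A) a) = algebraMap A S a)
    (e : BC R₀ P₀ M₀ A ≃+ N) (he : ∀ s x, e (s • x) = φ s • e x) : I.FG := by
  letI : Algebra (P₀ ⊗[R₀] A) S := φ.toAlgebra
  haveI : IsScalarTower A (P₀ ⊗[R₀] A) S := IsScalarTower.of_algebraMap_eq fun a => (hA a).symm
  haveI : Algebra.IsIntegral (P₀ ⊗[R₀] A) S := Algebra.isIntegral_of_surjective hφ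
  letI : Module (P₀ ⊗[R₀] A) N := Module.compHom N φ
  haveI : IsScalarTower (P₀ ⊗[R₀] A) S N := IsScalarTower.of_algebraMap_smul fun _ _ => rfl
  let q' : Ideal (P₀ ⊗[R₀] A) := q.comap (algebraMap (P₀ ⊗[R₀] A) S)
  haveI : q'.LiesOver (maximalIdeal A) := ⟨by
    rw [Ideal.under_def, Ideal.comap_comap, ← IsScalarTower.algebraMap_eq]
    exact q.over_def _⟩
  let eS : BC R₀ P₀ M₀ A ≃ₗ[P₀ ⊗[R₀] A] N := { e with map_smul' := fun s x => he s x }
  refine fg_of_corepAllFlat_model (M₀ := M₀) q' I fun A' _ _ _ _ => ?_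
  exact (allFlat_congr_iff eS).trans ((allFlat_integral q' q rfl
    (fun Q _ hQ => Ideal.comap_injective_of_surjective _ hφ hQ) N).trans (hI A'))

/-- The ideal is finitely generated for finitely presented data. -/
theorem fg_of_corepAllFlat {A S : Type u} [CommRing A] [IsLocalRing A] [CommRing S] [Algebra A S]
    [Algebra.FinitePresentation A S] (N : Type u) [AddCommGroup N] [Module S N]
    [Module.FinitePresentation S N] (q : Ideal S) [q.IsPrime] [q.LiesOver (maximalIdeal A)] (I : Ideal A)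
    (hI : CorepAllFlat q N I) : I.FG := by
  obtain ⟨n, π, hπ, hker⟩ := Algebra.FinitePresentation.out (R := A) (A := S)
  let P := MvPolynomial (Fin n) A
  letI : Algebra P S := π.toRingHom.toAlgebra
  haveI : IsScalarTower A P S := IsScalarTower.of_algebraMap_eq fun x => (π.commutes x).symm
  haveI : Module.FinitePresentation P S :=
    Module.finitePresentation_of_surjective (Algebra.linearMap P S) hπ hker
  letI : Module P N := Module.compHom N π.toRingHom
  haveI : IsScalarTower P S N := IsScalarTower.of_algebraMap_smul fun _ _ => rfl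
  letI : Module A N := Module.compHom N (algebraMap A S)
  haveI : IsScalarTower A S N := IsScalarTower.of_algebraMap_smul fun _ _ => rfl
  haveI : IsScalarTower A P N := IsScalarTower.of_algebraMap_smul fun a x => by
    show π (algebraMap A P a) • x = a • x
    rw [π.commutes, algebraMap_smul]
  haveI : Module.FinitePresentation P N := Module.FinitePresentation.trans P N S
  obtain ⟨R₀, _, _, P₀, _, _, M₀, _, _, _, _, φ, e, hN, hP, hM, hφ, hA, he⟩ :=
    exists_poly_model (A := A) (n := n) N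
  haveI := hN
  haveI := hP
  haveI := hM
  exact fg_of_corepAllFlat_quotient N q I hI (π.toRingHom.comp φ) (hπ.comp hφ)
    (fun a => (congrArg π (hA a)).trans (π.commutes a)) e he

end Groth.Agent.H7Flat.Chain
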