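import Groth.Agent.H7Flat.Chain.HenselML
import Groth.Agent.S0501
import Mathlib

/-!
# Finite flat modules over a henselian local base are Mittag-Leffler
-/

set_option autoImplicit false
set_option linter.style.haveILetI false
set_option backward.isDefEq.respectTransparency false
set_option maxHeartbeats 1000000

universe u

open TensorProduct

namespace Groth.Agent.H7Flat.Chain

/-- An etale neighbourhood of the closed point of a henselian local ring is trivial at that point. -/
theorem bijective_atPrime_of_henselian {A R' : Type u} [CommRing A] [HenselianLocalRing A] [CommRing R']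
    [Algebra A R'] (p' : Ideal R') [p'.IsPrime]
    (h : FlatCA.IsEtaleNhd A R' (IsLocalRing.maximalIdeal A) p') :
    Function.Bijective (algebraMap A (Localization.AtPrime p')) := by
  obtain ⟨hEt, hover, hres⟩ := h
  haveI := hEt
  haveI := hover
  obtain ⟨σ, hσ⟩ : ∃ σ : R' →ₐ[A] A, (IsLocalRing.maximalIdeal A).comap σ.toRingHom = p' := by
    let 𝔪 := IsLocalRing.maximalIdeal A
    let r := Ideal.ResidueField.mapₐ 𝔪 p' (Algebra.ofId A R') hover.over
    let e : 𝔪.ResidueField ≃+* p'.ResidueField := RingEquiv.ofBijective r.toRingHom hres
    let b : (A ⧸ 𝔪) ≃+* 𝔪.ResidueField :=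
      RingEquiv.ofBijective _ (Ideal.bijective_algebraMap_quotient_residueField 𝔪)
    let τ : p'.ResidueField →+* IsLocalRing.ResidueField A := (e.symm.trans b.symm).toRingHom
    have hτ : τ.comp (algebraMap A p'.ResidueField) =
        (IsLocalRing.residue A).comp (algebraMap A A) := by
      ext a
      refine (e.symm.trans b.symm).symm.injective ?_
      show _ = e (b (IsLocalRing.residue A a))
      rw [RingHom.comp_apply]
      refine ((e.symm.trans b.symm).symm_apply_apply _).trans ?_
      exact (r.commutes a).symm.trans (congrArg r
        (IsScalarTower.algebraMap_apply A (A ⧸ 𝔪) 𝔪.ResidueField a))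
    obtain ⟨σ, ⟨hσ, -⟩, -⟩ := Groth.Agent.S0501.result A A R' p' τ hτ
    exact ⟨σ, hσ⟩
  have hmem : ∀ r, r ∈ p' ↔ σ r ∈ IsLocalRing.maximalIdeal A := fun r => by
    have h := SetLike.ext_iff.mp hσ r
    exact h.symm
  have hu : ∀ y : p'.primeCompl, IsUnit (σ.toRingHom y) := fun y => by
    by_contra hy
    exact y.2 ((hmem _).mpr ((IsLocalRing.mem_maximalIdeal _).mpr hy))
  let ψ : Localization.AtPrime p' →+* A := IsLocalization.lift (M := p'.primeCompl) hu
  have hψ : ∀ r, ψ (algebraMap R' (Localization.AtPrime p') r) = σ r := fun r => IsLocalization.lift_eq hu r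
  have hretr : ∀ a, ψ (algebraMap A (Localization.AtPrime p') a) = a := fun a => by
    rw [IsScalarTower.algebraMap_apply A R' (Localization.AtPrime p'), hψ, σ.commutes]
    rfl
  letI : Algebra R' A := σ.toRingHom.toAlgebra
  haveI : IsScalarTower A R' A := IsScalarTower.of_algebraMap_eq fun a => (σ.commutes a).symm
  haveI : Algebra.Etale R' A := Algebra.Etale.of_restrictScalars A R' A
  letI : Algebra (Localization.AtPrime p') A := ψ.toAlgebra
  haveI : IsScalarTower R' (Localization.AtPrime p') A := IsScalarTower.of_algebraMap_eq fun r => (hψ r).symm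
  haveI : Module.Flat (Localization.AtPrime p') A :=
    (Module.flat_iff_of_isLocalization (Localization.AtPrime p') p'.primeCompl A).mpr inferInstance
  haveI : IsLocalHom (algebraMap (Localization.AtPrime p') A) := ⟨fun z hz => by
    obtain ⟨⟨r, s⟩, rfl⟩ := (IsLocalization.mk'_surjective p'.primeCompl z)
    by_contra hn
    have hr : r ∈ p' := by
      by_contra hr
      exact hn (IsUnit.of_mul_eq_one (IsLocalization.mk' (Localization.AtPrime p') (s : R') (⟨r, hr⟩ : p'.primeCompl))
        (by rw [← IsLocalization.mk'_mul, IsLocalization.mk'_eq_iff_eq_mul]; simp [mul_comm]))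
    have h1 : ψ (IsLocalization.mk' (Localization.AtPrime p') r s) * σ (s : R') = σ r := by
      rw [← hψ, ← map_mul, IsLocalization.mk'_spec, hψ]
    refine (IsLocalRing.mem_maximalIdeal _).mp ?_ hz
    have h2 := (hmem _).mp hr
    rw [← h1] at h2
    exact ((Ideal.IsPrime.mem_or_mem inferInstance h2).resolve_right fun hs => s.2 ((hmem _).mpr hs))⟩
  haveI : Module.FaithfullyFlat (Localization.AtPrime p') A := Module.FaithfullyFlat.of_flat_of_isLocalHom
  have hinj : Function.Injective ψ := FaithfulSMul.algebraMap_injective (Localization.AtPrime p') A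
  exact ⟨Function.LeftInverse.injective (g := ψ) hretr,
    fun z => ⟨ψ z, hinj (hretr _)⟩⟩

/-- Free modules stay free along a bijective structure map. -/
theorem free_of_bijective {A A' M : Type u} [CommRing A] [CommRing A'] [Algebra A A'] [AddCommGroup M]
    [Module A M] [Module A' M] [IsScalarTower A A' M] (h : Function.Bijective (algebraMap A A'))
    [Module.Free A' M] : Module.Free A M := by
  haveI : Module.Free A A' := Module.Free.of_equiv (LinearEquiv.ofBijective (Algebra.linearMap A A') h)
  exact Module.Free.trans (S := A') (M := M)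

theorem free_restrict_iff' {A T M : Type u} [CommRing A] [CommRing T] [Algebra A T] [AddCommGroup M]
    [Module T M] [Module A M] [IsScalarTower A T M]
    (h : Module.Free A (RestrictScalars A T M)) : Module.Free A M := by
  haveI := h
  exact Module.Free.of_equiv (M := RestrictScalars A T M)
    ({ RestrictScalars.addEquiv A T M with
      map_smul' := fun a z => by
        show RestrictScalars.addEquiv A T M (a • z) = a • RestrictScalars.addEquiv A T M z
        rw [RestrictScalars.addEquiv_map_smul, algebraMap_smul] } : RestrictScalars A T M ≃ₗ[A] M)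

theorem bijective_of_isPushout {A A' S SA : Type u} [CommRing A] [CommRing A'] [CommRing S] [CommRing SA]
    [Algebra A A'] [Algebra A S] [Algebra S SA] [Algebra A' SA] [Algebra A SA] [IsScalarTower A A' SA]
    [IsScalarTower A S SA] [Algebra.IsPushout A S A' SA] (hb : Function.Bijective (algebraMap A A')) :
    Function.Bijective (algebraMap S SA) := by
  let e : A ≃ₐ[A] A' := AlgEquiv.ofBijective (Algebra.ofId A A') hb
  let e' : S ⊗[A] A' ≃ₐ[A] S :=
    (Algebra.TensorProduct.congr AlgEquiv.refl e.symm).trans ((Algebra.TensorProduct.rid A A S))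
  have h : (algebraMap S SA : S → SA) =
      (Algebra.IsPushout.equiv A S A' SA).toLinearEquiv ∘ e'.symm := by
    funext s
    simp [e', Algebra.IsPushout.equiv_tmul]
  rw [h]
  exact (LinearEquiv.bijective _).comp e'.symm.bijective

/-- Free modules descend to the base along a trivial extension of the base. -/
theorem free_of_model {A A' S SA C : Type u} [CommRing A] [CommRing A'] [CommRing S] [CommRing SA]
    [CommRing C] [Algebra A A'] [Algebra S SA] [Algebra SA C] [Algebra A' C] [Algebra S C]
    [Algebra A C] [IsScalarTower A A' C] [IsScalarTower S SA C] [Algebra A' SA] [IsScalarTower A' SA C]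
    (hb : Function.Bijective (algebraMap A A')) (N : Type u) [AddCommGroup N] [Module S N]
    (hfree : Module.Free A' (RestrictScalars A' C (C ⊗[SA] (SA ⊗[S] N)))) :
    Module.Free A (C ⊗[S] N) := by
  haveI := free_restrict_iff' hfree
  haveI : Module.Free A' (C ⊗[S] N) := Module.Free.of_equiv
    ((AlgebraTensorModule.cancelBaseChange S SA C C N).restrictScalars A')
  exact free_of_bijective (A' := A') hb

/-- Over a henselian base a flat point has an affine neighbourhood on which the module is free. -/
theorem exists_open_free_of_henselian {A S : Type u} [CommRing A] [HenselianLocalRing A] [CommRing S]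
    [Algebra A S] [Algebra.FiniteType A S] (N : Type u) [AddCommGroup N] [Module S N] [Module A N]
    [IsScalarTower A S N] [Module.Finite S N] (q : Ideal S) [q.IsPrime]
    [q.LiesOver (IsLocalRing.maximalIdeal A)] (hflat : FlatCA.FlatAt A q N) :
    ∃ g ∉ q, Module.Free A (LocalizedModule (Submonoid.powers g) N) := by
  obtain ⟨R', _, _, p', _, hR, h⟩ := exists_etale_free N (IsLocalRing.maximalIdeal A) q hflat
  have hb : Function.Bijective (algebraMap A (Localization.AtPrime p')) :=
    bijective_atPrime_of_henselian p' hR
  obtain ⟨SA, _, _, _, _, _, _, hpo⟩ : ∃ (SA : Type u) (_ : CommRing SA) (_ : Algebra A SA)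
      (_ : Algebra S SA) (_ : Algebra (Localization.AtPrime p') SA) (_ : IsScalarTower A S SA)
      (_ : IsScalarTower A (Localization.AtPrime p') SA),
      Algebra.IsPushout A S (Localization.AtPrime p') SA := by
    letI : Algebra (Localization.AtPrime p') (S ⊗[A] Localization.AtPrime p') :=
      Algebra.TensorProduct.rightAlgebra
    exact ⟨S ⊗[A] Localization.AtPrime p', inferInstance, inferInstance, inferInstance, inferInstance,
      inferInstance, inferInstance, inferInstance⟩
  haveI := hpo
  obtain ⟨C, _, _, _, _, _, _, x, _, hx, hC, -, -, hfree⟩ :=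
    h SA (SA ⊗[S] N) (TensorProduct.mk S SA N 1) (TensorProduct.isBaseChange S N SA)
  have hSA : Function.Bijective (algebraMap S SA) :=
    bijective_of_isPushout (A := A) (A' := Localization.AtPrime p') hb
  haveI : Algebra.Etale S SA := Algebra.Etale.of_equiv
    (AlgEquiv.ofBijective (Algebra.ofId S SA) hSA)
  haveI := hC
  haveI : Algebra.Etale S C := Algebra.Etale.comp S SA C
  letI : Algebra A C := ((algebraMap (Localization.AtPrime p') C).comp
    (algebraMap A (Localization.AtPrime p'))).toAlgebra
  haveI : IsScalarTower A (Localization.AtPrime p') C := IsScalarTower.of_algebraMap_eq fun _ => rfl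
  haveI : IsScalarTower A S C := IsScalarTower.of_algebraMap_eq fun a => by
    show algebraMap (Localization.AtPrime p') C (algebraMap A (Localization.AtPrime p') a) = _
    rw [IsScalarTower.algebraMap_apply (Localization.AtPrime p') SA C,
      IsScalarTower.algebraMap_apply S SA C, ← IsScalarTower.algebraMap_apply A (Localization.AtPrime p') SA,
      ← IsScalarTower.algebraMap_apply A S SA]
  haveI := free_of_model (A := A) (S := S) (C := C) hb N hfree
  obtain ⟨g, hgx, hgfree⟩ := exists_open_free (A := A) (SA := S) (T := C) N x
    (free_restrict_of_tower (A := A) (C := C) inferInstance)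
  refine ⟨g, hx.over ▸ hgx, ?_⟩
  haveI := free_restrict_iff' hgfree
  exact Module.Free.of_equiv
    ((LocalizedModule.equivTensorProduct (Submonoid.powers g) N).symm.restrictScalars A)

end Groth.Agent.H7Flat.Chain
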