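import Groth.Agent.H7Flat.Chain.CoverNA
import Groth.Agent.S1253
import Groth.Agent.H7Flat.FlatAtFinite
import Mathlib

/-!
# A complete dévissage over the local ring of an etale neighbourhood
-/

set_option autoImplicit false
set_option linter.style.haveILetI false
set_option backward.isDefEq.respectTransparency false
set_option maxHeartbeats 1000000

universe u

open TensorProduct

namespace Groth.Agent.H7Flat.Chain

open Groth.Agent.H7Flat.ElemDev Groth.Agent.H8Props.Devissage

/-- Freeness of restriction of scalars only depends on the module up to isomorphism. -/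
theorem free_restrict_congr {A C M M' : Type u} [CommRing A] [CommRing C] [Algebra A C] [AddCommGroup M]
    [Module C M] [AddCommGroup M'] [Module C M'] (e : M ≃ₗ[C] M')
    (h : Module.Free A (RestrictScalars A C M)) : Module.Free A (RestrictScalars A C M') := by
  letI : Module A M := Module.compHom M (algebraMap A C)
  haveI : IsScalarTower A C M := .of_algebraMap_smul fun _ _ => rfl
  letI : Module A M' := Module.compHom M' (algebraMap A C)
  haveI : IsScalarTower A C M' := .of_algebraMap_smul fun _ _ => rfl
  haveI : Module.Free A M := h
  exact (Module.Free.of_equiv (e.restrictScalars A) : Module.Free A M')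

/-- A module free over the base is free as a restriction of scalars. -/
theorem free_restrict_of_tower {A C M : Type u} [CommRing A] [CommRing C] [Algebra A C] [AddCommGroup M]
    [Module C M] [Module A M] [IsScalarTower A C M] (h : Module.Free A M) :
    Module.Free A (RestrictScalars A C M) :=
  Module.Free.of_equiv (M := M)
    ({ (RestrictScalars.addEquiv A C M).symm with
      map_smul' := fun a x => by
        show (RestrictScalars.addEquiv A C M).symm (a • x) = a • (RestrictScalars.addEquiv A C M).symm x
        apply (RestrictScalars.addEquiv A C M).injective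
        rw [RestrictScalars.addEquiv_map_smul, AddEquiv.apply_symm_apply, AddEquiv.apply_symm_apply,
          algebraMap_smul] } : M ≃ₗ[A] RestrictScalars A C M)

/-- The residue map to the local ring at a prime is bijective. -/
theorem residueMap_bijective_atPrime {R' : Type u} [CommRing R'] (p' : Ideal R') [p'.IsPrime]
    (A : Type u) [CommRing A] [IsLocalRing A] [Algebra R' A] [IsLocalization.AtPrime A p']
    [(IsLocalRing.maximalIdeal A).LiesOver p'] :
    Function.Bijective (residueMap R' p' A (IsLocalRing.maximalIdeal A)) :=
  bijective_of_fracSurj (Ideal.over_def _ p') (fracSurj_of_isLocalization p'.primeCompl A _)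

/-- Over the local ring of the base, a complete dévissage at a flat point gives a finitely presented
free module. -/
theorem fp_free_atPrime {R S R' S' : Type u} [CommRing R] [CommRing S] [CommRing R'] [CommRing S']
    [Algebra R S] [Algebra.FinitePresentation R S] [Algebra R R'] [Algebra.Etale R R'] [Algebra S S']
    [Algebra.Etale S S'] [Algebra R' S'] [Algebra R S'] [IsScalarTower R R' S'] [IsScalarTower R S S']
    (N : Type u) [AddCommGroup N] [Module S N] [Module R N] [IsScalarTower R S N] [Module.Finite S N]
    (p' : Ideal R') [p'.IsPrime]
    (A : Type u) [CommRing A] [IsLocalRing A] [Algebra R' A] [IsLocalization.AtPrime A p']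
    [Algebra R A] [IsScalarTower R R' A]
    (T : Type u) [CommRing T] [Algebra A T] [Algebra S' T] [Algebra R' T] [Algebra S T] [Algebra R T]
    [IsScalarTower R' A T] [IsScalarTower R' S' T] [IsScalarTower S S' T] [IsScalarTower R R' T]
    [Algebra.IsPushout R' A S' T]
    (h : Subsingleton (S' ⊗[S] N) ∨ ∃ (q' : Ideal S') (_ : q'.IsPrime), q'.LiesOver p' ∧
      FlatCA.FlatAt R (q'.comap (algebraMap S S')) N ∧
      FlatCA.HasCompleteDevissageAt R' S' (S' ⊗[S] N) p' q') :
    Algebra.FinitePresentation A T ∧ Module.FinitePresentation T (T ⊗[S] N) ∧
      Module.Free A (RestrictScalars A T (T ⊗[S] N)) := by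
  haveI : IsScalarTower R S T := IsScalarTower.of_algebraMap_eq fun r => by
    rw [IsScalarTower.algebraMap_apply R R' T, IsScalarTower.algebraMap_apply R' S' T,
      IsScalarTower.algebraMap_apply S S' T, ← IsScalarTower.algebraMap_apply R R' S',
      ← IsScalarTower.algebraMap_apply R S S']
  haveI : IsScalarTower R A T := IsScalarTower.of_algebraMap_eq fun r => by
    rw [IsScalarTower.algebraMap_apply R R' T, IsScalarTower.algebraMap_apply R' A T,
      ← IsScalarTower.algebraMap_apply R R' A]
  haveI : Algebra.FinitePresentation R S' := Algebra.FinitePresentation.trans R S S'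
  haveI : Algebra.FinitePresentation R' S' :=
    Algebra.FinitePresentation.of_restrict_scalars_finitePresentation R R' S'
  let eT := Algebra.IsPushout.equiv R' A S' T
  haveI : Algebra.FinitePresentation A T := Algebra.FinitePresentation.equiv eT
  refine ⟨‹_›, ?_⟩
  rcases h with h | ⟨q', _, hq', hflat, hd⟩
  · haveI := h
    haveI : Subsingleton (T ⊗[S] N) :=
      (AlgebraTensorModule.cancelBaseChange S S' T T N).toEquiv.symm.subsingleton
    haveI : Subsingleton (RestrictScalars A T (T ⊗[S] N)) := ‹Subsingleton (T ⊗[S] N)›
    exact ⟨inferInstance, inferInstance⟩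
  · haveI := hq'
    haveI : (IsLocalRing.maximalIdeal A).LiesOver p' :=
      ⟨(IsLocalization.AtPrime.under_maximalIdeal A p').symm⟩
    have hκ := residueMap_bijective_atPrime p' A
    haveI : Algebra.IsPushout R' S' A T := Algebra.IsPushout.symm ‹_›
    obtain ⟨Q, hQ, hQq, hQm⟩ := exists_prime_over (S' := T) hκ q'
    haveI := hQ
    haveI := hQq
    haveI := hQm
    haveI : Algebra.FiniteType R' S' := inferInstance
    obtain ⟨𝒟, h𝒟⟩ := hcd_baseChange hd A (IsLocalRing.maximalIdeal A) hκ T (T ⊗[S'] (S' ⊗[S] N))
      (TensorProduct.mk S' T (S' ⊗[S] N) 1) (TensorProduct.isBaseChange S' (S' ⊗[S] N) T) Q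
    let M := T ⊗[S'] (S' ⊗[S] N)
    let e : M ≃ₗ[T] T ⊗[S] N := AlgebraTensorModule.cancelBaseChange S S' T T N
    haveI : IsScalarTower R A M := inferInstance
    haveI : IsScalarTower R S M := IsScalarTower.of_algebraMap_smul fun r x => by
      rw [← algebraMap_smul T (algebraMap R S r) x, ← IsScalarTower.algebraMap_apply, algebraMap_smul]
    have hψ : IsBaseChange T
        ((TensorProduct.mk S' T (S' ⊗[S] N) 1).restrictScalars S ∘ₗ TensorProduct.mk S S' N 1) :=
      (TensorProduct.isBaseChange S N S').comp (TensorProduct.isBaseChange S' (S' ⊗[S] N) T)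
    haveI : Module.Flat R' A := IsLocalization.flat A p'.primeCompl
    haveI : Module.Flat S' T := Module.Flat.of_linearEquiv
      (Algebra.IsPushout.equiv R' S' A T).toLinearEquiv.symm
    haveI : Module.Flat S T := Module.Flat.trans S S' T
    have h1 : Module.Flat R (LocalizedModule Q.primeCompl M) := by
      refine (H7Flat.FlatAtFinite.flat_localizedModule_flat_iff hψ Q).mp ?_
      have : Q.comap (algebraMap S T) = q'.comap (algebraMap S S') := by
        rw [IsScalarTower.algebraMap_eq S S' T, ← Ideal.comap_comap, hQq.over]
      exact (show ∀ (I : Ideal S) [I.IsPrime], I = q'.comap (algebraMap S S') →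
        Module.Flat R (LocalizedModule I.primeCompl N) from fun I _ h => by subst h; exact hflat) _ this
    have hflatQ : FlatCA.FlatAt A Q M := by
      haveI : IsScalarTower R A (LocalizedModule Q.primeCompl M) :=
        IsScalarTower.of_algebraMap_smul fun r x => by
          induction x using LocalizedModule.induction_on with
          | _ m s => rw [LocalizedModule.smul'_mk, LocalizedModule.smul'_mk, algebraMap_smul]
      haveI : Algebra.EssFiniteType R' A := Algebra.EssFiniteType.of_isLocalization A p'.primeCompl
      haveI : Algebra.EssFiniteType R A := Algebra.EssFiniteType.comp R R' A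
      haveI : Algebra.FormallyUnramified R' A := Algebra.FormallyUnramified.of_isLocalization p'.primeCompl
      haveI : Algebra.FormallyUnramified R A := Algebra.FormallyUnramified.comp R R' A
      exact Algebra.FormallyUnramified.flat_of_restrictScalars R A _
    obtain ⟨hfp, hfree, -⟩ := Groth.Agent.S1253.result M Q hflatQ 𝒟 h𝒟
    refine ⟨?_, free_restrict_congr e (free_restrict_of_tower hfree)⟩
    haveI := hfp
    exact Module.FinitePresentation.of_equiv e

end Groth.Agent.H7Flat.Chain
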