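import Groth.Agent.H7Flat.Chain.FlatLocusStep
import Groth.Agent.H7Flat.Chain.HenselMLMain
import Groth.Agent.H7Flat.Chain.Main
import Groth.Agent.H7Flat.Chain.BaseChange
import Groth.Agent.H7Flat.Chain.Local
import Mathlib

/-!
# The ideal of the flat locus over a henselian local ring
-/

set_option autoImplicit false
set_option linter.style.haveILetI false
set_option backward.isDefEq.respectTransparency false
set_option maxHeartbeats 1000000
set_option synthInstance.maxHeartbeats 400000

universe u

open TensorProduct FlatMor Groth.Agent.H8Props.Devissage IsLocalRing Groth.Agent.H7Flat.ElemDev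

attribute [local instance] Algebra.TensorProduct.rightAlgebra

namespace Groth.Agent.H7Flat.Chain

variable {A : Type u} [CommRing A]

/-- The ideal corepresents flatness at all points over the given one. -/
def CorepAllFlat [IsLocalRing A] {S : Type u} [CommRing S] [Algebra A S] (q : Ideal S) (N : Type u)
    [AddCommGroup N] [Module S N] (I : Ideal A) : Prop :=
  ∀ (A' : Type u) [CommRing A'] [IsLocalRing A'] [Algebra A A'] [IsLocalHom (algebraMap A A')],
    AllFlat A A' q N ↔ I.map (algebraMap A A') = ⊥

theorem injective_baseChange_baseChange {A₁ B M N : Type u} [CommRing A₁] [CommRing B] [Algebra A A₁]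
    [Algebra A₁ B] [Algebra A B] [IsScalarTower A A₁ B] [AddCommGroup M] [Module A M] [AddCommGroup N]
    [Module A N] (f : M →ₗ[A] N) :
    Function.Injective ((f.baseChange A₁).baseChange B) ↔ Function.Injective (f.baseChange B) := by
  let eM := AlgebraTensorModule.cancelBaseChange A A₁ B B M
  let eN := AlgebraTensorModule.cancelBaseChange A A₁ B B N
  have key : ∀ z, eN ((f.baseChange A₁).baseChange B z) = f.baseChange B (eM z) := by
    intro z
    induction z using TensorProduct.induction_on with
    | zero => simp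
    | tmul b w =>
      induction w using TensorProduct.induction_on with
      | zero => simp
      | tmul a x => simp [eM, eN]
      | add x y hx hy => simp only [tmul_add, map_add, hx, hy]
    | add x y hx hy => simp only [map_add, hx, hy]
  have hfun : (eN : _ → _) ∘ ((f.baseChange A₁).baseChange B) = (f.baseChange B) ∘ eM := funext key
  exact ⟨fun h => (Function.Injective.of_comp_iff' _ eM.bijective).mp (hfun ▸ eN.injective.comp h),
    fun h => (eN.injective.of_comp_iff _).mp (hfun ▸ h.comp eM.injective)⟩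

/-- Base change of a localization is generated by fractions of the base change. -/
theorem exists_fraction {A₁ D P L : Type u} [CommRing A₁] [Algebra A A₁] [CommRing D] [Algebra A D]
    [AddCommGroup P] [Module D P] [Module A P] [IsScalarTower A D P] [AddCommGroup L] [Module D L]
    [Module A L] [IsScalarTower A D L] (S : Submonoid D) (mk : P →ₗ[D] L) [IsLocalizedModule S mk]
    (z : A₁ ⊗[A] L) :
    ∃ (s : S) (k : A₁ ⊗[A] P), (mk.restrictScalars A).baseChange A₁ k =
      ((LinearMap.lsmul D L (s : D)).restrictScalars A).baseChange A₁ z := by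
  obtain ⟨⟨k', s⟩, hk⟩ := IsLocalizedModule.surj S (AlgebraTensorModule.rTensor A A₁ mk)
    (TensorProduct.comm A A₁ L z)
  refine ⟨s, TensorProduct.comm A P A₁ k', (TensorProduct.comm A A₁ L).injective ?_⟩
  have h1 : ∀ k, TensorProduct.comm A A₁ L ((mk.restrictScalars A).baseChange A₁
      (TensorProduct.comm A P A₁ k)) = AlgebraTensorModule.rTensor A A₁ mk k := fun k => by
    induction k using TensorProduct.induction_on with
    | zero => simp
    | tmul a b => simp
    | add a b ha hb => simp only [map_add, ha, hb]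
  have h2 : ∀ w, TensorProduct.comm A A₁ L
      (((LinearMap.lsmul D L (s : D)).restrictScalars A).baseChange A₁ w) =
        (s : D) • TensorProduct.comm A A₁ L w := fun w => by
    induction w using TensorProduct.induction_on with
    | zero => simp
    | tmul a b => simp [smul_tmul']
    | add a b ha hb => simp only [map_add, smul_add, ha, hb]
  rw [h1, h2]
  exact hk.symm

variable [IsLocalRing A]

/-- One step of the induction. -/
theorem exists_ideal_step {D : Type u} [CommRing D] [Algebra A D] [Algebra.Smooth A D]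
    (hgi : FlatCA.GeomIrredFibres A D) (y : Ideal D) [y.IsPrime] [y.LiesOver (maximalIdeal A)]
    (G : Type u) [AddCommGroup G] [Module D G] [Module.Finite D G]
    [((maximalIdeal A).map (algebraMap A D)).IsPrime] (r : ℕ) (α : (Fin r → D) →ₗ[D] G)
    (hα : Function.Bijective (α.baseChange ((maximalIdeal A).map (algebraMap A D)).ResidueField))
    (I₁ : Ideal A) (h₁ : CorepAllFlat y (G ⧸ LinearMap.range α) I₁) :
    ∃ I : Ideal A, CorepAllFlat y G I := by
  letI : Module A G := Module.compHom G (algebraMap A D)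
  haveI : IsScalarTower A D G := .of_algebraMap_smul fun _ _ => rfl
  have hle : I₁ ≤ maximalIdeal A := by
    haveI : IsLocalHom (algebraMap A (ResidueField A)) := inferInstanceAs (IsLocalHom (IsLocalRing.residue A))
    haveI : ∀ (M : Type u) [AddCommGroup M] [Module (ResidueField A) M], Module.Flat (ResidueField A) M :=
      fun M _ _ => inferInstance
    have h0 := (h₁ (ResidueField A)).mp (fun _ _ _ _ => by unfold FlatCA.FlatAt; infer_instance)
    rw [Ideal.map_eq_bot_iff_le_ker] at h0
    exact h0.trans (le_of_eq (IsLocalRing.ker_residue))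
  let A₁ := A ⧸ I₁
  haveI : Nontrivial A₁ := Ideal.Quotient.nontrivial_iff.mpr fun h =>
    (maximalIdeal.isMaximal A).ne_top (top_le_iff.mp (h ▸ hle))
  haveI : IsLocalRing A₁ := IsLocalRing.of_surjective' (Ideal.Quotient.mk I₁) Ideal.Quotient.mk_surjective
  have hs : Function.Surjective (algebraMap A A₁) := Ideal.Quotient.mk_surjective
  haveI : IsLocalHom (algebraMap A A₁) := hs.isLocalHom
  haveI : Module.Projective A (Fin r → D) := by
    haveI := DevissageChain.projective hgi
    exact Module.Projective.of_equiv (DirectSum.linearEquivFunOnFintype A (Fin r) fun _ => D)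
  let P := Fin r → D
  let L := LocalizedModule y.primeCompl P
  let Y := LocalizedModule y.primeCompl G
  let Q := G ⧸ LinearMap.range α
  let W := LocalizedModule y.primeCompl Q
  let mkP : P →ₗ[D] L := LocalizedModule.mkLinearMap y.primeCompl P
  let mkG : G →ₗ[D] Y := LocalizedModule.mkLinearMap y.primeCompl G
  let v : L →ₗ[A] Y := (LocalizedModule.map y.primeCompl α).restrictScalars A
  let π : Y →ₗ[A] W := (LocalizedModule.map y.primeCompl (LinearMap.range α).mkQ).restrictScalars A
  have hπ : Function.Surjective π :=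
    LocalizedModule.map_surjective y.primeCompl _ (LinearMap.range α).mkQ_surjective
  have hex : Function.Exact v π := LocalizedModule.map_exact y.primeCompl α _ (LinearMap.exact_map_mkQ_range α)
  have hvι : v ∘ₗ mkP.restrictScalars A = (mkG ∘ₗ α).restrictScalars A := by
    refine LinearMap.ext fun x => ?_
    show LocalizedModule.map y.primeCompl α (LocalizedModule.mk x 1) = LocalizedModule.mk (α x) 1
    rw [LocalizedModule.map_mk]
  obtain ⟨Q₁, hQ₁, hQy, hQm⟩ := exists_point_over (A := A) (A' := A₁) y
  haveI := hQ₁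
  haveI hWflat : Module.Flat A₁ (A₁ ⊗[A] W) := flat_tensor_localized A₁ hs y Q₁ hQy Q W
    (LocalizedModule.mkLinearMap y.primeCompl Q) ((h₁ A₁).mpr (Ideal.map_quotient_self I₁) Q₁ hQy hQm)
  obtain ⟨I₂, hI₂⟩ := exists_ideal_injective (R := A₁) ((mkP.restrictScalars A).baseChange A₁)
    (v.baseChange A₁) (π.baseChange A₁)
    (by simp only [LinearMap.baseChange_eq_ltensor]; exact lTensor_exact A₁ hex hπ)
    (by simp only [LinearMap.baseChange_eq_ltensor]; exact LinearMap.lTensor_surjective A₁ hπ)
    (fun l hl => by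
      obtain ⟨s, k, hk⟩ := exists_fraction (A₁ := A₁) y.primeCompl mkP l
      have hu := IsLocalizedModule.map_units mkP s
      let μ : L →ₗ[A] L := (LinearMap.lsmul D L (s : D)).restrictScalars A
      let σ : L →ₗ[A] L := (↑hu.unit⁻¹ : Module.End D L).restrictScalars A
      let μY : Y →ₗ[A] Y := (LinearMap.lsmul D Y (s : D)).restrictScalars A
      have hσ : σ ∘ₗ μ = LinearMap.id := LinearMap.ext fun x => LinearMap.congr_fun hu.unit.inv_mul x
      have hμ : v ∘ₗ μ = μY ∘ₗ v := LinearMap.ext fun x => by
        exact LinearMap.map_smul_of_tower (LocalizedModule.map y.primeCompl α) (s : D) x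
      refine ⟨σ.baseChange A₁, k, ?_, ?_⟩
      · rw [hk, ← LinearMap.comp_apply, ← LinearMap.baseChange_comp, hμ, LinearMap.baseChange_comp,
          LinearMap.comp_apply, hl, map_zero]
      · rw [hk, ← LinearMap.comp_apply, ← LinearMap.baseChange_comp, hσ]
        simp [LinearMap.baseChange_id])
    (fun B _ _ => by
      letI : Algebra A B := ((algebraMap A₁ B).comp (algebraMap A A₁)).toAlgebra
      haveI : IsScalarTower A A₁ B := IsScalarTower.of_algebraMap_eq fun _ => rfl
      rw [injective_baseChange_baseChange]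
      have := (injective_comp_localized_iff hgi y mkP (LinearMap.id : P →ₗ[D] P) B).mpr (by
        rw [show (LinearMap.id : P →ₗ[D] P).restrictScalars A = LinearMap.id from rfl, LinearMap.baseChange_id]
        exact fun _ _ h => h)
      simpa using this)
  refine ⟨I₂.comap (Ideal.Quotient.mk I₁), fun A' _ _ _ _ => ?_⟩
  rw [allFlat_step hgi y G r α hα A', h₁ A']
  have hle' : I₁ ≤ I₂.comap (Ideal.Quotient.mk I₁) := fun x hx => by
    rw [Ideal.mem_comap, Ideal.Quotient.eq_zero_iff_mem.mpr hx]
    exact zero_mem _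
  refine ⟨fun ⟨ha, hb⟩ => ?_, fun h => ?_⟩
  · letI : Algebra A₁ A' := (Ideal.Quotient.lift I₁ (algebraMap A A') fun x hx =>
      (Ideal.map_eq_bot_iff_le_ker _).mp ha hx).toAlgebra
    haveI : IsScalarTower A A₁ A' := IsScalarTower.of_algebraMap_eq fun _ => rfl
    have h2 := (hI₂ A').mp (by
      rw [← LinearMap.baseChange_comp, injective_baseChange_baseChange, hvι]
      exact (injective_comp_localized_iff hgi y mkG α A').mpr hb)
    rw [IsScalarTower.algebraMap_eq A A₁ A', ← Ideal.map_map,
      show (I₂.comap (Ideal.Quotient.mk I₁)).map (algebraMap A A₁) = I₂ from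
        Ideal.map_comap_of_surjective _ Ideal.Quotient.mk_surjective I₂, h2]
  · have ha : I₁.map (algebraMap A A') = ⊥ := le_bot_iff.mp (h ▸ Ideal.map_mono hle')
    refine ⟨ha, ?_⟩
    letI : Algebra A₁ A' := (Ideal.Quotient.lift I₁ (algebraMap A A') fun x hx =>
      (Ideal.map_eq_bot_iff_le_ker _).mp ha hx).toAlgebra
    haveI : IsScalarTower A A₁ A' := IsScalarTower.of_algebraMap_eq fun _ => rfl
    have h3 : I₂.map (algebraMap A₁ A') = ⊥ := by
      rw [← Ideal.map_comap_of_surjective (Ideal.Quotient.mk I₁) Ideal.Quotient.mk_surjective I₂,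
        Ideal.map_map, ← Ideal.Quotient.algebraMap_eq, ← IsScalarTower.algebraMap_eq]
      exact h
    have h2 := (hI₂ A').mpr h3
    rw [← LinearMap.baseChange_comp, injective_baseChange_baseChange, hvι] at h2
    exact (injective_comp_localized_iff hgi y mkG α A').mp h2

/-- A complete dévissage at a point gives the ideal. -/
theorem exists_ideal_of_preAt : ∀ (k : ℕ) {S : Type u} [CommRing S] [Algebra A S] {N : Type u}
    [AddCommGroup N] [Module S N] (𝒟 : FlatCA.CompleteDevissage A S N (maximalIdeal A))
    {q : Ideal S} [q.IsPrime] {qB : ∀ i, Ideal (𝒟.B i)} {qA : ∀ i, Ideal (𝒟.A i)} {d : ℕ → ℕ},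
    𝒟.n = k + 1 → PreAt 𝒟 q qB qA d → ∃ I : Ideal A, CorepAllFlat q N I := by
  intro k
  induction k with
  | zero =>
    intro S _ _ N _ _ 𝒟 q _ qB qA d hn h
    obtain ⟨_, _, _, _, -⟩ := h.pts 0 𝒟.pos
    have st := step_zero 𝒟 h
    haveI := st.smooth
    haveI := st.finiteDC
    haveI := st.finiteG
    haveI : Module.Finite (𝒟.B 0) (𝒟.M 0) := Module.Finite.trans (𝒟.A 0) (𝒟.M 0)
    haveI := isPrime_map A (𝒟.B 0) (maximalIdeal A) st.geomIrred
    have hlast : Function.Surjective (𝒟.α 0) := by
      have := 𝒟.cokerLast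
      rwa [show 𝒟.n - 1 = 0 by omega] at this
    obtain ⟨I, hI⟩ := exists_ideal_step st.geomIrred (qB 0) (𝒟.M 0) (𝒟.r 0) (𝒟.α 0) st.fibreIso ⊥
      (fun A' _ _ _ _ => iff_of_true (allFlat_of_killed (qB 0) _
        (s := 1) (fun h1 => (inferInstance : (qB 0).IsPrime).ne_top ((Ideal.eq_top_iff_one _).mpr h1))
        fun x => by
          obtain ⟨m, rfl⟩ := Submodule.Quotient.mk_surjective _ x
          rw [one_smul, Submodule.Quotient.mk_eq_zero, LinearMap.range_eq_top.mpr hlast]
          exact Submodule.mem_top) (Ideal.map_bot))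
    exact ⟨I, fun A' _ _ _ _ => (allFlat_of_step st).trans (hI A')⟩
  | succ k ih =>
    intro S _ _ N _ _ 𝒟 q _ qB qA d hn h
    obtain ⟨_, _, _, _, -⟩ := h.pts 0 𝒟.pos
    have hlast : Function.Surjective (𝒟.α (k + 1 - 1 + 1)) := by
      have := 𝒟.cokerLast
      rw [show 𝒟.n - 1 = k + 1 by omega] at this
      exact this
    let 𝒟₁ : FlatCA.CompleteDevissage A (𝒟.B 0) (𝒟.M 1) (maximalIdeal A) :=
      FlatCA.CompleteDevissage.mk (n := k + 1) (pos := Nat.succ_pos k) (A := fun i => 𝒟.A (i + 1))
        (B := fun i => 𝒟.B (i + 1)) (M := fun i => 𝒟.M (i + 1)) (r := fun i => 𝒟.r (i + 1))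
        (α := fun i => 𝒟.α (i + 1)) (surjSA := 𝒟.surjBA' 0 (by omega)) (fpSA := 𝒟.fpBA' 0 (by omega))
        (surjBA' := fun i hi => 𝒟.surjBA' (i + 1) (by omega))
        (fpBA' := fun i hi => 𝒟.fpBA' (i + 1) (by omega))
        (finiteBA := fun i hi => 𝒟.finiteBA (i + 1) (by omega))
        (smooth := fun i hi => 𝒟.smooth (i + 1) (by omega))
        (geomIrred := fun i hi => 𝒟.geomIrred (i + 1) (by omega))
        (finiteM := fun i hi => 𝒟.finiteM (i + 1) (by omega))
        (isoN := LinearEquiv.refl (𝒟.B 0) (𝒟.M 1))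
        (isoCoker := fun i hi => 𝒟.isoCoker (i + 1) (by omega))
        (fibreIso := fun i hi => 𝒟.fibreIso (i + 1) (by omega)) (cokerLast := hlast)
    have h' : PreAt 𝒟₁ (qB 0) (fun i => qB (i + 1)) (fun i => qA (i + 1)) (fun i => d (i + 1)) :=
      ⟨fun i hi => h.pts (i + 1) (by have : i < k + 1 := hi; omega),
        h.qStep 0 (by omega),
        fun i hi => h.qStep (i + 1) (by have : i + 1 < k + 1 := hi; omega),
        fun i hi => h.relDim (i + 1) (by have : i < k + 1 := hi; omega)⟩
    obtain ⟨I₁, hI₁⟩ := ih 𝒟₁ rfl h'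
    have st := step_zero 𝒟 h
    haveI := st.smooth
    haveI := st.finiteDC
    haveI := st.finiteG
    haveI : Module.Finite (𝒟.B 0) (𝒟.M 0) := Module.Finite.trans (𝒟.A 0) (𝒟.M 0)
    haveI := isPrime_map A (𝒟.B 0) (maximalIdeal A) st.geomIrred
    obtain ⟨I, hI⟩ := exists_ideal_step st.geomIrred (qB 0) (𝒟.M 0) (𝒟.r 0) (𝒟.α 0) st.fibreIso I₁
      (fun A' _ _ _ _ => (allFlat_congr_iff (𝒟.isoCoker 0 (by omega))).trans (hI₁ A'))
    exact ⟨I, fun A' _ _ _ _ => (allFlat_of_step st).trans (hI A')⟩
where
  /-- Flatness at all points of the source of a step. -/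
  allFlat_of_step {S C D G N : Type u} [CommRing S] [CommRing C] [CommRing D] [Algebra A S] [Algebra S C]
      [Algebra A C] [IsScalarTower A S C] [Algebra A D] [Algebra D C] [IsScalarTower A D C]
      [AddCommGroup G] [Module C G] [Module S G] [IsScalarTower S C G] [Module D G] [IsScalarTower D C G]
      [AddCommGroup N] [Module S N] {q : Ideal S} [q.IsPrime] {y : Ideal D} [y.IsPrime]
      [y.LiesOver (maximalIdeal A)] {z : Ideal C} [z.IsPrime] [z.LiesOver y] {n r : ℕ}
      {α : (Fin r → D) →ₗ[D] G} (st : Step N (maximalIdeal A) q C D G y z n r α)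
      {A' : Type u} [CommRing A'] [IsLocalRing A'] [Algebra A A'] :
      AllFlat A A' q N ↔ AllFlat A A' y G := by
    haveI := st.finiteDC
    haveI : Algebra.IsIntegral D C := Algebra.IsIntegral.of_finite D C
    haveI : Algebra.IsIntegral S C := Algebra.isIntegral_of_surjective st.surjSC
    refine (allFlat_congr_iff st.equiv.some).trans ((allFlat_integral q z st.q0 (fun Q _ hQ =>
      Ideal.comap_injective_of_surjective _ st.surjSC (hQ.trans st.q0.symm)) G).trans
        (allFlat_integral y z (z.over_def y).symm (fun Q _ hQ => st.uniq Q ⟨hQ.symm⟩) G).symm)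

/-- Residue field bijectivity composes. -/
theorem residueMap_bijective_comp {S S' S'' : Type u} [CommRing S] [CommRing S'] [CommRing S'']
    [Algebra S S'] [Algebra S' S''] [Algebra S S''] [IsScalarTower S S' S''] (q : Ideal S) [q.IsPrime]
    (q' : Ideal S') [q'.IsPrime] [q'.LiesOver q] (q'' : Ideal S'') [q''.IsPrime] [q''.LiesOver q']
    [q''.LiesOver q] (h₁ : Function.Bijective (residueMap S q S' q'))
    (h₂ : Function.Bijective (residueMap S' q' S'' q'')) :
    Function.Bijective (residueMap S q S'' q'') := by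
  have : (residueMap S q S'' q'').toRingHom =
      (residueMap S' q' S'' q'').toRingHom.comp (residueMap S q S' q').toRingHom :=
    Ideal.ResidueField.ringHom_ext (RingHom.ext fun s => by
      show residueMap S q S'' q'' (algebraMap S q.ResidueField s) =
        residueMap S' q' S'' q'' (residueMap S q S' q' (algebraMap S q.ResidueField s))
      rw [AlgHom.commutes, AlgHom.commutes, IsScalarTower.algebraMap_apply S S' q'.ResidueField,
        AlgHom.commutes, ← IsScalarTower.algebraMap_apply])
  show Function.Bijective (residueMap S q S'' q'').toRingHom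
  rw [this]
  exact h₂.comp h₁

/-- Over a henselian local ring the flat locus at a point over the closed point is cut out by an ideal. -/
theorem exists_ideal_model {A S : Type u} [CommRing A] [HenselianLocalRing A] [CommRing S] [Algebra A S]
    [Algebra.FiniteType A S] (N : Type u) [AddCommGroup N] [Module S N] [Module.Finite S N]
    (q : Ideal S) [q.IsPrime] [q.LiesOver (maximalIdeal A)] : ∃ I : Ideal A, CorepAllFlat q N I := by
  classical
  by_cases hq : (⟨q, inferInstance⟩ : PrimeSpectrum S) ∈ Module.support S N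
  swap
  · obtain ⟨s, hs, hsq⟩ := SetLike.not_le_iff_exists.mp (mt Module.mem_support_iff_of_finite.mpr hq)
    exact ⟨⊥, fun A' _ _ _ _ => iff_of_true
      (allFlat_of_killed q N hsq fun x => Module.mem_annihilator.mp hs x) Ideal.map_bot⟩
  obtain ⟨x, hx, m, hxq, hm⟩ := exists_point N (maximalIdeal A) q hq
  obtain ⟨R', S', _, _, _, _, _, _, _, _, p', q', _, _, hR, hS, hq'p, hd⟩ :=
    exists_loc m A S N (maximalIdeal A) q x hx hxq hm
  let Lp := Localization.AtPrime p'
  have hb : Function.Bijective (algebraMap A Lp) := bijective_atPrime_of_henselian p' hR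
  let e : A ≃+* Lp := RingEquiv.ofBijective (algebraMap A Lp) hb
  letI : Algebra R' A := (e.symm.toRingHom.comp (algebraMap R' Lp)).toAlgebra
  haveI : IsScalarTower A R' A := IsScalarTower.of_algebraMap_eq fun a => by
    show a = e.symm (algebraMap R' Lp (algebraMap A R' a))
    rw [← IsScalarTower.algebraMap_apply]
    exact (e.symm_apply_apply a).symm
  haveI : IsLocalization.AtPrime A p' := IsLocalization.isLocalization_of_algEquiv p'.primeCompl
    ({ e.symm with commutes' := fun _ => rfl } : Lp ≃ₐ[R'] A)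
  haveI : (maximalIdeal A).LiesOver p' := ⟨(IsLocalization.AtPrime.under_maximalIdeal A p').symm⟩
  have hκ := residueMap_bijective_atPrime p' A
  haveI : Module.Flat R' A := IsLocalization.flat A p'.primeCompl
  haveI := hq'p
  haveI : Algebra.Etale S S' := hS.1
  haveI : q'.LiesOver q := hS.2.1
  haveI : Algebra.FiniteType A S' := Algebra.FiniteType.trans ‹Algebra.FiniteType A S› inferInstance
  haveI : Algebra.FiniteType R' S' := .of_restrictScalars_finiteType A _ _
  let S'' := A ⊗[R'] S'
  letI : Algebra S S'' := ((algebraMap S' S'').comp (algebraMap S S')).toAlgebra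
  haveI : IsScalarTower S S' S'' := IsScalarTower.of_algebraMap_eq fun _ => rfl
  haveI : IsScalarTower A S S'' := IsScalarTower.of_algebraMap_eq fun a => by
    show algebraMap A (A ⊗[R'] S') a = algebraMap S' S'' (algebraMap S S' (algebraMap A S a))
    rw [← IsScalarTower.algebraMap_apply A S S', IsScalarTower.algebraMap_apply A R' S',
      ← IsScalarTower.algebraMap_apply R' S' S'', IsScalarTower.algebraMap_apply R' A S'',
      ← IsScalarTower.algebraMap_apply A R' A]
    rfl
  haveI : Algebra.IsPushout R' S' A S'' := Algebra.IsPushout.symm inferInstance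
  haveI : Module.Flat S' S'' := Module.Flat.of_linearEquiv
    (Algebra.IsPushout.equiv R' S' A S'').toLinearEquiv.symm
  haveI : Module.Flat S S'' := Module.Flat.trans S S' S''
  obtain ⟨q'', hq'', hq''q', hq''m⟩ := exists_prime_over (S' := S'') hκ q'
  haveI := hq''
  haveI := hq''q'
  haveI := hq''m
  haveI : q''.LiesOver q := Ideal.LiesOver.trans q'' q' q
  obtain ⟨𝒟, ⟨𝒜⟩⟩ := hcd_baseChange hd A (maximalIdeal A) hκ S'' (S'' ⊗[S'] (S' ⊗[S] N))
    (TensorProduct.mk S' S'' (S' ⊗[S] N) 1) (TensorProduct.isBaseChange S' (S' ⊗[S] N) S'') q''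
  obtain ⟨I, hI⟩ := exists_ideal_of_preAt (𝒟.n - 1) 𝒟 (qB := 𝒜.qB) (qA := 𝒜.qA) (d := 𝒜.d)
    (by have := 𝒟.pos; omega)
    ⟨fun i hi => ⟨𝒜.hqB i, 𝒜.hqA i, 𝒜.overB i, 𝒜.overA i, 𝒜.pureTrans i hi, 𝒜.uniq i hi, 𝒜.locDim i hi⟩,
      𝒜.q0, 𝒜.qStep, 𝒜.relDim⟩
  refine ⟨I, fun A' _ _ _ _ => ?_⟩
  rw [allFlat_etale (A' := A') q q'' (residueMap_bijective_comp q q' q'' hS.2.2
    (residueMap_bijective hκ q' q'')) N]
  exact (allFlat_congr_iff (AlgebraTensorModule.cancelBaseChange S S' S'' S'' N).symm).trans (hI A')

end Groth.Agent.H7Flat.Chain
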