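import Groth.Agent.H7Flat.Chain.FlatLocusFG
import Groth.Agent.H8Props.Devissage.LocalFibre
import Mathlib

/-!
# The ideal of the flat locus for essentially finite type local algebras
-/

set_option autoImplicit false
set_option linter.style.haveILetI false
set_option backward.isDefEq.respectTransparency false
set_option maxHeartbeats 1000000
set_option synthInstance.maxHeartbeats 400000

universe u

open TensorProduct FlatMor Groth.Agent.H8Props.Devissage IsLocalRing

attribute [local instance] Algebra.TensorProduct.rightAlgebra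

namespace Groth.Agent.H7Flat.Chain

/-- The condition may be read on any models of the base changes. -/
theorem allFlat_model {A B : Type u} [CommRing A] [CommRing B] [IsLocalRing B] [Algebra A B]
    (M : Type u) [AddCommGroup M] [Module B M] {A' B' M' : Type u} [CommRing A'] [IsLocalRing A']
    [Algebra A A'] [CommRing B'] [Algebra B B'] [Algebra A' B'] [Algebra A B'] [IsScalarTower A B B']
    [IsScalarTower A A' B'] [Algebra.IsPushout A B A' B'] [AddCommGroup M'] [Module B' M'] [Module B M']
    [IsScalarTower B B' M'] [Module A' M'] [IsScalarTower A' B' M'] (f : M →ₗ[B] M')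
    (hf : IsBaseChange B' f) :
    (∀ (q : Ideal B') [q.IsPrime], (maximalIdeal A').map (algebraMap A' B') ⊔
      (maximalIdeal B).map (algebraMap B B') ≤ q → FlatCA.FlatAt A' q M') ↔
      AllFlat A A' (maximalIdeal B) M := by
  haveI : Algebra.IsPushout A A' B B' := Algebra.IsPushout.symm ‹_›
  let T := A' ⊗[A] B
  let θ := Algebra.IsPushout.equiv A A' B B'
  letI : Algebra T B' := θ.toRingEquiv.toRingHom.toAlgebra
  haveI : IsScalarTower A' T B' :=
    IsScalarTower.of_algebraMap_eq (R := A') (S := T) (A := B') fun a => (θ.commutes a).symm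
  have hθ : ∀ b : B, algebraMap T B' (algebraMap B T b) = algebraMap B B' b := fun b => by
    show θ ((1 : A') ⊗ₜ[A] b) = _
    simp [θ, Algebra.IsPushout.equiv_tmul]
  haveI : IsScalarTower B T B' :=
    IsScalarTower.of_algebraMap_eq (R := B) (S := T) (A := B') fun b => (hθ b).symm
  letI : Module T M' := Module.compHom M' (algebraMap T B')
  haveI : IsScalarTower T B' M' := IsScalarTower.of_algebraMap_smul fun _ _ => rfl
  haveI : IsScalarTower B T M' := IsScalarTower.of_algebraMap_smul (R := B) (A := T) fun b x => by
    show algebraMap T B' (algebraMap B T b) • x = b • x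
    rw [hθ, algebraMap_smul]
  haveI : IsScalarTower A' T M' := IsScalarTower.of_algebraMap_smul (R := A') (A := T) fun a x => by
    show algebraMap T B' (algebraMap A' T a) • x = a • x
    rw [← IsScalarTower.algebraMap_apply, algebraMap_smul]
  haveI : Module.Flat T B' := Module.Flat.of_linearEquiv
    (LinearEquiv.ofBijective (Algebra.linearMap T B') θ.bijective).symm
  let g : T ⊗[B] M →ₗ[T] M' := (TensorProduct.isBaseChange B M T).lift f
  have hg : IsBaseChange B' g := by
    refine IsBaseChange.of_comp (TensorProduct.isBaseChange B M T) ?_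
    have : (g.restrictScalars B) ∘ₗ (TensorProduct.mk B T M 1) = f :=
      LinearMap.ext fun m => (TensorProduct.isBaseChange B M T).lift_eq f m
    rw [this]
    exact hf
  have key : ∀ (Q : Ideal B') [Q.IsPrime],
      FlatCA.FlatAt A' (Q.comap (algebraMap T B')) (T ⊗[B] M) ↔ FlatCA.FlatAt A' Q M' :=
    fun Q _ => FlatAtFinite.flat_localizedModule_flat_iff (R := A') (S := T) (S' := B')
      (N := T ⊗[B] M) (N' := M') hg Q
  constructor
  · intro h Q hQ h1 h2
    let Q' : Ideal B' := Q.comap θ.symm.toRingEquiv.toRingHom
    have hQ' : Q'.comap (algebraMap T B') = Q := by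
      ext x
      show θ.symm (θ x) ∈ Q ↔ _
      rw [θ.symm_apply_apply]
    have hle : (maximalIdeal A').map (algebraMap A' B') ⊔ (maximalIdeal B).map (algebraMap B B') ≤ Q' := by
      refine sup_le (Ideal.map_le_iff_le_comap.mpr ?_) (Ideal.map_le_iff_le_comap.mpr ?_)
      · rw [IsScalarTower.algebraMap_eq A' T B', ← Ideal.comap_comap, hQ', h2]
      · rw [IsScalarTower.algebraMap_eq B T B', ← Ideal.comap_comap, hQ', h1]
    exact (show ∀ (L : Ideal T) [L.IsPrime], L = Q → FlatCA.FlatAt A' L (T ⊗[B] M) →
      FlatCA.FlatAt A' Q (T ⊗[B] M) from fun L _ hL hh => by subst hL; exact hh) _ hQ'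
      ((key Q').mpr (h Q' hle))
  · intro h Q hQ hle
    obtain ⟨hA', hB⟩ := sup_le_iff.mp hle
    refine (key Q).mp (h _ ?_ ?_)
    · rw [Ideal.comap_comap, ← IsScalarTower.algebraMap_eq]
      exact ((maximalIdeal.isMaximal B).eq_of_le (Ideal.comap_ne_top _ hQ.ne_top)
        (Ideal.map_le_iff_le_comap.mp hB)).symm
    · rw [Ideal.comap_comap, ← IsScalarTower.algebraMap_eq]
      exact ((maximalIdeal.isMaximal A').eq_of_le (Ideal.comap_ne_top _ hQ.ne_top)
        (Ideal.map_le_iff_le_comap.mp hA')).symm

/-- The condition at the closed point of a localization is the condition at the point. -/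
theorem allFlat_localization {A S B : Type u} [CommRing A] [CommRing S] [CommRing B] [IsLocalRing B]
    [Algebra A S] [Algebra A B] [Algebra S B] [IsScalarTower A S B] (W : Submonoid S) [IsLocalization W B]
    {N₀ : Type u} [AddCommGroup N₀] [Module S N₀] {M : Type u} [AddCommGroup M] [Module B M]
    (e : B ⊗[S] N₀ ≃ₗ[B] M) (A' : Type u) [CommRing A'] [IsLocalRing A'] [Algebra A A'] :
    AllFlat A A' (maximalIdeal B) M ↔ AllFlat A A' ((maximalIdeal B).comap (algebraMap S B)) N₀ := by
  haveI : Module.Flat S B := IsLocalization.flat B W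
  haveI : (maximalIdeal B).LiesOver ((maximalIdeal B).comap (algebraMap S B)) := ⟨rfl⟩
  rw [allFlat_etale (A' := A') ((maximalIdeal B).comap (algebraMap S B)) (maximalIdeal B)
    (residueMap_bijective_of_isLocalization W _ _) N₀]
  exact (allFlat_congr_iff e).symm

/-- A finitely presented module over a localization comes from a finitely presented module. -/
theorem exists_fp_model {S B : Type u} [CommRing S] [CommRing B] [Algebra S B] (W : Submonoid S)
    [IsLocalization W B] (M : Type u) [AddCommGroup M] [Module B M] [Module.FinitePresentation B M] :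
    ∃ (N₀ : Type u) (_ : AddCommGroup N₀) (_ : Module S N₀),
      Module.FinitePresentation S N₀ ∧ Nonempty (B ⊗[S] N₀ ≃ₗ[B] M) := by
  classical
  obtain ⟨m, n, f, g, hf, hfg⟩ := Module.FinitePresentation.exists_fin' B M
  obtain ⟨b, hb⟩ := IsLocalization.exist_integer_multiples_of_finite W
    (fun ij : Fin n × Fin m => g (Pi.single ij.1 1) ij.2)
  choose c₀ hc₀ using hb
  let c : Fin n → Fin m → S := fun i j => c₀ (i, j)
  have hc : ∀ i j, algebraMap S B (c i j) = algebraMap S B (b : S) * g (Pi.single i 1) j := fun i j => by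
    show algebraMap S B (c₀ (i, j)) = _
    rw [hc₀ (i, j), Algebra.smul_def]
  let β := Fintype.linearCombination S c
  let γ : (Fin n → B) →ₗ[B] (Fin m → B) :=
    (TensorProduct.piScalarRight S B B (Fin m)).toLinearMap ∘ₗ β.baseChange B ∘ₗ
      (TensorProduct.piScalarRight S B B (Fin n)).symm.toLinearMap
  have hγ : ∀ i, γ (Pi.single i 1) = algebraMap S B (b : S) • g (Pi.single i 1) := fun i => by
    funext j
    have hs : (TensorProduct.piScalarRight S B B (Fin n)).symm (Pi.single i 1) =
        (1 : B) ⊗ₜ[S] Pi.single i 1 := by simp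
    show TensorProduct.piScalarRight S B B (Fin m) (β.baseChange B
      ((TensorProduct.piScalarRight S B B (Fin n)).symm (Pi.single i 1))) j = _
    rw [hs]
    simp [β, Fintype.linearCombination_apply_single, ← hc, Algebra.smul_def]
  have hγg : γ = algebraMap S B (b : S) • g := (Pi.basisFun B (Fin n)).ext fun i => by
    rw [Pi.basisFun_apply, hγ]
    rfl
  let π := ((Submodule.mkQ (LinearMap.range β))).baseChange B
  have hπ : Function.Surjective π := by
    simp only [π, LinearMap.baseChange_eq_ltensor]
    exact LinearMap.lTensor_surjective B (Submodule.mkQ_surjective _)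
  have hex : Function.Exact (β.baseChange B) π := by
    simp only [π, LinearMap.baseChange_eq_ltensor]
    exact lTensor_exact B (LinearMap.exact_map_mkQ_range β) (Submodule.mkQ_surjective _)
  let F := f ∘ₗ (TensorProduct.piScalarRight S B B (Fin m)).toLinearMap
  have hu : IsUnit (algebraMap S B (b : S)) := IsLocalization.map_units B b
  have hkerF : LinearMap.ker F = LinearMap.ker π := by
    rw [hex.linearMap_ker_eq]
    refine le_antisymm (fun z hz => ?_) ?_
    · obtain ⟨w, hw⟩ := (hfg _).mp (show f (TensorProduct.piScalarRight S B B (Fin m) z) = 0 from hz)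
      refine ⟨(TensorProduct.piScalarRight S B B (Fin n)).symm ((hu.unit⁻¹ : Bˣ).1 • w),
        (TensorProduct.piScalarRight S B B (Fin m)).injective ?_⟩
      show γ ((hu.unit⁻¹ : Bˣ).1 • w) = _
      rw [← hw, hγg, LinearMap.smul_apply, map_smul, ← mul_smul, IsUnit.mul_val_inv, one_smul]
    · rintro _ ⟨w, rfl⟩
      show f (TensorProduct.piScalarRight S B B (Fin m) (β.baseChange B w)) = 0
      obtain ⟨v, rfl⟩ := (TensorProduct.piScalarRight S B B (Fin n)).symm.surjective w
      show f (γ v) = 0
      rw [hγg, LinearMap.smul_apply, map_smul, (hfg _).mpr ⟨v, rfl⟩, smul_zero]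
  refine ⟨(Fin m → S) ⧸ LinearMap.range β, inferInstance, inferInstance,
    Module.finitePresentation_of_surjective _ (Submodule.mkQ_surjective _) (by
      rw [Submodule.ker_mkQ, LinearMap.range_eq_map]
      exact Module.Finite.fg_top.map β), ⟨?_⟩⟩
  have hF : Function.Surjective F :=
    hf.comp (TensorProduct.piScalarRight S B B (Fin m)).surjective
  exact (π.quotKerEquivOfSurjective hπ).symm ≪≫ₗ
    Submodule.quotEquivOfEq _ _ hkerF.symm ≪≫ₗ F.quotKerEquivOfSurjective hF

/-- The flat locus of a finite module over an essentially finite type local algebra over a henselian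
local ring is cut out by an ideal, which is finitely generated under finite presentation. -/
theorem exists_ideal_essFiniteType {A B : Type u} [CommRing A] [HenselianLocalRing A] [CommRing B]
    [IsLocalRing B] [Algebra A B] [IsLocalHom (algebraMap A B)] [Algebra.EssFiniteType A B]
    (M : Type u) [AddCommGroup M] [Module B M] [Module.Finite B M] :
    ∃ I : Ideal A, CorepAllFlat (maximalIdeal B) M I ∧
      (FlatCA.EssFinitePresentation A B → Module.FinitePresentation B M → I.FG) := by
  classical
  let S := Algebra.EssFiniteType.subalgebra A B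
  let q : Ideal S := (maximalIdeal B).comap (algebraMap S B)
  haveI : q.LiesOver (maximalIdeal A) := ⟨by
    rw [Ideal.under_def, Ideal.comap_comap, ← IsScalarTower.algebraMap_eq]
    exact (IsLocalRing.maximalIdeal_comap (algebraMap A B)).symm⟩
  obtain ⟨n, φ, hφ⟩ := Module.Finite.exists_fin' B M
  let W := Algebra.EssFiniteType.submonoid A B
  letI : Module S M := Module.compHom M (algebraMap S B)
  haveI : IsScalarTower S B M := IsScalarTower.of_algebraMap_smul fun _ _ => rfl
  let N₀ : Submodule S M := Submodule.span S (Set.range fun i => φ (Pi.single i 1))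
  haveI : Module.Finite S N₀ :=
    Module.Finite.iff_fg.mpr (Submodule.fg_span (Set.finite_range _))
  haveI : IsLocalizedModule W N₀.subtype :=
    { map_units := fun s => by
        refine (Module.End.isUnit_iff _).mpr ?_
        have hu := IsLocalization.map_units B s
        refine Function.bijective_iff_has_inverse.mpr ⟨fun z => (hu.unit⁻¹ : Bˣ) • z, fun z => ?_, fun z => ?_⟩
        · show (hu.unit⁻¹ : Bˣ) • ((s : S) • z) = z
          rw [← algebraMap_smul B (s : S) z]
          exact inv_smul_smul hu.unit z
        · show (s : S) • ((hu.unit⁻¹ : Bˣ) • z) = z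
          rw [← algebraMap_smul B (s : S) ((hu.unit⁻¹ : Bˣ) • z)]
          exact smul_inv_smul hu.unit z
      surj := fun y => by
        obtain ⟨v, rfl⟩ := hφ y
        obtain ⟨b, hb⟩ := IsLocalization.exist_integer_multiples_of_finite W v
        choose c hc using hb
        refine ⟨⟨⟨∑ i, c i • φ (Pi.single i 1), Submodule.sum_mem _ fun i _ =>
          Submodule.smul_mem _ _ (Submodule.subset_span ⟨i, rfl⟩)⟩, b⟩, ?_⟩
        show (b : S) • φ v = ∑ i, c i • φ (Pi.single i 1)
        conv_lhs => rw [pi_eq_sum_univ' v, map_sum, Finset.smul_sum]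
        refine Finset.sum_congr rfl fun i _ => ?_
        rw [map_smul, ← algebraMap_smul B (c i) (φ (Pi.single i 1)), hc, smul_assoc]
      exists_of_eq := fun {a b} hab => ⟨1, by rw [Subtype.ext hab]⟩ }
  obtain ⟨I, hI⟩ := exists_ideal_model (A := A) N₀ q
  have hIB : CorepAllFlat (maximalIdeal B) M I := fun A' _ _ _ _ =>
    (allFlat_localization W (IsLocalizedModule.isBaseChange W B N₀.subtype).equiv A').trans (hI A')
  refine ⟨I, hIB, fun hB hM => ?_⟩
  obtain ⟨S₀, _, _, _, _, W₀, hfp, hloc⟩ := hB
  haveI := hfp
  haveI := hloc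
  haveI := hM
  obtain ⟨N₁, _, _, hN₁, ⟨e⟩⟩ := exists_fp_model (S := S₀) (B := B) W₀ M
  haveI := hN₁
  let q₀ : Ideal S₀ := (maximalIdeal B).comap (algebraMap S₀ B)
  haveI : q₀.LiesOver (maximalIdeal A) := ⟨by
    rw [Ideal.under_def, Ideal.comap_comap, ← IsScalarTower.algebraMap_eq]
    exact (IsLocalRing.maximalIdeal_comap (algebraMap A B)).symm⟩
  exact fg_of_corepAllFlat N₁ q₀ I fun A' _ _ _ _ =>
    (allFlat_localization W₀ e A').symm.trans (hIB A')

end Groth.Agent.H7Flat.Chain
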