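import Groth.Agent.H7Flat.Chain.AllFlat
import Groth.Agent.H7Flat.DevissageFP
import Groth.Agent.S1204
import Mathlib

/-!
# One step of a dévissage and the ideal of the flat locus
-/

set_option autoImplicit false
set_option linter.style.haveILetI false
set_option backward.isDefEq.respectTransparency false
set_option maxHeartbeats 1000000
set_option synthInstance.maxHeartbeats 400000

universe u

open TensorProduct FlatMor Groth.Agent.H8Props.Devissage IsLocalRing

attribute [local instance] Algebra.TensorProduct.rightAlgebra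

namespace Groth.Agent.H7Flat.Chain

/-- Injectivity of base changes of a map is a closed condition when the cokernel of a localization of it
is flat. -/
theorem exists_ideal_injective {R P L Y W : Type u} [CommRing R] [AddCommGroup P] [Module R P]
    [Module.Projective R P] [AddCommGroup L] [Module R L] [AddCommGroup Y] [Module R Y]
    [AddCommGroup W] [Module R W] [Module.Flat R W] (ι : P →ₗ[R] L) (v : L →ₗ[R] Y) (π : Y →ₗ[R] W)
    (hex : Function.Exact v π) (hπ : Function.Surjective π)
    (hgen : ∀ l, v l = 0 → ∃ (σ : L →ₗ[R] L) (k : P), v (ι k) = 0 ∧ σ (ι k) = l)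
    (hι : ∀ (B : Type u) [CommRing B] [Algebra R B], Function.Injective (ι.baseChange B)) :
    ∃ I : Ideal R, ∀ (B : Type u) [CommRing B] [Algebra R B],
      Function.Injective ((v ∘ₗ ι).baseChange B) ↔ I.map (algebraMap R B) = ⊥ := by
  classical
  refine ⟨Ideal.span {a : R | ∃ (φ : P →ₗ[R] R) (k : P), v (ι k) = 0 ∧ φ k = a}, fun B _ _ => ?_⟩
  constructor
  · intro h
    rw [Ideal.map_span, Ideal.span_eq_bot]
    rintro _ ⟨_, ⟨φ, k, hk, rfl⟩, rfl⟩
    have h1 : (1 : B) ⊗ₜ[R] k = 0 := h (by simp [hk])
    have h2 := congrArg (TensorProduct.rid R B) (congrArg (φ.baseChange B) h1)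
    rw [map_zero, map_zero, LinearMap.baseChange_tmul, TensorProduct.rid_tmul] at h2
    rwa [Algebra.smul_def, mul_one] at h2
  · intro h
    obtain ⟨s, hs⟩ := (Module.projective_def (R := R) (P := P)).1 ‹_›
    have hker : ∀ k, v (ι k) = 0 → (1 : B) ⊗ₜ[R] k = 0 := by
      intro k hk
      have e : k = Finsupp.linearCombination R id (s k) := (hs k).symm
      rw [e, Finsupp.linearCombination_apply, Finsupp.sum, TensorProduct.tmul_sum]
      refine Finset.sum_eq_zero fun m _ => ?_
      rw [TensorProduct.tmul_smul]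
      have hm : algebraMap R B (s k m) = 0 := by
        have := Ideal.mem_map_of_mem (algebraMap R B) (Ideal.subset_span
          (show s k m ∈ {a : R | ∃ (φ : P →ₗ[R] R) (k : P), v (ι k) = 0 ∧ φ k = a} from
            ⟨(Finsupp.lapply m).comp s, k, hk, rfl⟩))
        rwa [h, Ideal.mem_bot] at this
      rw [TensorProduct.smul_tmul', Algebra.smul_def, hm, zero_mul, TensorProduct.zero_tmul]
    have hkv : ∀ l, v l = 0 → ∀ b : B, b ⊗ₜ[R] l = 0 := by
      intro l hl b
      obtain ⟨σ, k, hk, rfl⟩ := hgen l hl
      have h0 : (b ⊗ₜ[R] k : B ⊗[R] P) = b • ((1 : B) ⊗ₜ k) := by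
        rw [smul_tmul', smul_eq_mul, mul_one]
      have h1 := congrArg (fun z => σ.lTensor B (ι.lTensor B z)) h0
      simpa [hker k hk] using h1
    rw [LinearMap.baseChange_eq_ltensor, LinearMap.lTensor_comp, LinearMap.coe_comp]
    refine Function.Injective.comp ?_ (by simpa [LinearMap.baseChange_eq_ltensor] using hι B)
    have hv : Function.Exact ((LinearMap.ker v).subtype.lTensor B) (v.rangeRestrict.lTensor B) :=
      lTensor_exact B (fun x => by
        rw [Set.mem_range]
        exact ⟨fun hx => ⟨⟨x, congrArg Subtype.val hx⟩, rfl⟩, fun ⟨y, hy⟩ => Subtype.ext (hy ▸ y.2)⟩)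
        v.surjective_rangeRestrict
    have hj : Function.Injective ((LinearMap.range v).subtype.lTensor B) :=
      LinearMap.lTensor_injective_of_exact_of_flat π hπ (LinearMap.range v).subtype
        (LinearMap.range v).injective_subtype
        (fun y => by rw [hex y, Set.mem_range, Set.mem_range]
                     exact ⟨fun ⟨l, hl⟩ => ⟨⟨y, l, hl⟩, rfl⟩, fun ⟨⟨_, l, hl⟩, he⟩ => ⟨l, hl.trans he⟩⟩) B
    rw [← LinearMap.subtype_comp_codRestrict v (LinearMap.range v) (LinearMap.mem_range_self v),
      LinearMap.lTensor_comp, LinearMap.coe_comp]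
    refine hj.comp ((injective_iff_map_eq_zero _).mpr fun z hz => ?_)
    obtain ⟨w, rfl⟩ := (hv z).mp hz
    clear hz
    induction w using TensorProduct.induction_on with
    | zero => simp
    | tmul b k => exact hkv k.1 k.2 b
    | add x y hx hy => rw [map_add, hx, hy, add_zero]

/-- Over a point and the closed point of a test ring there are points. -/
theorem exists_point_over {A A' D : Type u} [CommRing A] [IsLocalRing A] [CommRing A'] [IsLocalRing A']
    [Algebra A A'] [IsLocalHom (algebraMap A A')] [CommRing D] [Algebra A D] (y : Ideal D) [y.IsPrime]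
    [y.LiesOver (maximalIdeal A)] :
    ∃ Q : Ideal (A' ⊗[A] D), Q.IsPrime ∧ Q.comap (algebraMap D (A' ⊗[A] D)) = y ∧
      Q.comap (algebraMap A' (A' ⊗[A] D)) = maximalIdeal A' := by
  haveI : (maximalIdeal A').LiesOver (maximalIdeal A) := ⟨(IsLocalRing.maximalIdeal_comap (algebraMap A A')).symm⟩
  let κ := (maximalIdeal A).ResidueField
  let κ' := (maximalIdeal A').ResidueField
  let κy := y.ResidueField
  letI : Algebra κ κ' := (residueMap A (maximalIdeal A) A' (maximalIdeal A')).toRingHom.toAlgebra
  letI : Algebra κ κy := (residueMap A (maximalIdeal A) D y).toRingHom.toAlgebra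
  haveI : IsScalarTower A κ κ' :=
    IsScalarTower.of_algebraMap_eq fun a => ((residueMap A (maximalIdeal A) A' (maximalIdeal A')).commutes a).symm
  haveI : IsScalarTower A κ κy :=
    IsScalarTower.of_algebraMap_eq fun a => ((residueMap A (maximalIdeal A) D y).commutes a).symm
  let E := κ' ⊗[κ] κy
  haveI : Nontrivial E := Algebra.TensorProduct.nontrivial_of_algebraMap_injective_of_isDomain κ κ' κy
    (algebraMap κ κ').injective (algebraMap κ κy).injective
  let f₁ : A' →ₐ[A] E := ((Algebra.TensorProduct.includeLeft : κ' →ₐ[κ] E).restrictScalars A).comp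
    (IsScalarTower.toAlgHom A A' κ')
  let f₂ : D →ₐ[A] E := ((Algebra.TensorProduct.includeRight : κy →ₐ[κ] E).restrictScalars A).comp
    (IsScalarTower.toAlgHom A D κy)
  let F : A' ⊗[A] D →ₐ[A] E := Algebra.TensorProduct.lift f₁ f₂ fun _ _ => Commute.all _ _
  obtain ⟨M, hM⟩ := Ideal.exists_maximal E
  refine ⟨M.comap F.toRingHom, inferInstance, ?_, ?_⟩
  · rw [Ideal.comap_comap, show F.toRingHom.comp (algebraMap D (A' ⊗[A] D)) =
      (Algebra.TensorProduct.includeRight : κy →ₐ[κ] E).toRingHom.comp (algebraMap D κy) from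
      RingHom.ext fun d => by
        show F (1 ⊗ₜ d) = _
        simp [F, f₁, f₂]
        rfl, ← Ideal.comap_comap,
      (Ideal.eq_bot_or_top _).resolve_right (Ideal.comap_ne_top _ hM.ne_top)]
    ext d
    exact Ideal.mem_bot.trans Ideal.algebraMap_residueField_eq_zero
  · rw [Ideal.comap_comap, show F.toRingHom.comp (algebraMap A' (A' ⊗[A] D)) =
      (Algebra.TensorProduct.includeLeft : κ' →ₐ[κ] E).toRingHom.comp (algebraMap A' κ') from
      RingHom.ext fun a => by
        show F (a ⊗ₜ 1) = _
        simp [F, f₁, f₂]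
        rfl, ← Ideal.comap_comap,
      (Ideal.eq_bot_or_top _).resolve_right (Ideal.comap_ne_top _ hM.ne_top)]
    ext d
    exact Ideal.mem_bot.trans Ideal.algebraMap_residueField_eq_zero

/-- Elements outside the point act injectively on base changes of free modules. -/
theorem smul_injective {A D : Type u} [CommRing A] [IsLocalRing A] [CommRing D] [Algebra A D]
    [Algebra.Smooth A D] (hgi : FlatCA.GeomIrredFibres A D) (y : Ideal D) [y.IsPrime]
    [y.LiesOver (maximalIdeal A)] {r : ℕ} (Q : Type u) [AddCommGroup Q] [Module A Q]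
    (w : (Fin r → D) ⊗[A] Q) {s : D} (hs : s ∉ y) (h : s • w = 0) : w = 0 := by
  obtain ⟨t, ht, htw⟩ := FiberBasis.exists_smul_eq_zero (DevissageChain.geomIntegralFibres hgi)
    (⊥ : Submonoid D) y.primeCompl (fun p hp _ _ _ => Set.disjoint_left.mpr fun x hx hxp => hx
      (Ideal.map_le_iff_le_comap.mpr ((IsLocalRing.le_maximalIdeal hp.ne_top).trans
        (y.over_def (maximalIdeal A)).le) hxp)) w s hs h
  rwa [Submonoid.mem_bot.mp ht, one_smul] at htw

/-- Injectivity of a map after tensoring may be tested on the localization at a point. -/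
theorem injective_comp_localized_iff {A D : Type u} [CommRing A] [IsLocalRing A] [CommRing D] [Algebra A D]
    [Algebra.Smooth A D] (hgi : FlatCA.GeomIrredFibres A D) (y : Ideal D) [y.IsPrime]
    [y.LiesOver (maximalIdeal A)] {r : ℕ} {G Y : Type u} [AddCommGroup G] [Module D G] [Module A G]
    [IsScalarTower A D G] [AddCommGroup Y] [Module D Y] [Module A Y] [IsScalarTower A D Y]
    (mk : G →ₗ[D] Y) [IsLocalizedModule y.primeCompl mk] (α : (Fin r → D) →ₗ[D] G)
    (A' : Type u) [CommRing A'] [Algebra A A'] :
    Function.Injective (((mk ∘ₗ α).restrictScalars A).baseChange A') ↔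
      Function.Injective ((α.restrictScalars A).baseChange A') := by
  rw [show (mk ∘ₗ α).restrictScalars A = mk.restrictScalars A ∘ₗ α.restrictScalars A from rfl,
    LinearMap.baseChange_comp]
  refine ⟨fun h => Function.Injective.of_comp (f := (mk.restrictScalars A).baseChange A')
    (by rw [← LinearMap.coe_comp]; exact h), fun h => ?_⟩
  simp only [LinearMap.coe_comp, LinearMap.baseChange_eq_ltensor] at h ⊢
  rw [LinearMap.lTensor_inj_iff_rTensor_inj] at h
  rw [← LinearMap.coe_comp, ← LinearMap.lTensor_comp, LinearMap.lTensor_inj_iff_rTensor_inj,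
    LinearMap.rTensor_comp, injective_iff_map_eq_zero]
  intro w hw
  obtain ⟨s, hs⟩ := (IsLocalizedModule.eq_zero_iff y.primeCompl (AlgebraTensorModule.rTensor A A' mk)).mp hw
  refine smul_injective hgi y A' w s.2 ?_
  have h1 : AlgebraTensorModule.rTensor A A' α ((s : D) • w) = 0 := by
    rw [map_smul]
    exact hs
  exact h (h1.trans (map_zero _).symm)

/-- Injectivity of the base change of a map of modules over an algebra, read over the base. -/
theorem injective_baseChange_tensor_iff {A D : Type u} [CommRing A] [CommRing D] [Algebra A D]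
    {P G : Type u} [AddCommGroup P] [Module D P] [Module A P] [IsScalarTower A D P]
    [AddCommGroup G] [Module D G] [Module A G] [IsScalarTower A D G] (α : P →ₗ[D] G)
    (A' : Type u) [CommRing A'] [Algebra A A'] :
    Function.Injective (α.baseChange (A' ⊗[A] D)) ↔
      Function.Injective ((α.restrictScalars A).baseChange A') := by
  let eP := Algebra.IsPushout.cancelBaseChange A A' D (A' ⊗[A] D) P
  let eG := Algebra.IsPushout.cancelBaseChange A A' D (A' ⊗[A] D) G
  have key : ∀ z, eG.symm ((α.restrictScalars A).baseChange A' z) =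
      α.baseChange (A' ⊗[A] D) (eP.symm z) := by
    intro z
    induction z using TensorProduct.induction_on with
    | zero => simp
    | tmul a x => simp [eP, eG, Algebra.IsPushout.cancelBaseChange_symm_tmul]
    | add x y hx hy => simp only [map_add, hx, hy]
  have hfun : (eG.symm : _ → _) ∘ ((α.restrictScalars A).baseChange A') =
      (α.baseChange (A' ⊗[A] D)) ∘ eP.symm := funext key
  exact ⟨fun h => (eG.symm.injective.of_comp_iff _).mp (hfun ▸ h.comp eP.symm.injective),
    fun h => (Function.Injective.of_comp_iff' _ eP.symm.bijective).mp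
      (hfun ▸ eG.symm.injective.comp h)⟩

/-- One step: flatness of the module at all points is flatness of the cokernel and injectivity. -/
theorem allFlat_step {A D : Type u} [CommRing A] [IsLocalRing A] [CommRing D] [Algebra A D]
    [Algebra.Smooth A D] (hgi : FlatCA.GeomIrredFibres A D) (y : Ideal D) [y.IsPrime]
    [y.LiesOver (maximalIdeal A)] (G : Type u) [AddCommGroup G] [Module D G] [Module A G]
    [IsScalarTower A D G] [Module.Finite D G] [((maximalIdeal A).map (algebraMap A D)).IsPrime]
    (r : ℕ) (α : (Fin r → D) →ₗ[D] G)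
    (hα : Function.Bijective (α.baseChange ((maximalIdeal A).map (algebraMap A D)).ResidueField))
    (A' : Type u) [CommRing A'] [IsLocalRing A'] [Algebra A A'] [IsLocalHom (algebraMap A A')] :
    AllFlat A A' y G ↔ AllFlat A A' y (G ⧸ LinearMap.range α) ∧
      Function.Injective ((α.restrictScalars A).baseChange A') := by
  haveI : (maximalIdeal A').LiesOver (maximalIdeal A) := ⟨(IsLocalRing.maximalIdeal_comap (algebraMap A A')).symm⟩
  let T := A' ⊗[A] D
  haveI : Algebra.Smooth A' T := inferInstance
  haveI : Algebra.IsPushout A A' D T := inferInstance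
  have hgi' : FlatCA.GeomIrredFibres A' T := geomIrredFibres_baseChange A A' D T hgi
  haveI : ((maximalIdeal A').map (algebraMap A' T)).IsPrime := isPrime_map A' T _ hgi'
  haveI := map_liesOver_map (B := D) (B' := T) (maximalIdeal A) (maximalIdeal A')
  let g : G →ₗ[D] T ⊗[D] G := TensorProduct.mk D T G 1
  have hg : IsBaseChange T g := TensorProduct.isBaseChange D G T
  let α' : (Fin r → T) →ₗ[T] T ⊗[D] G := baseChangeFree r α g (B' := T)
  have hα' := bijective_baseChangeFree r α hg ((maximalIdeal A).map (algebraMap A D))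
    ((maximalIdeal A').map (algebraMap A' T)) hα
  have heq : α' ∘ₗ (TensorProduct.piScalarRight D T T (Fin r)).toLinearMap = α.baseChange T := by
    refine ((Pi.basisFun D (Fin r)).baseChange T).ext fun j => ?_
    have hj : (fun i => (Pi.single j (1 : D) : Fin r → D) i • (1 : T)) = Pi.single j 1 := by
      funext i
      by_cases h : i = j <;> simp [h, Pi.single_apply]
    simp [α', baseChangeFree, g, hj, Module.Basis.constr_apply_fintype, Pi.single_apply]
  have hinj : Function.Injective α' ↔ Function.Injective ((α.restrictScalars A).baseChange A') := by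
    rw [← injective_baseChange_tensor_iff α A', ← heq, LinearMap.coe_comp, LinearEquiv.coe_coe]
    exact (Function.Injective.of_comp_iff' _ (LinearEquiv.bijective _)).symm
  obtain ⟨e⟩ := nonempty_coker_equiv hg (TensorProduct.isBaseChange D (G ⧸ LinearMap.range α) T)
    (LinearMap.range α) (LinearEquiv.refl D _) (LinearMap.range α') (range_baseChangeFree r α)
  have hpt : ∀ (Q : Ideal T) [Q.IsPrime], Q.comap (algebraMap A' T) = maximalIdeal A' →
      (FlatCA.FlatAt A' Q (T ⊗[D] G) ↔
        Function.Injective α' ∧ FlatCA.FlatAt A' Q (T ⊗[D] (G ⧸ LinearMap.range α))) := by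
    intro Q _ hQ
    haveI : Q.LiesOver (maximalIdeal A') := ⟨hQ.symm⟩
    exact (((Groth.Agent.S1204.result (R := A') (S := T)
      (DevissageChain.geomIntegralFibres hgi') Q (T ⊗[D] G)).2 r α' hα').out 0 2).trans
      (and_congr_right fun _ => ⟨DevissageChain.flatAt_congr Q e, DevissageChain.flatAt_congr Q e.symm⟩)
  constructor
  · intro h
    refine ⟨fun Q _ h1 h2 => ((hpt Q h2).mp (h Q h1 h2)).2, ?_⟩
    obtain ⟨Q, hQ, h1, h2⟩ := exists_point_over (A := A) (A' := A') y
    haveI := hQ
    exact hinj.mp ((hpt Q h2).mp (h Q h1 h2)).1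
  · exact fun h Q _ h1 h2 => (hpt Q h2).mpr ⟨hinj.mpr h.2, h.1 Q h1 h2⟩

/-- Flatness at all points over a quotient of the base gives flatness of the localization. -/
theorem flat_tensor_localized {A D : Type u} [CommRing A] [CommRing D] [Algebra A D] (A₁ : Type u)
    [CommRing A₁] [IsLocalRing A₁] [Algebra A A₁] (hs : Function.Surjective (algebraMap A A₁))
    (y : Ideal D) [y.IsPrime] (Q₁ : Ideal (A₁ ⊗[A] D)) [Q₁.IsPrime]
    (hQy : Q₁.comap (algebraMap D (A₁ ⊗[A] D)) = y)
    (X Xy : Type u) [AddCommGroup X] [Module D X] [AddCommGroup Xy] [Module D Xy] [Module A Xy]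
    [IsScalarTower A D Xy] (mk : X →ₗ[D] Xy) [IsLocalizedModule y.primeCompl mk]
    (h : FlatCA.FlatAt A₁ Q₁ ((A₁ ⊗[A] D) ⊗[D] X)) : Module.Flat A₁ (A₁ ⊗[A] Xy) := by
  let T := A₁ ⊗[A] D
  have hsurj : Function.Surjective (algebraMap D T) := by
    intro t
    induction t using TensorProduct.induction_on with
    | zero => exact ⟨0, map_zero _⟩
    | tmul a d =>
      obtain ⟨a, rfl⟩ := hs a
      refine ⟨a • d, ?_⟩
      show (1 : A₁) ⊗ₜ[A] (a • d) = _
      rw [← smul_tmul, Algebra.algebraMap_eq_smul_one]
    | add a b ha hb =>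
      obtain ⟨x, hx⟩ := ha
      obtain ⟨z, hz⟩ := hb
      exact ⟨x + z, by rw [map_add, hx, hz]⟩
  let F := AlgebraTensorModule.rTensor D T mk
  haveI : IsLocalizedModule y.primeCompl (F.restrictScalars D) :=
    (inferInstance : IsLocalizedModule y.primeCompl F)
  let loc : T ⊗[D] X →ₗ[D] T ⊗[D] Xy :=
    (TensorProduct.comm D Xy T).toLinearMap ∘ₗ
      (F.restrictScalars D ∘ₗ (TensorProduct.comm D T X).toLinearMap)
  haveI : IsLocalizedModule y.primeCompl loc := by
    haveI := IsLocalizedModule.of_linearEquiv_right y.primeCompl (F.restrictScalars D)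
      (TensorProduct.comm D T X)
    exact IsLocalizedModule.of_linearEquiv y.primeCompl _ (TensorProduct.comm D Xy T)
  let θ := LocalizedModule.mkLinearMap Q₁.primeCompl (T ⊗[D] X)
  haveI : IsLocalizedModule y.primeCompl (θ.restrictScalars D) :=
    DevissageFP.isLocalizedModule_comap (S := D) (C := T) (G := T ⊗[D] X)
      (X := LocalizedModule Q₁.primeCompl (T ⊗[D] X)) y.primeCompl Q₁.primeCompl
      (fun t ht hm => ht (hQy ▸ hm)) (fun c hc => by
        obtain ⟨d, rfl⟩ := hsurj c
        exact ⟨d, fun hd => hc (Ideal.mem_comap.mp (hQy.symm ▸ hd)), dvd_rfl⟩) θ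
  haveI : Module.Flat A₁ (LocalizedModule Q₁.primeCompl (T ⊗[D] X)) := h
  let e := IsLocalizedModule.linearEquiv y.primeCompl loc (θ.restrictScalars D)
  let eT : T ⊗[D] Xy ≃ₗ[T] LocalizedModule Q₁.primeCompl (T ⊗[D] X) :=
    { e with
      map_smul' := fun t z => by
        obtain ⟨d, rfl⟩ := hsurj t
        show e (algebraMap D T d • z) = algebraMap D T d • e z
        rw [algebraMap_smul, algebraMap_smul, map_smul] }
  haveI : Module.Flat A₁ (T ⊗[D] Xy) := Module.Flat.of_linearEquiv (eT.restrictScalars A₁)
  exact Module.Flat.of_linearEquiv (Algebra.IsPushout.cancelBaseChange A A₁ D T Xy).symm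

end Groth.Agent.H7Flat.Chain
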