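import Groth.Agent.H7Flat.Chain.OpenFreeMain
import Groth.Agent.H9Hens.LocalHens
import Mathlib

/-!
# Finite flat modules over a henselian local base are Mittag-Leffler
-/

set_option autoImplicit false
set_option linter.style.haveILetI false
set_option backward.isDefEq.respectTransparency false
set_option maxHeartbeats 1000000

universe u

open TensorProduct

namespace Groth.Agent.H7Flat.Chain

/-- An intermediate localization does not change a further localization. -/
theorem exists_equiv_localizedModule {S N W L : Type u} [CommRing S] [AddCommGroup N] [Module S N]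
    [AddCommGroup W] [Module S W] [AddCommGroup L] [Module S L] (G : Submonoid S) (ι : N →ₗ[S] W)
    (θ : W →ₗ[S] L) [IsLocalizedModule G θ]
    (hspan : ∀ w : W, ∃ s ∈ G, ∃ n : N, s • w = ι n) (hker : ∀ n : N, ι n = 0 → ∃ s ∈ G, s • n = 0) :
    IsLocalizedModule G (θ ∘ₗ ι) where
  map_units := IsLocalizedModule.map_units θ
  surj y := by
    obtain ⟨⟨w, s⟩, hw⟩ := IsLocalizedModule.surj G θ y
    obtain ⟨t, ht, n, hn⟩ := hspan w
    refine ⟨⟨n, ⟨t, ht⟩ * s⟩, ?_⟩
    rw [mul_smul, hw, LinearMap.comp_apply, ← hn, map_smul]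
    rfl
  exists_of_eq {x₁ x₂} h := by
    have h0 : θ (ι (x₁ - x₂)) = 0 := by
      rw [map_sub, map_sub, sub_eq_zero]
      exact h
    obtain ⟨s, hs⟩ := (IsLocalizedModule.eq_zero_iff G θ).mp h0
    change (s : S) • ι (x₁ - x₂) = 0 at hs
    rw [← map_smul] at hs
    obtain ⟨t, ht, htn⟩ := hker _ hs
    refine ⟨⟨t, ht⟩ * s, ?_⟩
    show (t * (s : S)) • x₁ = (t * (s : S)) • x₂
    rw [← sub_eq_zero, ← smul_sub, mul_smul]
    exact htn

/-- A localization at elements acting universally injectively preserves the Mittag-Leffler property. -/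
theorem isMittagLeffler_localized {A S P W : Type u} [CommRing A] [CommRing S] [Algebra A S]
    [AddCommGroup P] [Module S P] [Module A P] [IsScalarTower A S P] [AddCommGroup W] [Module S W]
    [Module A W] [IsScalarTower A S W] (G : Submonoid S) (mk : P →ₗ[S] W) [IsLocalizedModule G mk]
    (hg : ∀ s ∈ G, FlatCA.UnivInj A ((LinearMap.lsmul S P s).restrictScalars A))
    (hP : CAlg.IsMittagLeffler A P) : CAlg.IsMittagLeffler A W := by
  have hinj : ∀ (Q : Type u) [AddCommGroup Q] [Module A Q] (z : P ⊗[A] Q),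
      AlgebraTensorModule.rTensor A Q mk z = 0 → z = 0 := by
    intro Q _ _ z hz
    obtain ⟨⟨s, hs⟩, hk⟩ := (IsLocalizedModule.eq_zero_iff G (AlgebraTensorModule.rTensor A Q mk)).mp hz
    have h1 := hg s hs Q
    rw [LinearMap.lTensor_inj_iff_rTensor_inj] at h1
    change s • z = 0 at hk
    refine h1 ?_
    rw [map_zero, ← hk]
    clear hk hz
    induction z using TensorProduct.induction_on with
    | zero => simp
    | tmul a b => rfl
    | add a b ha hb => simp only [map_add, smul_add, ha, hb]
  intro ι Q _ _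
  rw [injective_iff_map_eq_zero]
  intro x hx
  obtain ⟨⟨y, ⟨s, hs⟩⟩, hy⟩ := IsLocalizedModule.surj G
    (AlgebraTensorModule.rTensor A (∀ i, Q i) mk) x
  change s • x = AlgebraTensorModule.rTensor A (∀ i, Q i) mk y at hy
  have hnat : ∀ (w : P ⊗[A] ∀ i, Q i) (i : ι),
      TensorProduct.piRightHom A A W Q (AlgebraTensorModule.rTensor A (∀ i, Q i) mk w) i =
        AlgebraTensorModule.rTensor A (Q i) mk (TensorProduct.piRightHom A A P Q w i) := by
    intro w i
    induction w using TensorProduct.induction_on with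
    | zero => simp
    | tmul a b => simp
    | add a b ha hb => simp only [map_add, Pi.add_apply, ha, hb]
  have hsmul : ∀ (w : W ⊗[A] ∀ i, Q i) (i : ι),
      TensorProduct.piRightHom A A W Q (s • w) i = s • TensorProduct.piRightHom A A W Q w i := by
    intro w i
    induction w using TensorProduct.induction_on with
    | zero => simp
    | tmul a b => simp [TensorProduct.smul_tmul']
    | add a b ha hb => simp [smul_add, map_add, ha, hb]
  have hy0 : y = 0 := by
    apply hP ι Q
    rw [map_zero]
    funext i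
    apply hinj
    rw [← hnat, ← hy, hsmul, hx]
    exact smul_zero _
  rw [hy0, map_zero] at hy
  exact ((Module.End.isUnit_iff _).mp (IsLocalizedModule.map_units
    (AlgebraTensorModule.rTensor A (∀ i, Q i) mk) (⟨s, hs⟩ : G))).injective
    (hy.trans (smul_zero s).symm)

/-- A finite module killed by an ideal with noetherian quotient ring is noetherian. -/
theorem isNoetherian_of_annihilated {S M : Type u} [CommRing S] [AddCommGroup M] [Module S M]
    [Module.Finite S M] (I : Ideal S) [IsNoetherianRing (S ⧸ I)] (h : ∀ s ∈ I, ∀ m : M, s • m = 0) :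
    IsNoetherian S M := by
  haveI : IsNoetherian S (S ⧸ I) := isNoetherian_def.mpr fun N => by
    let J : Submodule (S ⧸ I) (S ⧸ I) :=
      { N.toAddSubmonoid with
        smul_mem' := fun c x hx => by
          obtain ⟨c, rfl⟩ := Ideal.Quotient.mk_surjective c
          exact N.smul_mem c hx }
    obtain ⟨t, ht⟩ := (IsNoetherian.noetherian J)
    refine ⟨t, ?_⟩
    rw [← Submodule.restrictScalars_span S (S ⧸ I) Ideal.Quotient.mk_surjective, ht]
    ext x
    rfl
  obtain ⟨n, π, hπ⟩ := Module.Finite.exists_fin' S M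
  have hle : Submodule.pi Set.univ (fun _ : Fin n => (I : Submodule S S)) ≤ LinearMap.ker π := fun x hx => by
    rw [LinearMap.mem_ker, pi_eq_sum_univ x, map_sum]
    refine Finset.sum_eq_zero fun i _ => ?_
    rw [map_smul]
    exact h _ (hx i trivial) _
  let e : ((Fin n → S) ⧸ Submodule.pi Set.univ (fun _ : Fin n => (I : Submodule S S))) ≃ₗ[S]
      (Fin n → S ⧸ I) := Submodule.quotientPi _
  let g : (Fin n → S ⧸ I) →ₗ[S] M := (Submodule.liftQ _ π hle) ∘ₗ e.symm.toLinearMap
  refine isNoetherian_of_surjective g (LinearMap.range_eq_top.mpr fun m => ?_)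
  obtain ⟨x, rfl⟩ := hπ m
  exact ⟨e (Submodule.Quotient.mk x), by simp [g]⟩

/-- The closed fibre module becomes torsion free outside a prime after inverting one element. -/
theorem exists_kill_torsion {A S : Type u} [CommRing A] [IsLocalRing A] [CommRing S] [Algebra A S]
    [Algebra.FiniteType A S] (N : Type u) [AddCommGroup N] [Module S N] [Module A N] [IsScalarTower A S N]
    [Module.Finite S N] (q : Ideal S) [q.IsPrime] :
    ∃ h ∉ q, ∀ z : N ⊗[A] (A ⧸ IsLocalRing.maximalIdeal A), (∃ s ∉ q, s • z = 0) → h • z = 0 := by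
  classical
  let κ := A ⧸ IsLocalRing.maximalIdeal A
  let M := N ⊗[A] κ
  haveI : Module.Finite S M := by
    refine Module.Finite.of_surjective ((AlgebraTensorModule.mk A S N κ).flip 1) fun z => ?_
    induction z using TensorProduct.induction_on with
    | zero => exact ⟨0, map_zero _⟩
    | tmul n c =>
      obtain ⟨a, rfl⟩ := Ideal.Quotient.mk_surjective c
      refine ⟨a • n, ?_⟩
      show (a • n) ⊗ₜ[A] (1 : κ) = n ⊗ₜ[A] _
      rw [TensorProduct.smul_tmul]
      congr 1
      rw [Algebra.smul_def, mul_one]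
      rfl
    | add x y hx hy =>
      obtain ⟨x, rfl⟩ := hx
      obtain ⟨y, rfl⟩ := hy
      exact ⟨x + y, map_add _ _ _⟩
  let I : Ideal S := (IsLocalRing.maximalIdeal A).map (algebraMap A S)
  haveI : IsNoetherianRing (S ⧸ I) := by
    letI := Ideal.Quotient.field (IsLocalRing.maximalIdeal A)
    haveI : Algebra.FiniteType κ (S ⧸ I) := by
      haveI : Algebra.FiniteType A (S ⧸ I) := Algebra.FiniteType.trans ‹Algebra.FiniteType A S› inferInstance
      exact Algebra.FiniteType.of_restrictScalars_finiteType A κ (S ⧸ I)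
    exact Algebra.FiniteType.isNoetherianRing κ (S ⧸ I)
  haveI : IsNoetherian S M := isNoetherian_of_annihilated I fun s hs m => by
    refine Submodule.span_induction (fun x hx => ?_) (zero_smul S m) (fun a b _ _ ha hb => ?_)
      (fun c x _ hx => ?_) hs
    · obtain ⟨a, ha, rfl⟩ := hx
      induction m using TensorProduct.induction_on with
      | zero => exact smul_zero _
      | tmul n c =>
        rw [TensorProduct.smul_tmul', algebraMap_smul, TensorProduct.smul_tmul, Algebra.smul_def,
          show algebraMap A κ a = 0 from Ideal.Quotient.eq_zero_iff_mem.mpr ha, zero_mul,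
          TensorProduct.tmul_zero]
      | add x y hx hy => rw [smul_add, hx, hy, add_zero]
    · rw [add_smul, ha, hb, add_zero]
    · rw [smul_eq_mul, mul_smul, hx, smul_zero]
  let tor : Submodule S M :=
    { carrier := {z | ∃ s ∉ q, s • z = 0}
      zero_mem' := ⟨1, (Ideal.ne_top_iff_one q).mp Ideal.IsPrime.ne_top', smul_zero _⟩
      add_mem' := fun {x y} ⟨s, hs, hx⟩ ⟨t, ht, hy⟩ => ⟨s * t, q.primeCompl.mul_mem hs ht, by
        rw [smul_add, mul_comm, mul_smul, hx, smul_zero, mul_comm, mul_smul, hy, smul_zero, add_zero]⟩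
      smul_mem' := fun c x ⟨s, hs, hx⟩ => ⟨s, hs, by rw [smul_comm, hx, smul_zero]⟩ }
  obtain ⟨t, ht⟩ := IsNoetherian.noetherian tor
  choose σ hσ hσz using fun z : t => show ∃ s ∉ q, s • (z : M) = 0 from
    (show (z : M) ∈ tor from ht ▸ Submodule.subset_span z.2)
  refine ⟨∏ z, σ z, fun hmem => ?_, fun z hz => ?_⟩
  · obtain ⟨z, -, hz⟩ := (Ideal.IsPrime.prod_mem_iff).mp hmem
    exact hσ z hz
  · have hzt : z ∈ tor := hz
    rw [← ht] at hzt
    refine Submodule.span_induction (fun x hx => ?_) (smul_zero _) (fun a b _ _ ha hb => ?_)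
      (fun c x _ hx => ?_) hzt
    · rw [← Finset.prod_erase_mul _ _ (Finset.mem_univ (⟨x, hx⟩ : t)), mul_smul, hσz ⟨x, hx⟩, smul_zero]
    · rw [smul_add, ha, hb, add_zero]
    · rw [smul_comm, hx, smul_zero]

end Groth.Agent.H7Flat.Chain
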