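import Groth.Agent.H7Flat.Chain.HenselMLMain
import Groth.Agent.H1CAlg.MittagLeffler
import Mathlib

/-!
# Finite flat modules over a henselian local base are Mittag-Leffler
-/

set_option autoImplicit false
set_option linter.style.haveILetI false
set_option backward.isDefEq.respectTransparency false
set_option maxHeartbeats 1000000

universe u

open TensorProduct Groth.Agent.H8Props.Devissage

namespace Groth.Agent.H7Flat.Chain

/-- The localization at an outside element is torsion free where the torsion was killed by it. -/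
theorem torsionFree_localized {S X Y : Type u} [CommRing S] [AddCommGroup X] [Module S X]
    [AddCommGroup Y] [Module S Y] (G : Submonoid S) {h : S} (hh : h ∈ G)
    (mk : X →ₗ[S] Y) [IsLocalizedModule (Submonoid.powers h) mk]
    (hkill : ∀ x : X, (∃ s ∈ G, s • x = 0) → h • x = 0) :
    ∀ y : Y, ∀ s ∈ G, s • y = 0 → y = 0 := by
  intro y s hs hy
  obtain ⟨⟨x, ⟨_, k, rfl⟩⟩, hx⟩ := IsLocalizedModule.surj (Submonoid.powers h) mk y
  change h ^ k • y = mk x at hx
  have h1 : mk (s • x) = 0 := by rw [map_smul, ← hx, smul_comm, hy, smul_zero]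
  obtain ⟨⟨_, j, rfl⟩, hj⟩ := (IsLocalizedModule.eq_zero_iff (Submonoid.powers h) mk).mp h1
  change h ^ j • s • x = 0 at hj
  have h2 := hkill x ⟨h ^ j * s, G.mul_mem (pow_mem hh j) hs, by rw [mul_smul]; exact hj⟩
  have hu : ∀ m : ℕ, Function.Injective fun z : Y => h ^ m • z := fun m =>
    ((Module.End.isUnit_iff _).mp (IsLocalizedModule.map_units mk
      (⟨h ^ m, m, rfl⟩ : Submonoid.powers h))).injective
  apply hu k
  show h ^ k • y = h ^ k • (0 : Y)
  rw [smul_zero, hx]
  apply hu 1
  show h ^ 1 • mk x = h ^ 1 • (0 : Y)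
  rw [pow_one, smul_zero, ← map_smul, h2, map_zero]

/-- Torsion freeness with respect to elements of the base survives localization. -/
theorem torsionFree_localized' {S T X Y : Type u} [CommRing S] [CommRing T] [Algebra S T]
    [AddCommGroup X] [Module S X] [Module T X] [IsScalarTower S T X] [AddCommGroup Y] [Module S Y]
    [Module T Y] [IsScalarTower S T Y] (G : Submonoid T) (mk : X →ₗ[T] Y) [IsLocalizedModule G mk]
    (s : S) (hX : ∀ x : X, s • x = 0 → x = 0) : ∀ y : Y, s • y = 0 → y = 0 := by
  intro y hy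
  obtain ⟨⟨x, g⟩, hx⟩ := IsLocalizedModule.surj G mk y
  change (g : T) • y = mk x at hx
  have h1 : mk (s • x) = 0 := by
    rw [LinearMap.map_smul_of_tower mk, ← hx, smul_comm, hy, smul_zero]
  obtain ⟨g', hg'⟩ := (IsLocalizedModule.eq_zero_iff G mk).mp h1
  change (g' : T) • s • x = 0 at hg'
  rw [smul_comm] at hg'
  have h2 : mk ((g' : T) • x) = 0 := by rw [hX _ hg', map_zero]
  rw [map_smul] at h2
  have h3 := ((Module.End.isUnit_iff _).mp (IsLocalizedModule.map_units mk g')).injective
    (a₁ := mk x) (a₂ := 0) (h2.trans (smul_zero _).symm)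
  exact ((Module.End.isUnit_iff _).mp (IsLocalizedModule.map_units mk g)).injective
    (show (g : T) • y = (g : T) • (0 : Y) by rw [hx, h3, smul_zero])

/-- A finite module over a local algebra essentially of finite type over a henselian local ring,
flat over the base, is Mittag-Leffler over it: model form. -/
theorem isMittagLeffler_of_model {A S : Type u} [CommRing A] [HenselianLocalRing A] [CommRing S]
    [Algebra A S] [Algebra.FiniteType A S] (q : Ideal S) [q.IsPrime]
    [q.LiesOver (IsLocalRing.maximalIdeal A)] (N₀ N : Type u) [AddCommGroup N₀] [Module S N₀]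
    [Module A N₀] [IsScalarTower A S N₀] [Module.Finite S N₀] [AddCommGroup N] [Module S N] [Module A N]
    [IsScalarTower A S N] (φ : N₀ →ₗ[S] N) [IsLocalizedModule q.primeCompl φ] [Module.Flat A N] :
    CAlg.IsMittagLeffler A N := by
  obtain ⟨h, hh, hkill⟩ := exists_kill_torsion (A := A) N₀ q
  let S₁ := Localization.Away h
  let N₁ := LocalizedModule (Submonoid.powers h) N₀
  let ι₁ : N₀ →ₗ[S] N₁ := LocalizedModule.mkLinearMap (Submonoid.powers h) N₀
  let q₁ : Ideal S₁ := q.map (algebraMap S S₁)
  haveI : q₁.IsPrime := isPrime_map_away h q hh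
  haveI : q₁.LiesOver q := liesOver_map_away h q hh
  haveI : q₁.LiesOver (IsLocalRing.maximalIdeal A) := Ideal.LiesOver.trans q₁ q _
  haveI : Algebra.FinitePresentation S S₁ := IsLocalization.Away.finitePresentation h
  haveI : Algebra.FiniteType A S₁ := Algebra.FiniteType.trans ‹Algebra.FiniteType A S› inferInstance
  have hnot : ∀ t : S₁, t ∉ q₁ → ∃ s ∉ q, ∃ k : ℕ, algebraMap S S₁ s = algebraMap S S₁ (h ^ k) * t := by
    intro t ht
    obtain ⟨⟨s, ⟨_, k, rfl⟩⟩, hs⟩ := IsLocalization.surj (Submonoid.powers h) t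
    refine ⟨s, fun hsq => ?_, k, by rw [← hs, mul_comm]⟩
    have : t * algebraMap S S₁ (h ^ k) ∈ q₁ := hs ▸ Ideal.mem_map_of_mem _ hsq
    refine (Ideal.IsPrime.mem_or_mem inferInstance this).elim ht fun hm => hh ?_
    exact Ideal.IsPrime.mem_of_pow_mem inferInstance k ((SetLike.ext_iff.mp (q₁.over_def q) (h ^ k)).mpr hm)
  have hspan₁ : ∀ w : N₁, ∃ s ∈ q.primeCompl, ∃ n, s • w = ι₁ n := fun w => by
    obtain ⟨⟨n, ⟨_, k, rfl⟩⟩, hn⟩ := IsLocalizedModule.surj (Submonoid.powers h) ι₁ w
    exact ⟨h ^ k, q.primeCompl.pow_mem hh k, n, hn⟩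
  have hker₁ : ∀ n, ι₁ n = 0 → ∃ s ∈ q.primeCompl, s • n = 0 := fun n hn => by
    obtain ⟨⟨_, k, rfl⟩, hk⟩ := (IsLocalizedModule.eq_zero_iff (Submonoid.powers h) ι₁).mp hn
    exact ⟨h ^ k, q.primeCompl.pow_mem hh k, hk⟩
  haveI : Module.Finite S₁ N₁ := Module.Finite.of_isLocalizedModule (Submonoid.powers h) ι₁
  -- flatness at the point
  have hflat : FlatCA.FlatAt A q₁ N₁ := by
    let θ : N₁ →ₗ[S] LocalizedModule q₁.primeCompl N₁ :=
      (LocalizedModule.mkLinearMap q₁.primeCompl N₁).restrictScalars S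
    haveI : IsLocalizedModule q.primeCompl θ :=
      { map_units := fun s => by
          have hs : algebraMap S S₁ s ∉ q₁ := fun hm => s.2 ((SetLike.ext_iff.mp (q₁.over_def q) (s : S)).mpr hm)
          have hu := (Module.End.isUnit_iff _).mp (IsLocalizedModule.map_units
            (LocalizedModule.mkLinearMap q₁.primeCompl N₁) (⟨_, hs⟩ : q₁.primeCompl))
          refine (Module.End.isUnit_iff _).mpr ?_
          convert hu using 1
          funext z
          exact (algebraMap_smul S₁ (s : S) z).symm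
        surj := fun y => by
          obtain ⟨⟨w, t⟩, ht⟩ := IsLocalizedModule.surj q₁.primeCompl
            (LocalizedModule.mkLinearMap q₁.primeCompl N₁) y
          obtain ⟨s, hs, k, hsk⟩ := hnot t t.2
          refine ⟨⟨h ^ k • w, ⟨s, hs⟩⟩, ?_⟩
          show s • y = θ (h ^ k • w)
          rw [← algebraMap_smul S₁ s y, hsk, mul_smul, map_smul, algebraMap_smul]
          exact congrArg _ ht
        exists_of_eq := fun {a b} hab => by
          obtain ⟨t, ht⟩ := IsLocalizedModule.exists_of_eq (S := q₁.primeCompl)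
            (f := LocalizedModule.mkLinearMap q₁.primeCompl N₁) hab
          obtain ⟨s, hs, k, hsk⟩ := hnot t t.2
          refine ⟨⟨s, hs⟩, ?_⟩
          show s • a = s • b
          rw [← algebraMap_smul S₁ s a, ← algebraMap_smul S₁ s b, hsk, mul_smul, mul_smul]
          exact congrArg _ ht }
    haveI := exists_equiv_localizedModule q.primeCompl ι₁ θ hspan₁ hker₁
    exact Module.Flat.of_linearEquiv
      ((IsLocalizedModule.linearEquiv q.primeCompl (θ ∘ₗ ι₁) φ).restrictScalars A)
  obtain ⟨g, hg, hfree⟩ := exists_open_free_of_henselian N₁ q₁ hflat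
  haveI := hfree
  let W := LocalizedModule (Submonoid.powers g) N₁
  let ι₂ : N₁ →ₗ[S₁] W := LocalizedModule.mkLinearMap (Submonoid.powers g) N₁
  let ι : N₀ →ₗ[S] W := ι₂.restrictScalars S ∘ₗ ι₁
  obtain ⟨sg, hsg, kg, hsgk⟩ := hnot g hg
  have hspan : ∀ w : W, ∃ s ∈ q.primeCompl, ∃ n, s • w = ι n := fun w => by
    obtain ⟨⟨n₁, ⟨_, j, rfl⟩⟩, hj⟩ := IsLocalizedModule.surj (Submonoid.powers g) ι₂ w
    change g ^ j • w = ι₂ n₁ at hj
    obtain ⟨s, hs, n, hn⟩ := hspan₁ ((h ^ kg) ^ j • n₁)
    refine ⟨s * sg ^ j, q.primeCompl.mul_mem hs (q.primeCompl.pow_mem hsg j), n, ?_⟩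
    show _ = ι₂.restrictScalars S (ι₁ n)
    rw [← hn, map_smul, LinearMap.restrictScalars_apply, LinearMap.map_smul_of_tower ι₂, ← hj, mul_smul]
    congr 1
    rw [← algebraMap_smul S₁ (sg ^ j) w, map_pow, hsgk, mul_pow, mul_smul, ← map_pow, algebraMap_smul]
  have hker : ∀ n, ι n = 0 → ∃ s ∈ q.primeCompl, s • n = 0 := fun n hn => by
    obtain ⟨⟨_, j, rfl⟩, hj⟩ := (IsLocalizedModule.eq_zero_iff (Submonoid.powers g) ι₂).mp hn
    change g ^ j • ι₁ n = 0 at hj
    have h1 : sg ^ j • ι₁ n = 0 := by
      rw [← algebraMap_smul S₁ (sg ^ j) (ι₁ n), map_pow, hsgk, mul_pow, mul_smul, hj, smul_zero]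
    rw [← map_smul] at h1
    obtain ⟨s, hs, hsn⟩ := hker₁ _ h1
    exact ⟨s * sg ^ j, q.primeCompl.mul_mem hs (q.primeCompl.pow_mem hsg j), by rw [mul_smul, hsn]⟩
  -- the elements outside the prime act universally injectively
  have hui : ∀ s ∈ q.primeCompl, FlatCA.UnivInj A ((LinearMap.lsmul S W s).restrictScalars A) := by
    intro s hs
    refine univInj_lsmul s ?_
    let κ := A ⧸ IsLocalRing.maximalIdeal A
    rw [LinearMap.lTensor_inj_iff_rTensor_inj, injective_iff_map_eq_zero]
    intro z hz
    have hz' : s • z = 0 := by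
      rw [← hz]
      clear hz
      induction z using TensorProduct.induction_on with
      | zero => simp
      | tmul a b => rfl
      | add a b ha hb => simp only [map_add, smul_add, ha, hb]
    exact torsionFree_localized' (Submonoid.powers g) (AlgebraTensorModule.rTensor A κ ι₂) s
      (fun x hx => torsionFree_localized q.primeCompl hh (AlgebraTensorModule.rTensor A κ ι₁)
        hkill x s hs hx) z hz'
  let θ := LocalizedModule.mkLinearMap q.primeCompl W
  have hml : CAlg.IsMittagLeffler A (LocalizedModule q.primeCompl W) :=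
    isMittagLeffler_localized (A := A) q.primeCompl θ hui (isMittagLeffler_of_projective A W)
  haveI := exists_equiv_localizedModule (N := N₀) (W := W) (L := LocalizedModule q.primeCompl W) q.primeCompl ι θ hspan hker
  let e : N ≃ₗ[A] LocalizedModule q.primeCompl W :=
    (IsLocalizedModule.linearEquiv q.primeCompl φ (θ ∘ₗ ι)).restrictScalars A
  exact H1CAlg.isMittagLeffler_of_universallyInjective (R := A) (M₁ := N)
    (M₂ := LocalizedModule q.primeCompl W) e.toLinearMap (fun Q _ _ => (e.rTensor Q).injective) hml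

/-- A finite flat module over a local ring essentially of finite type over a henselian local ring is
Mittag-Leffler. -/
theorem isMittagLeffler_of_henselian {A B : Type u} [CommRing A] [HenselianLocalRing A] [CommRing B]
    [IsLocalRing B] [Algebra A B] [IsLocalHom (algebraMap A B)] [Algebra.EssFiniteType A B]
    (N : Type u) [AddCommGroup N] [Module B N] [Module A N] [IsScalarTower A B N] [Module.Finite B N]
    [Module.Flat A N] : CAlg.IsMittagLeffler A N := by
  classical
  let S := Algebra.EssFiniteType.subalgebra A B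
  let q : Ideal S := (IsLocalRing.maximalIdeal B).comap (algebraMap S B)
  haveI : q.LiesOver (IsLocalRing.maximalIdeal A) := ⟨by
    rw [Ideal.under_def, Ideal.comap_comap, ← IsScalarTower.algebraMap_eq]
    exact (IsLocalRing.maximalIdeal_comap (algebraMap A B)).symm⟩
  have hq : ∀ s : S, s ∈ q.primeCompl → IsUnit (algebraMap S B s) := fun s hs => by
    by_contra hu
    exact hs ((IsLocalRing.mem_maximalIdeal _).mpr hu)
  obtain ⟨t, ht⟩ := (Module.Finite.fg_top : (⊤ : Submodule B N).FG)
  let N₀ : Submodule S N := Submodule.span S (t : Set N)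
  haveI : Module.Finite S N₀ := Module.Finite.iff_fg.mpr ⟨t, rfl⟩
  haveI : IsLocalizedModule q.primeCompl N₀.subtype :=
    { map_units := fun s => by
        refine (Module.End.isUnit_iff _).mpr ?_
        have hu := hq s s.2
        refine Function.bijective_iff_has_inverse.mpr ⟨fun z => (hu.unit⁻¹ : Bˣ) • z, fun z => ?_, fun z => ?_⟩
        · show (hu.unit⁻¹ : Bˣ) • ((s : S) • z) = z
          rw [← algebraMap_smul B (s : S) z]
          exact inv_smul_smul hu.unit z
        · show (s : S) • ((hu.unit⁻¹ : Bˣ) • z) = z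
          rw [← algebraMap_smul B (s : S) ((hu.unit⁻¹ : Bˣ) • z)]
          exact smul_inv_smul hu.unit z
      surj := fun y => by
        have hy : y ∈ Submodule.span B (t : Set N) := ht ▸ Submodule.mem_top
        refine Submodule.span_induction (fun x hx => ⟨⟨⟨x, Submodule.subset_span hx⟩, 1⟩, one_smul _ _⟩)
          ⟨⟨0, 1⟩, by simp⟩ (fun a b _ _ ⟨⟨x, s⟩, hx⟩ ⟨⟨y, r⟩, hy⟩ => ⟨⟨(r : S) • x + (s : S) • y, s * r⟩, ?_⟩)
          (fun c a _ ⟨⟨x, s⟩, hx⟩ => ?_) hy
        · change (s : S) • a = x at hx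
          change (r : S) • b = y at hy
          show ((s : S) * r) • (a + b) = (r : S) • (x : N) + (s : S) • (y : N)
          rw [smul_add, ← hx, ← hy, ← mul_smul, ← mul_smul, mul_comm]
        · obtain ⟨⟨c', u⟩, hc⟩ := IsLocalization.surj (Algebra.EssFiniteType.submonoid A B) c
          have huq : (u : S) ∈ q.primeCompl := fun hm =>
            (IsLocalRing.mem_maximalIdeal _).mp hm (show IsUnit (algebraMap S B u) from u.2)
          refine ⟨⟨c' • x, ⟨u, huq⟩ * s⟩, ?_⟩
          change (s : S) • a = x at hx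
          show ((u : S) * s) • (c • a) = c' • (x : N)
          rw [← hx, mul_smul, smul_comm (s : S) c a, ← algebraMap_smul B (u : S), ← mul_smul, mul_comm, hc,
            algebraMap_smul]
      exists_of_eq := fun {a b} hab => ⟨1, by rw [Subtype.ext hab]⟩ }
  exact isMittagLeffler_of_model q N₀ N N₀.subtype

end Groth.Agent.H7Flat.Chain
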