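import Groth.Agent.H7Flat.GenericFreeness
import Groth.Agent.H7Flat.AssLocal
import Groth.Agent.H27Misc.FlatCokernel
import Groth.Agent.H7Flat.ImpurityStage
import Groth.Agent.H7Flat.ImpurityRebase
import Groth.Agent.H7Flat.ProjectivePure
import Groth.Agent.H8Props.Devissage.Points
import Groth.Agent.H3CAlg.PruferDimFn
import Mathlib

/-!
Over a noetherian base an impurity gives one whose base change is quasi-finite at the point.
-/

set_option autoImplicit false
set_option linter.style.haveILetI false
universe u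

namespace Groth.Agent.H7Flat.Chain

open TensorProduct FlatMor

attribute [local instance] Algebra.TensorProduct.rightAlgebra

set_option backward.isDefEq.respectTransparency false
set_option maxHeartbeats 1000000
set_option synthInstance.maxHeartbeats 400000

/-- In a noetherian local domain every nonzero element misses a prime of coheight one. -/
theorem exists_coheight_one_prime {E : Type u} [CommRing E] [IsDomain E] [IsNoetherianRing E] [IsLocalRing E]
    (g : E) (hg : g ≠ 0) (hgm : g ∈ IsLocalRing.maximalIdeal E) :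
    ∃ Q : Ideal E, Q.IsPrime ∧ g ∉ Q ∧
      ∀ R : Ideal E, R.IsPrime → Q ≤ R → R = Q ∨ R = IsLocalRing.maximalIdeal E := by
  classical
  obtain ⟨Q, ⟨hQ, hgQ⟩, hmax⟩ := (wellFounded_gt (α := Ideal E)).has_min
    {I : Ideal E | I.IsPrime ∧ g ∉ I} ⟨⊥, Ideal.isPrime_bot, by simpa using hg⟩
  refine ⟨Q, hQ, hgQ, fun R hR hQR => ?_⟩
  by_contra hne
  push Not at hne
  haveI := hQ
  have hlt : Q < R := lt_of_le_of_ne hQR (Ne.symm hne.1)
  have hgR : ∀ P : Ideal E, P.IsPrime → Q < P → g ∈ P := fun P hP hQP => by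
    by_contra hgP
    exact hmax P ⟨hP, hgP⟩ hQP
  let F := E ⧸ Q
  let π := Ideal.Quotient.mk Q
  haveI : IsDomain F := Ideal.Quotient.isDomain Q
  haveI : IsLocalRing F := IsLocalRing.of_surjective' π Ideal.Quotient.mk_surjective
  let G : F := π g
  let W := (Ideal.span {G}).minimalPrimes
  have hWfin : W.Finite := Ideal.finite_minimalPrimes_of_isNoetherianRing _ _
  have hker : ∀ P : Ideal F, Q ≤ P.comap π := fun P x hx => by
    rw [Ideal.mem_comap, Ideal.Quotient.eq_zero_iff_mem.mpr hx]; exact zero_mem _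
  have hG : ∀ P : Ideal F, P.IsPrime → P ≠ ⊥ → G ∈ P := fun P hP hP0 => by
    refine hgR (P.comap π) (Ideal.IsPrime.comap π) (lt_of_le_of_ne (hker P) fun he => hP0 ?_)
    rw [← Ideal.map_comap_of_surjective π Ideal.Quotient.mk_surjective P, ← he, Ideal.map_quotient_self]
  have hmR : IsLocalRing.maximalIdeal E ≠ R := Ne.symm hne.2
  have hR' : (R.map π).IsPrime := Ideal.map_isPrime_of_surjective Ideal.Quotient.mk_surjective (by
    rw [Ideal.mk_ker]; exact hQR)
  have hR0 : R.map π ≠ ⊥ := fun h0 => hlt.not_ge (by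
    rw [Ideal.map_eq_bot_iff_le_ker, Ideal.mk_ker] at h0
    exact h0)
  have hRm : ¬ IsLocalRing.maximalIdeal F ≤ R.map π := fun hle => hmR (le_antisymm (fun x hx => by
    have : π x ∈ R.map π := hle ((IsLocalRing.mem_maximalIdeal _).mpr fun hu => by
      haveI : IsLocalHom π := IsLocalHom.of_surjective π Ideal.Quotient.mk_surjective
      exact (IsLocalRing.mem_maximalIdeal _).mp hx (isUnit_of_map_unit π x hu))
    have h2 : x ∈ (R.map π).comap π := this
    rw [Ideal.comap_map_of_surjective π Ideal.Quotient.mk_surjective, ← RingHom.ker_eq_comap_bot,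
      Ideal.mk_ker, sup_eq_left.mpr hQR] at h2
    exact h2) (IsLocalRing.le_maximalIdeal hR.ne_top))
  -- the maximal ideal avoids the minimal primes of the element
  have hmW : ∀ P ∈ W, P.height ≤ 1 := fun P hP => Ideal.height_le_one_of_isPrincipal_of_mem_minimalPrimes _ P hP
  have hnm : IsLocalRing.maximalIdeal F ∉ W := fun hm => by
    obtain ⟨P, hP, hPle⟩ := Ideal.exists_minimalPrimes_le
      ((Ideal.span_singleton_le_iff_mem _).mpr (hG _ hR' hR0))
    exact hRm ((hm.2 hP.1 (IsLocalRing.le_maximalIdeal hP.1.1.ne_top)).trans hPle)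
  obtain ⟨x, hx, hxW⟩ : ∃ x ∈ IsLocalRing.maximalIdeal F, ∀ P ∈ W, x ∉ P := by
    by_contra! h
    have hsub : (IsLocalRing.maximalIdeal F : Set F) ⊆ ⋃ P ∈ (hWfin.toFinset : Set (Ideal F)), (P : Set F) :=
      fun y hy => by
        obtain ⟨P, hP, hyP⟩ := h y hy
        exact Set.mem_iUnion₂.mpr ⟨P, hWfin.mem_toFinset.mpr hP, hyP⟩
    obtain ⟨P, hP, hle⟩ := (Ideal.subset_union_prime (f := id) ⊥ ⊥
      fun P hP _ _ => (hWfin.mem_toFinset.mp hP).1.1).mp hsub
    have hP' := hWfin.mem_toFinset.mp hP
    exact hnm ((le_antisymm hle (IsLocalRing.le_maximalIdeal hP'.1.1.ne_top)) ▸ hP')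
  obtain ⟨P₁, hP₁, -⟩ := Ideal.exists_minimalPrimes_le ((Ideal.span_singleton_le_iff_mem _).mpr hx)
  haveI hP₁p : P₁.IsPrime := hP₁.1.1
  have hxP : x ∈ P₁ := hP₁.1.2 (Ideal.mem_span_singleton_self x)
  have hx0 : x ≠ 0 := fun h0 => by
    obtain ⟨P, hP, -⟩ := Ideal.exists_minimalPrimes_le
      ((Ideal.span_singleton_le_iff_mem _).mpr (hG _ hR' hR0))
    exact hxW P hP (h0 ▸ zero_mem P)
  have hP₁0 : P₁ ≠ ⊥ := fun h0 => hx0 (by rw [h0] at hxP; simpa using hxP)
  obtain ⟨P₂, hP₂, hle⟩ := Ideal.exists_minimalPrimes_le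
    ((Ideal.span_singleton_le_iff_mem _).mpr (hG P₁ hP₁p hP₁0))
  haveI hP₂p : P₂.IsPrime := hP₂.1.1
  refine hxW P₂ hP₂ ?_
  rcases hle.lt_or_eq with hlt' | heq
  · have h2 : P₂.height < P₁.height := Ideal.height_strict_mono_of_isPrime_of_isPrime hlt'
    have h3 : (1 : ℕ∞) ≤ P₂.height := by
      have hP₂0 : (⊥ : Ideal F) < P₂ := bot_lt_iff_ne_bot.mpr fun h0 => by
        have hG0 : G ∈ P₂ := hP₂.1.2 (Ideal.mem_span_singleton_self G)
        rw [h0] at hG0
        exact hgQ (Ideal.Quotient.eq_zero_iff_mem.mp (by simpa using hG0))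
      exact ENat.one_le_iff_ne_zero.mpr fun h => hP₂0.ne' (Ideal.height_eq_zero_iff_eq_bot.mp h)
    have h4 : P₁.height ≤ 1 := by
      exact Ideal.height_le_one_of_isPrincipal_of_mem_minimalPrimes _ P₁ hP₁
    exact absurd (h3.trans_lt (h2.trans_le h4)) (lt_irrefl _)
  · exact heq ▸ hxP

/-- Over a domain, away from one element, whether an element of a finite module vanishes in a fibre does
not depend on the fibre. -/
theorem exists_tmul_eq_zero_indep {D S M : Type u} [CommRing D] [IsDomain D] [CommRing S] [Algebra D S]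
    [Algebra.FiniteType D S] [AddCommGroup M] [Module S M] [Module D M] [IsScalarTower D S M]
    [Module.Finite S M] (m : M) :
    ∃ f : D, f ≠ 0 ∧ ∀ (K K' : Type u) [Field K] [Field K'] [Algebra D K] [Algebra D K'],
      algebraMap D K f ≠ 0 → algebraMap D K' f ≠ 0 →
        (m ⊗ₜ[D] (1 : K) = 0 ↔ m ⊗ₜ[D] (1 : K') = 0) := by
  let L : Submodule S M := Submodule.span S {m}
  haveI : Module.Finite S L := Module.Finite.span_singleton S m
  obtain ⟨f₁, hf₁, B₁⟩ := exists_isAwayFree_of_finiteType (R := D) S L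
  obtain ⟨f₂, hf₂, B₂⟩ := exists_isAwayFree_of_finiteType (R := D) S (M ⧸ L)
  have key : ∀ (K : Type u) [Field K] [Algebra D K], algebraMap D K f₁ ≠ 0 → algebraMap D K f₂ ≠ 0 →
      (m ⊗ₜ[D] (1 : K) = 0 ↔ Subsingleton (Localization.Away f₁ ⊗[D] L)) := by
    intro K _ _ h₁ h₂
    -- the fibre of the cyclic submodule embeds
    have hinj : Function.Injective ((L.subtype.restrictScalars D).lTensor K) := by
      let Df := Localization.Away f₂
      letI : Algebra Df K := (IsLocalization.Away.lift f₂ (isUnit_iff_ne_zero.mpr h₂)).toAlgebra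
      haveI : IsScalarTower D Df K := IsScalarTower.of_algebraMap_eq fun d =>
        (IsLocalization.Away.lift_eq f₂ (isUnit_iff_ne_zero.mpr h₂) d).symm
      haveI : Module.Free Df (Df ⊗[D] (M ⧸ L)) := B₂.free_baseChange
      let i := (L.subtype.restrictScalars D).baseChange Df
      let c := (L.mkQ.restrictScalars D).baseChange Df
      have hex : Function.Exact (L.subtype.restrictScalars D) (L.mkQ.restrictScalars D) :=
        LinearMap.exact_subtype_mkQ L
      have hi : Function.Injective i :=
        Module.Flat.lTensor_preserves_injective_linearMap (M := Df) (L.subtype.restrictScalars D) L.injective_subtype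
      have hc : Function.Surjective c := LinearMap.lTensor_surjective Df L.mkQ_surjective
      have hexc : Function.Exact i c := lTensor_exact Df hex L.mkQ_surjective
      have h1 : Function.Injective (i.lTensor K) :=
        Groth.Agent.H27Misc.lTensor_injective_of_flat_cokernel K hi hexc hc
      have hcomm : ∀ z, AlgebraTensorModule.cancelBaseChange D Df Df K M (i.lTensor K z) =
          (L.subtype.restrictScalars D).lTensor K
            (AlgebraTensorModule.cancelBaseChange D Df Df K L z) := by
        intro z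
        induction z using TensorProduct.induction_on with
        | zero => simp
        | tmul k w =>
          induction w using TensorProduct.induction_on with
          | zero => simp
          | tmul a b => simp [i]
          | add a b ha hb => simp only [TensorProduct.tmul_add, map_add, ha, hb]
        | add a b ha hb => simp only [map_add, ha, hb]
      intro a b hab
      apply (AlgebraTensorModule.cancelBaseChange D Df Df K L).symm.injective
      apply h1
      apply (AlgebraTensorModule.cancelBaseChange D Df Df K M).injective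
      rw [hcomm, hcomm, LinearEquiv.apply_symm_apply, LinearEquiv.apply_symm_apply, hab]
    let Df := Localization.Away f₁
    letI : Algebra Df K := (IsLocalization.Away.lift f₁ (isUnit_iff_ne_zero.mpr h₁)).toAlgebra
    haveI : IsScalarTower D Df K := IsScalarTower.of_algebraMap_eq fun d =>
      (IsLocalization.Away.lift_eq f₁ (isUnit_iff_ne_zero.mpr h₁) d).symm
    haveI : Module.Free Df (Df ⊗[D] L) := B₁.free_baseChange
    let eK := AlgebraTensorModule.cancelBaseChange D Df Df K L
    constructor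
    · intro h
      have h' : ∀ w : K ⊗[D] L, w = 0 := by
        intro w
        induction w using TensorProduct.induction_on with
        | zero => rfl
        | add a b ha hb => rw [ha, hb, add_zero]
        | tmul k l =>
          obtain ⟨c, hc⟩ := Submodule.mem_span_singleton.mp l.2
          apply hinj
          rw [map_zero, LinearMap.lTensor_tmul]
          show k ⊗ₜ[D] (l : M) = 0
          rw [← hc]
          let φ : M →ₗ[D] M := (LinearMap.lsmul S M c).restrictScalars D
          have h5 := congrArg (TensorProduct.comm D M K) h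
          rw [TensorProduct.comm_tmul, map_zero] at h5
          have := congrArg (TensorProduct.map (LinearMap.mulLeft D k) φ) h5
          simpa [φ] using this
      haveI : Subsingleton (K ⊗[D] L) := subsingleton_of_forall_eq 0 h'
      haveI : Subsingleton (K ⊗[Df] (Df ⊗[D] L)) := eK.toEquiv.subsingleton
      let b := Module.Free.chooseBasis Df (Df ⊗[D] L)
      haveI : IsEmpty (Module.Free.ChooseBasisIndex Df (Df ⊗[D] L)) := ⟨fun j =>
        (Algebra.TensorProduct.basis K b).ne_zero j (Subsingleton.elim _ _)⟩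
      exact b.repr.toEquiv.subsingleton
    · intro h
      haveI : Subsingleton (K ⊗[D] L) := eK.symm.toEquiv.subsingleton
      have := congrArg ((L.subtype.restrictScalars D).lTensor K)
        (Subsingleton.elim ((1 : K) ⊗ₜ[D] (⟨m, Submodule.mem_span_singleton_self m⟩ : L)) 0)
      simpa using congrArg (TensorProduct.comm D K M) this
  refine ⟨f₁ * f₂, mul_ne_zero hf₁ hf₂, fun K K' _ _ _ _ h h' => ?_⟩
  rw [map_mul, mul_ne_zero_iff] at h h'
  exact (key K h.1 h.2).trans (key K' h'.1 h'.2).symm

/-- Near the generic point of a closed subset of the base the fibre of an associated point carries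
associated points above it. -/
theorem exists_relAss_near {A B : Type u} [CommRing A] [IsNoetherianRing A] [CommRing B] [Algebra A B]
    [Algebra.FiniteType A B] (N : Type u) [AddCommGroup N] [Module B N] [Module A N] [IsScalarTower A B N]
    [Module.Finite B N] (t' : Ideal A) [t'.IsPrime] (P : Ideal B) [P.IsPrime] [P.LiesOver t']
    (hP : FlatCA.fiberIdeal t' P ∈ associatedPrimes (t'.Fiber B) (FlatCA.fiberMod t' B N)) :
    ∃ f ∉ t', ∀ (t : Ideal A) [t.IsPrime], t' ≤ t → f ∉ t → ∃ Q : Ideal B, Q.IsPrime ∧ Q.LiesOver t ∧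
      P ≤ Q ∧ FlatCA.fiberIdeal t Q ∈ associatedPrimes (t.Fiber B) (FlatCA.fiberMod t B N) := by
  classical
  have : IsNoetherianRing B := Algebra.FiniteType.isNoetherianRing A B
  obtain ⟨n, hn⟩ := (AssLocal.assoc_iff N t' P).mp hP
  let D := A ⧸ t'
  let S := D ⊗[A] B
  let M := S ⊗[B] N
  haveI : IsDomain D := Ideal.Quotient.isDomain t'
  haveI : IsScalarTower A S M := IsScalarTower.of_algebraMap_smul fun (a : A) (x : M) => by
    rw [← algebraMap_smul S a x]
  haveI : IsScalarTower D S M := IsScalarTower.of_algebraMap_smul fun (a : D) (x : M) => by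
    rw [← algebraMap_smul S a x]
  obtain ⟨f₀, hf₀, hind⟩ := exists_tmul_eq_zero_indep (D := D) (S := S) ((1 : S) ⊗ₜ[B] n : M)
  obtain ⟨f₀, rfl⟩ := Ideal.Quotient.mk_surjective f₀
  obtain ⟨s, hs⟩ := IsNoetherian.noetherian P
  choose r hr hrn using fun x : s => (hn x).mp (hs ▸ Ideal.subset_span x.2)
  have hf₀t : f₀ ∉ t' := fun h => hf₀ (Ideal.Quotient.eq_zero_iff_mem.mpr h)
  -- transfer to the fibre of `N`
  have key : ∀ (t : Ideal A) [t.IsPrime] (htt : t' ≤ t) [Algebra D t.ResidueField]
      [IsScalarTower A D t.ResidueField],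
      ((1 : S) ⊗ₜ[B] n : M) ⊗ₜ[D] (1 : t.ResidueField) = 0 ↔ n ⊗ₜ[A] (1 : t.ResidueField) = 0 := by
    intro t _ _ _ _
    let κ := t.ResidueField
    let e : κ ⊗[D] M →ₗ[A] N ⊗[A] κ :=
      ((TensorProduct.comm A κ N).toLinearMap ∘ₗ
        (AlgebraTensorModule.cancelBaseChange A D D κ N).toLinearMap.restrictScalars A) ∘ₗ
        (LinearMap.lTensor κ ((Algebra.IsPushout.cancelBaseChange A D B S N).toLinearMap)).restrictScalars A
    have he : Function.Injective e :=
      ((TensorProduct.comm A κ N).injective.comp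
        (AlgebraTensorModule.cancelBaseChange A D D κ N).injective).comp
        (LinearEquiv.lTensor κ (Algebra.IsPushout.cancelBaseChange A D B S N)).injective
    have hv : e ((1 : κ) ⊗ₜ[D] ((1 : S) ⊗ₜ[B] n : M)) = n ⊗ₜ[A] (1 : κ) := by
      show (TensorProduct.comm A κ N) (AlgebraTensorModule.cancelBaseChange A D D κ N ((1 : κ) ⊗ₜ[D]
        (Algebra.IsPushout.cancelBaseChange A D B S N ((1 : S) ⊗ₜ[B] n)))) = _
      rw [Algebra.IsPushout.cancelBaseChange_tmul]
      simp
    rw [← hv, map_eq_zero_iff e he, ← (TensorProduct.comm D κ M).map_eq_zero_iff]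
    rfl
  refine ⟨f₀ * ∏ x, r x, fun h => ?_, fun t _ htt hft => ?_⟩
  · rcases (Ideal.IsPrime.mem_or_mem inferInstance h) with h | h
    · exact hf₀t h
    · obtain ⟨x, -, hx⟩ := Ideal.IsPrime.prod_mem_iff.mp h
      exact hr x hx
  have hft₀ : f₀ ∉ t := fun h => hft (Ideal.mul_mem_right _ _ h)
  have hftr : ∀ x, r x ∉ t := fun x h => hft (Ideal.mul_mem_left _ _
    (Ideal.mem_of_dvd _ (Finset.dvd_prod_of_mem r (Finset.mem_univ x)) h))
  let κ := t.ResidueField
  letI : Algebra D κ := (Ideal.Quotient.lift t' (algebraMap A κ) fun a ha =>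
    Ideal.algebraMap_residueField_eq_zero.mpr (htt ha)).toAlgebra
  haveI : IsScalarTower A D κ := IsScalarTower.of_algebraMap_eq fun _ => rfl
  let K := t'.ResidueField
  letI : Algebra D K := (Ideal.Quotient.lift t' (algebraMap A K) fun a ha =>
    Ideal.algebraMap_residueField_eq_zero.mpr ha).toAlgebra
  haveI : IsScalarTower A D K := IsScalarTower.of_algebraMap_eq fun _ => rfl
  let y : N ⊗[A] κ := n ⊗ₜ[A] (1 : κ)
  have hy : y ≠ 0 := by
    intro hy0
    have h1 : n ⊗ₜ[A] (1 : K) = 0 := (key t' le_rfl).mp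
      ((hind κ K (fun h => hft₀ (Ideal.algebraMap_residueField_eq_zero.mp h))
        (fun h => hf₀t (Ideal.algebraMap_residueField_eq_zero.mp h))).mp ((key t htt).mpr hy0))
    have h3 : FlatCA.toFiberMod t' B N n = 0 := (ProjectivePure.fiberEquiv t' N).injective (by
      rw [map_zero]
      refine Eq.trans ?_ h1
      show AlgebraTensorModule.cancelBaseChange A B B N t'.ResidueField
        (n ⊗ₜ[B] ((1 : B) ⊗ₜ[A] (1 : t'.ResidueField))) = _
      simp)
    rw [← one_smul B n, Groth.Agent.H02CA.FibreAss.toFiberMod_eq_zero_iff] at h3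
    exact Ideal.IsPrime.ne_top inferInstance ((Ideal.eq_top_iff_one P).mpr ((hn 1).mpr (by
      obtain ⟨a, ha, h⟩ := h3
      refine ⟨a, ha, ?_⟩
      rw [one_smul, ← algebraMap_smul B a n]
      simp only [one_smul] at h
      rwa [← Submodule.restrictScalars_mem A, Ideal.smul_restrictScalars,
        Submodule.restrictScalars_top] at h)))
  have hkill : ∀ b ∈ P, b • y = 0 := by
    intro b hb
    rw [← hs] at hb
    refine Submodule.span_induction (fun x hx => ?_) (zero_smul B y) (fun a c _ _ ha hc => ?_)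
      (fun c x _ hx => ?_) hb
    · have h6 : r ⟨x, hx⟩ • (x • y) = 0 := by
        show r ⟨x, hx⟩ • ((x • n) ⊗ₜ[A] (1 : κ)) = 0
        rw [TensorProduct.smul_tmul']
        have hsub : (r ⟨x, hx⟩ • x • n) ∈ t • (⊤ : Submodule A N) :=
          Submodule.smul_mono_left htt (hrn ⟨x, hx⟩)
        generalize r ⟨x, hx⟩ • x • n = w at hsub
        induction hsub using Submodule.smul_induction_on' with
        | smul a ha z _ =>
          rw [TensorProduct.smul_tmul, Algebra.smul_def,
            Ideal.algebraMap_residueField_eq_zero.mpr ha, zero_mul, TensorProduct.tmul_zero]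
        | add u _ v _ hu' hv' => rw [TensorProduct.add_tmul, hu', hv', add_zero]
      have hunit : IsUnit (algebraMap A κ (r ⟨x, hx⟩)) := isUnit_iff_ne_zero.mpr fun h =>
        hftr _ (Ideal.algebraMap_residueField_eq_zero.mp h)
      have h7 := congrArg (LinearMap.lTensor N (LinearMap.mulLeft A (↑hunit.unit⁻¹ : κ))) h6
      rw [map_zero, show x • y = (x • n) ⊗ₜ[A] (1 : κ) from rfl, TensorProduct.smul_tmul',
        TensorProduct.smul_tmul, LinearMap.lTensor_tmul, LinearMap.mulLeft_apply, Algebra.smul_def,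
        mul_one, IsUnit.val_inv_mul] at h7
      exact h7
    · rw [add_smul, ha, hc, add_zero]
    · rw [smul_eq_mul, mul_smul, hx, smul_zero]
  -- an associated point above
  have : IsNoetherianRing (t.Fiber B) := Algebra.FiniteType.isNoetherianRing t.ResidueField _
  let z : FlatCA.fiberMod t B N := (ProjectivePure.fiberEquiv t N).symm y
  obtain ⟨Qf, hQf, hle⟩ := exists_le_isAssociatedPrime_of_isNoetherianRing (t.Fiber B) z
    (fun h => hy (by simpa [z] using congrArg (ProjectivePure.fiberEquiv t N) h))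
  have hQfp := hQf.isPrime
  let Q := Qf.comap (algebraMap B (t.Fiber B))
  refine ⟨Q, inferInstance, ⟨?_⟩, fun b hb => ?_, ?_⟩
  · rw [Ideal.under, Ideal.comap_comap, ← IsScalarTower.algebraMap_eq,
      IsScalarTower.algebraMap_eq A t.ResidueField (t.Fiber B), ← Ideal.comap_comap,
      Ideal.eq_bot_of_prime (Qf.comap (algebraMap t.ResidueField (t.Fiber B))), ← RingHom.ker_eq_comap_bot]
    exact (Ideal.ker_algebraMap_residueField t).symm
  · refine hle ?_
    rw [Submodule.mem_colon_singleton, Submodule.mem_bot]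
    refine (algebraMap_smul (t.Fiber B) b (show t.Fiber B ⊗[B] N from z)).trans ?_
    show b • (ProjectivePure.fiberEquiv t N).symm y = 0
    rw [← map_smul, hkill b hb, map_zero]
  · rw [ImpurityDescend.fiberIdeal_comap]
    exact hQf

/-- An impurity of a finite type module over a noetherian ring yields one with quasi-finite base
change. -/
theorem hasImpurity_quasiFiniteAt {A B : Type u} [CommRing A] [IsNoetherianRing A] [CommRing B] [Algebra A B]
    [Algebra.FiniteType A B] (N : Type u) [AddCommGroup N] [Module B N] [Module.Finite B N]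
    (p : Ideal A) [p.IsPrime] (h : FlatCA.HasImpurity A B N p (fun _ _ _ _ => True)) :
    FlatCA.HasImpurity A B N p
      (fun A' _ _ t => ∃ _ : t.IsPrime, Algebra.FiniteType A A' ∧ Algebra.QuasiFiniteAt A t) := by
  classical
  obtain ⟨A', B', N', _, _, _, _, _, _, _, _, _, _, _, _, _, _, f, t', t, _, _, P, _, himp, -⟩ := h
  obtain ⟨s, hs⟩ := ImpurityStage.exists_finset_hasImpurity himp
  let G := Algebra.adjoin A (s : Set A')
  let ψ : G →ₐ[A] A' := Subalgebra.val _
  obtain ⟨a, ha, hGQ⟩ := hs G ψ fun x hx => ⟨⟨x, Algebra.subset_adjoin hx⟩, rfl⟩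
  haveI hG : Algebra.FiniteType A G := by
    constructor
    rw [Subalgebra.fg_top]
    exact ⟨s, rfl⟩
  let t₀ : Ideal G := t.comap ψ
  haveI : t₀.IsPrime := Ideal.comap_isPrime _ _
  haveI : t.LiesOver p := himp.2.2.2.1
  haveI : t₀.LiesOver p := ⟨by
    refine (t.over_def p).trans ?_
    show t.comap (algebraMap A A') = (t.comap ψ.toRingHom).comap (algebraMap A G)
    rw [Ideal.comap_comap]
    congr 1⟩
  haveI : IsJacobsonRing (p.Fiber G) := isJacobsonRing_of_finiteType (A := p.ResidueField)
  haveI hpr : (FlatCA.fiberIdeal p t₀).IsPrime := H8Props.Devissage.isPrime_fiberIdeal p t₀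
  obtain ⟨m, hm, ht₀m, ham⟩ : ∃ m : Ideal (p.Fiber G), m.IsMaximal ∧ FlatCA.fiberIdeal p t₀ ≤ m ∧
      algebraMap G (p.Fiber G) a ∉ m := by
    by_contra! hall
    apply ha
    show a ∈ t₀
    rw [← H8Props.Devissage.comap_fiberIdeal p t₀]
    show algebraMap G (p.Fiber G) a ∈ FlatCA.fiberIdeal p t₀
    rw [← hpr.isRadical.radical, Ideal.radical_eq_jacobson, Ideal.jacobson, Submodule.mem_sInf]
    exact fun J ⟨hJle, hJmax⟩ => hall J hJmax hJle
  let t₂ : Ideal G := m.comap (algebraMap G (p.Fiber G))
  haveI : m.IsPrime := hm.isPrime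
  haveI : t₂.LiesOver p := ⟨by
    rw [Ideal.under, Ideal.comap_comap, ← IsScalarTower.algebraMap_eq,
      IsScalarTower.algebraMap_eq A p.ResidueField (p.Fiber G), ← Ideal.comap_comap,
      Ideal.eq_bot_of_prime (m.comap (algebraMap p.ResidueField (p.Fiber G))), ← RingHom.ker_eq_comap_bot]
    exact (Ideal.ker_algebraMap_residueField p).symm⟩
  have hmax₂ : ∀ (u : Ideal G), u.IsPrime → u.LiesOver p → t₂ ≤ u → u = t₂ := fun u hu hup hle => by
    have h1 : m ≤ FlatCA.fiberIdeal p u := by
      rw [← H8Props.Devissage.fiberIdeal_comap p m]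
      exact Ideal.map_mono hle
    have h2 := hm.eq_of_le (H8Props.Devissage.isPrime_fiberIdeal p u).ne_top h1
    rw [← H8Props.Devissage.comap_fiberIdeal p u, ← h2]
  obtain ⟨A₁, B₁, N₁, _, _, _, _, _, _, _, _, _, _, _, _, _, _, f₁, t'₁, t₁, _, _, P₁, _, himp₁,
    hft, hmax⟩ := hGQ t₂ inferInstance
      ((H8Props.Devissage.comap_fiberIdeal p t₀).ge.trans (Ideal.comap_mono ht₀m)) ham
      (fun A'' _ _ t => Algebra.FiniteType A A'' ∧
        ∀ (u : Ideal A''), u.IsPrime → u.LiesOver p → t ≤ u → u = t) ⟨hG, hmax₂⟩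
  obtain ⟨hpush, hbc, htt, htp, hPt', hass, hnone⟩ := himp₁
  haveI := hpush
  haveI := htp
  haveI := hPt'
  haveI := hft
  by_cases hfib : t'₁.comap (algebraMap A A₁) = p
  · -- over the residue field there are no impurities
    exfalso
    haveI : t'₁.LiesOver p := ⟨hfib.symm⟩
    haveI := H8Props.Devissage.isPrime_fiberIdeal p t'₁
    haveI := H8Props.Devissage.isPrime_fiberIdeal p t₁
    haveI : (FlatCA.fiberIdeal p t'₁).LiesOver t'₁ := ⟨(H8Props.Devissage.comap_fiberIdeal p t'₁).symm⟩
    haveI : (FlatCA.fiberIdeal p t₁).LiesOver t₁ := ⟨(H8Props.Devissage.comap_fiberIdeal p t₁).symm⟩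
    have h1 : FlatCA.HasImpurity A B N p (fun A'' _ _ u => ∃ χ : p.ResidueField →ₐ[A] A'',
        u.comap χ.toRingHom = ⊥ ∧ True) :=
      ImpurityBaseChange.hasImpurity_baseChange
        (⟨hpush, hbc, htt, htp, hPt', hass, hnone⟩ : FlatCA.IsImpurity A B N p A₁ B₁ N₁ f₁ t'₁ t₁ P₁)
        (p.Fiber A₁) (FlatCA.fiberIdeal p t'₁) (FlatCA.fiberIdeal p t₁) (Ideal.map_mono htt) _
        ⟨Algebra.TensorProduct.includeLeft, by
          haveI : ((FlatCA.fiberIdeal p t₁).comap (Algebra.TensorProduct.includeLeft :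
            p.ResidueField →ₐ[A] p.Fiber A₁).toRingHom).IsPrime := Ideal.comap_isPrime _ _
          exact Ideal.eq_bot_of_prime _, trivial⟩
    let BK := p.ResidueField ⊗[A] B
    have : Algebra.IsPushout A B p.ResidueField BK := Algebra.IsPushout.symm inferInstance
    let NK := BK ⊗[B] N
    let gK : N →ₗ[B] NK := TensorProduct.mk B BK N 1
    haveI : Algebra.FiniteType p.ResidueField BK := inferInstance
    haveI : Module.Finite BK NK := inferInstance
    haveI : IsScalarTower p.ResidueField BK NK :=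
      IsScalarTower.of_algebraMap_smul fun (k : p.ResidueField) (x : NK) => by rw [← algebraMap_smul BK k x]
    obtain ⟨A₂, B₂, N₂, _, _, _, _, _, _, _, _, _, _, _, _, _, _, g, u', u, _, _, P₂, _, himp₂, -⟩ :=
      ImpurityRebase.hasImpurity_extend (TensorProduct.isBaseChange B N BK : IsBaseChange BK gK)
        (⊥ : Ideal p.ResidueField) (fun _ _ _ _ => True) h1
    exact ProjectivePure.isUnivPureAlong_of_projective NK ⊥ A₂ B₂ N₂ g u' u P₂ himp₂
  · obtain ⟨π, hπp, hπt⟩ : ∃ π ∈ p, algebraMap A A₁ π ∉ t'₁ := by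
      by_contra! hall
      exact hfib (le_antisymm ((Ideal.comap_mono htt).trans htp.over.ge) hall)
    haveI : Algebra.FiniteType A₁ B₁ := by
      have : Algebra.IsPushout A A₁ B B₁ := Algebra.IsPushout.symm inferInstance
      exact Algebra.FiniteType.equiv (inferInstanceAs (Algebra.FiniteType A₁ (A₁ ⊗[A] B)))
        (Algebra.IsPushout.equiv A A₁ B B₁)
    haveI : IsNoetherianRing A₁ := Algebra.FiniteType.isNoetherianRing A A₁
    haveI : Module.Finite B₁ N₁ := Module.Finite.equiv (hbc.equiv (R := B) (M := N))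
    obtain ⟨e, he, hnear⟩ := exists_relAss_near N₁ t'₁ P₁ hass
    let g := e * algebraMap A A₁ π
    have hg : g ∉ t'₁ := fun h => (Ideal.IsPrime.mem_or_mem inferInstance h).elim he hπt
    let D := A₁ ⧸ t'₁
    haveI : IsDomain D := Ideal.Quotient.isDomain t'₁
    let tD : Ideal D := t₁.map (Ideal.Quotient.mk t'₁)
    haveI : tD.IsPrime := Ideal.map_isPrime_of_surjective Ideal.Quotient.mk_surjective
      (by rwa [Ideal.mk_ker])
    have htD : tD.comap (Ideal.Quotient.mk t'₁) = t₁ := by
      rw [Ideal.comap_map_of_surjective _ Ideal.Quotient.mk_surjective, ← RingHom.ker_eq_comap_bot,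
        Ideal.mk_ker, sup_eq_left.mpr htt]
    let E := Localization.AtPrime tD
    let gE : E := algebraMap D E (Ideal.Quotient.mk t'₁ g)
    have hgE : gE ≠ 0 := fun h0 => hg (Ideal.Quotient.eq_zero_iff_mem.mp
      (IsLocalization.injective E tD.primeCompl_le_nonZeroDivisors (h0.trans (map_zero _).symm)))
    have hgm : gE ∈ IsLocalRing.maximalIdeal E := by
      rw [IsLocalization.AtPrime.to_map_mem_maximal_iff E tD]
      show g ∈ tD.comap (Ideal.Quotient.mk t'₁)
      rw [htD]
      exact Ideal.mul_mem_left _ _ (htp.over.le hπp)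
    obtain ⟨QE, hQE, hgQE, hQEmax⟩ := exists_coheight_one_prime gE hgE hgm
    let tm : Ideal A₁ := (QE.comap (algebraMap D E)).comap (Ideal.Quotient.mk t'₁)
    have htm' : t'₁ ≤ tm := fun x hx => by
      show algebraMap D E (Ideal.Quotient.mk t'₁ x) ∈ QE
      rw [Ideal.Quotient.eq_zero_iff_mem.mpr hx, map_zero]
      exact zero_mem _
    have htmt : tm ≤ t₁ := by
      rw [← htD]
      refine Ideal.comap_mono ?_
      exact (Ideal.comap_mono (IsLocalRing.le_maximalIdeal hQE.ne_top)).trans
        (IsLocalization.AtPrime.under_maximalIdeal E tD).le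
    have hgtm : g ∉ tm := hgQE
    obtain ⟨Q, hQ, hQover, hPQ, hQass⟩ := hnear tm htm' fun h => hgtm (Ideal.mul_mem_right _ _ h)
    have himp' : FlatCA.IsImpurity A B N p A₁ B₁ N₁ f₁ tm t₁ Q :=
      ⟨hpush, hbc, htmt, htp, hQover, hQass, fun P' hP' hQP' => hnone P' (hPQ.trans hQP')⟩
    -- quasi-finite after cutting down
    let A₂ := A₁ ⧸ tm
    haveI : Algebra.FiniteType A A₂ := Algebra.FiniteType.trans hft inferInstance
    let t₂' : Ideal A₂ := t₁.map (Ideal.Quotient.mk tm)
    haveI : t₂'.IsPrime := Ideal.map_isPrime_of_surjective Ideal.Quotient.mk_surjective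
      (by rwa [Ideal.mk_ker])
    have ht₂' : t₂'.comap (Ideal.Quotient.mk tm) = t₁ := by
      rw [Ideal.comap_map_of_surjective _ Ideal.Quotient.mk_surjective, ← RingHom.ker_eq_comap_bot,
        Ideal.mk_ker, sup_eq_left.mpr htmt]
    haveI : t₂'.LiesOver t₁ := ⟨ht₂'.symm⟩
    haveI : (⊥ : Ideal A₂).LiesOver tm := ⟨by
      rw [Ideal.under, ← RingHom.ker_eq_comap_bot]
      exact Ideal.mk_ker.symm⟩
    haveI : IsDomain A₂ := Ideal.Quotient.isDomain tm
    haveI : (⊥ : Ideal A₂).IsPrime := Ideal.isPrime_bot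
    refine ImpurityBaseChange.hasImpurity_baseChange himp' A₂ ⊥ t₂' bot_le _ ⟨inferInstance, inferInstance, ?_⟩
    refine H3CAlg.PruferDimFn.quasiFiniteAt_of_isolated (A := A) ⟨t₂', inferInstance⟩ fun u' hu' hcomp => ?_
    have hup : (u'.asIdeal.comap (Ideal.Quotient.mk tm)).LiesOver p := ⟨by
      rw [Ideal.under, Ideal.comap_comap]
      refine Eq.trans ?_ (congrArg PrimeSpectrum.asIdeal hu').symm
      show p = t₂'.comap (algebraMap A A₂)
      rw [IsScalarTower.algebraMap_eq A A₁ A₂, ← Ideal.comap_comap,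
        show t₂'.comap (algebraMap A₁ A₂) = t₁ from ht₂']
      exact htp.over⟩
    have hinjc : ∀ I J : Ideal A₂, I.comap (Ideal.Quotient.mk tm) = J.comap (Ideal.Quotient.mk tm) → I = J :=
      fun I J h => Ideal.comap_injective_of_surjective _ Ideal.Quotient.mk_surjective h
    apply PrimeSpectrum.ext
    apply hinjc
    show u'.asIdeal.comap (Ideal.Quotient.mk tm) = t₂'.comap (Ideal.Quotient.mk tm)
    rw [ht₂']
    rcases hcomp with hle | hle
    · -- below: compare inside the local ring
      have hle' : u'.asIdeal.comap (Ideal.Quotient.mk tm) ≤ t₁ := ht₂' ▸ Ideal.comap_mono hle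
      set U := u'.asIdeal.comap (Ideal.Quotient.mk tm) with hU
      haveI : U.IsPrime := Ideal.comap_isPrime _ _
      have htmU : tm ≤ U := fun x hx => by
        show Ideal.Quotient.mk tm x ∈ u'.asIdeal
        rw [Ideal.Quotient.eq_zero_iff_mem.mpr hx]
        exact zero_mem _
      let UD : Ideal D := U.map (Ideal.Quotient.mk t'₁)
      haveI : UD.IsPrime := Ideal.map_isPrime_of_surjective Ideal.Quotient.mk_surjective
        (by rw [Ideal.mk_ker]; exact htm'.trans htmU)
      have hUD : UD.comap (Ideal.Quotient.mk t'₁) = U := by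
        rw [Ideal.comap_map_of_surjective _ Ideal.Quotient.mk_surjective, ← RingHom.ker_eq_comap_bot,
          Ideal.mk_ker, sup_eq_left.mpr (htm'.trans htmU)]
      have hdisj : Disjoint (tD.primeCompl : Set D) UD := Set.disjoint_left.mpr fun x hx hxU =>
        hx (Ideal.map_mono hle' hxU)
      have hback : (UD.map (algebraMap D E)).comap (algebraMap D E) = UD :=
        IsLocalization.under_map_of_isPrime_disjoint tD.primeCompl E inferInstance hdisj
      rcases hQEmax (UD.map (algebraMap D E))
        (IsLocalization.isPrime_of_isPrime_disjoint tD.primeCompl E UD inferInstance hdisj) (by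
          rw [← IsLocalization.map_under tD.primeCompl E QE]
          refine Ideal.map_mono ?_
          rw [← Ideal.map_comap_of_surjective (Ideal.Quotient.mk t'₁) Ideal.Quotient.mk_surjective
            (QE.under D)]
          exact Ideal.map_mono htmU) with h | h
      · exfalso
        refine hgtm (Ideal.mul_mem_left _ _ ?_)
        have hUtm : U = tm := by rw [← hUD, ← hback, h]
        rw [← hUtm]
        exact hup.over.le hπp
      · rw [← hUD, ← hback, h, ← htD]
        exact congrArg _ (IsLocalization.AtPrime.under_maximalIdeal E tD)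
    · exact hmax _ (Ideal.comap_isPrime _ _) hup (ht₂' ▸ Ideal.comap_mono hle)

end Groth.Agent.H7Flat.Chain
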