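import Groth.Agent.H7Flat.GenericFreeness
import Mathlib

/-!
# Constructibility of the locus where endomorphisms are jointly injective on fibres
-/

set_option autoImplicit false
set_option linter.style.haveILetI false
set_option backward.isDefEq.respectTransparency false
set_option maxHeartbeats 1000000

universe u

open TensorProduct Topology

namespace Groth.Agent.H7Flat.Chain

/-- The endomorphisms are jointly injective after base change. -/
def JointInj (A : Type u) [CommRing A] {X : Type u} [AddCommGroup X] [Module A X] {k : ℕ}
    (v : Fin k → X →ₗ[A] X) (K : Type u) [CommRing K] [Algebra A K] : Prop :=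
  ∀ z : K ⊗[A] X, (∀ i, (v i).baseChange K z = 0) → z = 0

/-- The set of primes where the endomorphisms are jointly injective on the fibre. -/
def jointInjLocus (A : Type u) [CommRing A] {X : Type u} [AddCommGroup X] [Module A X] {k : ℕ}
    (v : Fin k → X →ₗ[A] X) : Set (PrimeSpectrum A) :=
  {t | JointInj A v t.asIdeal.ResidueField}

section

variable {A : Type u} [CommRing A] {X : Type u} [AddCommGroup X] [Module A X] {k : ℕ}
  (v : Fin k → X →ₗ[A] X)

theorem jointInj_iff_pi (K : Type u) [CommRing K] [Algebra A K] :
    JointInj A v K ↔ Function.Injective ((LinearMap.pi v).baseChange K) := by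
  have key : ∀ z, (TensorProduct.piRight A K K fun _ : Fin k => X) ((LinearMap.pi v).baseChange K z) =
      fun i => (v i).baseChange K z := by
    intro z
    induction z using TensorProduct.induction_on with
    | zero => funext i; simp
    | tmul c x => funext i; simp [LinearMap.pi_apply]
    | add a b ha hb =>
      funext i
      rw [map_add, map_add, Pi.add_apply, ha, hb, map_add]
  rw [injective_iff_map_eq_zero]
  refine forall_congr' fun z => imp_congr_left ?_
  rw [← LinearEquiv.map_eq_zero_iff (TensorProduct.piRight A K K fun _ : Fin k => X), key z, funext_iff]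
  rfl

/-- Joint injectivity is insensitive to extensions of fields. -/
theorem jointInj_field (κ K : Type u) [Field κ] [Field K] [Algebra A κ] [Algebra A K] [Algebra κ K]
    [IsScalarTower A κ K] : JointInj A v K ↔ JointInj A v κ := by
  rw [jointInj_iff_pi, jointInj_iff_pi]
  let f := LinearMap.pi v
  have hcomm : ∀ z : K ⊗[κ] (κ ⊗[A] X), AlgebraTensorModule.cancelBaseChange A κ K K (Fin k → X)
      ((f.baseChange κ).lTensor K z) = f.baseChange K (AlgebraTensorModule.cancelBaseChange A κ K K X z) := by
    intro z
    induction z using TensorProduct.induction_on with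
    | zero => simp
    | tmul a w =>
      induction w using TensorProduct.induction_on with
      | zero => simp
      | tmul c x => simp [f]
      | add p q hp hq => simp only [tmul_add, map_add, hp, hq]
    | add p q hp hq => simp only [map_add, hp, hq]
  have hfun := funext hcomm
  rw [← Module.FaithfullyFlat.lTensor_injective_iff_injective κ K (f.baseChange κ)]
  constructor
  · intro h
    exact fun p q hpq => (AlgebraTensorModule.cancelBaseChange A κ K K X).injective
      (h (by rw [← hcomm, ← hcomm, hpq]))
  · intro h p q hpq
    obtain ⟨p, rfl⟩ := (AlgebraTensorModule.cancelBaseChange A κ K K X).surjective p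
    obtain ⟨q, rfl⟩ := (AlgebraTensorModule.cancelBaseChange A κ K K X).surjective q
    rw [← hcomm, ← hcomm] at hpq
    exact congrArg _ (h ((AlgebraTensorModule.cancelBaseChange A κ K K (Fin k → X)).injective hpq))

/-- Joint injectivity may be computed on a base change of the module. -/
theorem jointInj_baseChange {R X₁ : Type u} [CommRing R] [Algebra R A] [AddCommGroup X₁] [Module R X₁]
    [Module R X] [IsScalarTower R A X] (v₁ : Fin k → X₁ →ₗ[R] X₁) {c : X₁ →ₗ[R] X}
    (hc : IsBaseChange A c) (hv : ∀ i x, v i (c x) = c (v₁ i x)) (K : Type u) [CommRing K] [Algebra A K]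
    [Algebra R K] [IsScalarTower R A K] : JointInj A v K ↔ JointInj R v₁ K := by
  let e : K ⊗[R] X₁ ≃ₗ[K] K ⊗[A] X :=
    (AlgebraTensorModule.cancelBaseChange R A K K X₁).symm ≪≫ₗ
      AlgebraTensorModule.congr (LinearEquiv.refl K K) hc.equiv
  have hcomm : ∀ i z, e ((v₁ i).baseChange K z) = (v i).baseChange K (e z) := by
    intro i z
    induction z using TensorProduct.induction_on with
    | zero => simp
    | tmul a x => simp [e, hc.equiv_tmul, hv]
    | add p q hp hq => simp only [map_add, hp, hq]
  refine ⟨fun h z hz => e.injective ((h (e z) fun i => ?_).trans (map_zero e).symm), fun h z hz => ?_⟩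
  · rw [← hcomm, hz, map_zero]
  · obtain ⟨z, rfl⟩ := e.surjective z
    rw [h z fun i => e.injective (by rw [hcomm, hz, map_zero]), map_zero]

end

/-- Over a domain, joint injectivity on the fibres is constant near the generic point. -/
theorem exists_jointInj_const {D P X : Type u} [CommRing D] [IsDomain D] [IsNoetherianRing D] [CommRing P]
    [Algebra D P] [Algebra.FiniteType D P] [AddCommGroup X] [Module P X] [Module D X] [IsScalarTower D P X]
    [Module.Finite P X] {k : ℕ} (v : Fin k → X →ₗ[P] X) :
    ∃ g : D, g ≠ 0 ∧
      ((∀ t : PrimeSpectrum D, g ∉ t.asIdeal → t ∈ jointInjLocus D fun i => (v i).restrictScalars D) ∨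
        ∀ t : PrimeSpectrum D, g ∉ t.asIdeal → t ∉ jointInjLocus D fun i => (v i).restrictScalars D) := by
  haveI : IsNoetherianRing P := Algebra.FiniteType.isNoetherianRing D P
  let f : X →ₗ[P] (Fin k → X) := LinearMap.pi v
  let K := LinearMap.ker f
  let M := LinearMap.range f
  let C := (Fin k → X) ⧸ M
  haveI : Module.Finite P K := Module.Finite.iff_fg.mpr (IsNoetherian.noetherian K)
  haveI : Module.Finite P M := Module.Finite.iff_fg.mpr (IsNoetherian.noetherian M)
  obtain ⟨g₁, hg₁, -, hC⟩ := H7Flat.exists_free_baseChange P C (1 : D) one_ne_zero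
  obtain ⟨g₂, hg₂, hd₂, hM⟩ := H7Flat.exists_free_baseChange P M g₁ hg₁
  obtain ⟨g, hg, hd, hK⟩ := H7Flat.exists_free_baseChange P K g₂ hg₂
  let L := Localization.Away g
  haveI : Module.Free L (L ⊗[D] C) := hC g (hd₂.trans hd)
  haveI : Module.Free L (L ⊗[D] M) := hM g hd
  haveI : Module.Free L (L ⊗[D] K) := hK g dvd_rfl
  haveI : Module.Flat D L := IsLocalization.flat L (Submonoid.powers g)
  let i₁ : L ⊗[D] K →ₗ[L] L ⊗[D] X := (K.subtype.restrictScalars D).baseChange L
  let f₁ : L ⊗[D] X →ₗ[L] L ⊗[D] M := (f.rangeRestrict.restrictScalars D).baseChange L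
  let j₁ : L ⊗[D] M →ₗ[L] L ⊗[D] (Fin k → X) := (M.subtype.restrictScalars D).baseChange L
  let q₁ : L ⊗[D] (Fin k → X) →ₗ[L] L ⊗[D] C := (M.mkQ.restrictScalars D).baseChange L
  have hi₁ : Function.Injective i₁ := by
    simp only [i₁, LinearMap.baseChange_eq_ltensor]
    exact Module.Flat.lTensor_preserves_injective_linearMap _ K.injective_subtype
  have hj₁ : Function.Injective j₁ := by
    simp only [j₁, LinearMap.baseChange_eq_ltensor]
    exact Module.Flat.lTensor_preserves_injective_linearMap _ M.injective_subtype
  have hf₁ : Function.Surjective f₁ := by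
    simp only [f₁, LinearMap.baseChange_eq_ltensor]
    exact LinearMap.lTensor_surjective L f.surjective_rangeRestrict
  have hq₁ : Function.Surjective q₁ := by
    simp only [q₁, LinearMap.baseChange_eq_ltensor]
    exact LinearMap.lTensor_surjective L M.mkQ_surjective
  have hex₁ : Function.Exact i₁ f₁ := by
    simp only [i₁, f₁, LinearMap.baseChange_eq_ltensor]
    refine lTensor_exact L (fun x => ?_) f.surjective_rangeRestrict
    exact ⟨fun hx => ⟨⟨x, congrArg Subtype.val hx⟩, rfl⟩, fun ⟨y, hy⟩ => Subtype.ext (hy ▸ y.2)⟩
  have hex₂ : Function.Exact j₁ q₁ := by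
    simp only [j₁, q₁, LinearMap.baseChange_eq_ltensor]
    exact lTensor_exact L (LinearMap.exact_subtype_mkQ M) M.mkQ_surjective
  have hcomp : (f.restrictScalars D).baseChange L = j₁ ∘ₗ f₁ := by
    simp only [j₁, f₁, ← LinearMap.baseChange_comp]
    congr 1
  have key : ∀ t : PrimeSpectrum D, g ∉ t.asIdeal →
      (t ∈ jointInjLocus D (fun i => (v i).restrictScalars D) ↔ Subsingleton (L ⊗[D] K)) := by
    intro t ht
    let κ := t.asIdeal.ResidueField
    have hu : IsUnit (algebraMap D κ g) := isUnit_iff_ne_zero.mpr fun h0 =>
      ht (Ideal.algebraMap_residueField_eq_zero.mp h0)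
    letI : Algebra L κ := (IsLocalization.Away.lift g (g := algebraMap D κ) hu).toAlgebra
    haveI : IsScalarTower D L κ := IsScalarTower.of_algebraMap_eq fun r =>
      (IsLocalization.Away.lift_eq (g := algebraMap D κ) g hu r).symm
    have hi₂ : Function.Injective (i₁.lTensor κ) :=
      LinearMap.lTensor_injective_of_exact_of_flat f₁ hf₁ i₁ hi₁ hex₁ κ
    have hj₂ : Function.Injective (j₁.lTensor κ) :=
      LinearMap.lTensor_injective_of_exact_of_flat q₁ hq₁ j₁ hj₁ hex₂ κ
    have hex : Function.Exact (i₁.lTensor κ) (((f.restrictScalars D).baseChange L).lTensor κ) := by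
      rw [hcomp, LinearMap.lTensor_comp]
      exact hj₂.comp_exact_iff_exact.mpr (lTensor_exact κ hex₁ hf₁)
    have hloc : t ∈ jointInjLocus D (fun i => (v i).restrictScalars D) ↔
        Function.Injective (((f.restrictScalars D).baseChange L).lTensor κ) := by
      show JointInj D (fun i => (v i).restrictScalars D) κ ↔ _
      rw [jointInj_iff_pi]
      have hcm : ∀ z : κ ⊗[L] (L ⊗[D] X), AlgebraTensorModule.cancelBaseChange D L κ κ (Fin k → X)
          (((f.restrictScalars D).baseChange L).lTensor κ z) =
            (LinearMap.pi fun i => (v i).restrictScalars D).baseChange κ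
              (AlgebraTensorModule.cancelBaseChange D L κ κ X z) := by
        intro z
        induction z using TensorProduct.induction_on with
        | zero => simp
        | tmul a w =>
          induction w using TensorProduct.induction_on with
          | zero => simp
          | tmul c x =>
            simp [f]
            rfl
          | add p q hp hq => simp only [tmul_add, map_add, hp, hq]
        | add p q hp hq => simp only [map_add, hp, hq]
      constructor
      · intro h p q hpq
        exact (AlgebraTensorModule.cancelBaseChange D L κ κ X).injective (h (by rw [← hcm, ← hcm, hpq]))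
      · intro h p q hpq
        obtain ⟨p, rfl⟩ := (AlgebraTensorModule.cancelBaseChange D L κ κ X).surjective p
        obtain ⟨q, rfl⟩ := (AlgebraTensorModule.cancelBaseChange D L κ κ X).surjective q
        rw [← hcm, ← hcm] at hpq
        exact congrArg _ (h ((AlgebraTensorModule.cancelBaseChange D L κ κ (Fin k → X)).injective hpq))
    rw [hloc]
    constructor
    · intro h
      haveI : Subsingleton (κ ⊗[L] (L ⊗[D] K)) := subsingleton_of_forall_eq 0 fun z =>
        hi₂ (h (((hex _).mpr ⟨z, rfl⟩).trans (map_zero _).symm) |>.trans (map_zero _).symm)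
      by_contra hns
      haveI : Nontrivial (L ⊗[D] K) := not_subsingleton_iff_nontrivial.mp hns
      exact not_subsingleton (κ ⊗[L] (L ⊗[D] K)) ‹_›
    · intro h
      rw [injective_iff_map_eq_zero]
      intro z hz
      obtain ⟨w, rfl⟩ := (hex z).mp hz
      haveI := h
      rw [Subsingleton.elim w 0, map_zero]
  by_cases hs : Subsingleton (L ⊗[D] K)
  · exact ⟨g, hg, Or.inl fun t ht => (key t ht).mpr hs⟩
  · exact ⟨g, hg, Or.inr fun t ht h => hs ((key t ht).mp h)⟩

end Groth.Agent.H7Flat.Chain
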