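import Groth.Agent.H7Flat.Chain.JointInj
import Groth.Agent.H7Flat.Chain.PolyModel
import Groth.Agent.H06EGA11.Global
import Groth.Agent.H8Props.Devissage.Pieces
import Groth.Agent.H8Props.Devissage.FibreDim
import Mathlib

/-!
# Constructibility of the joint injectivity locus for finitely presented data
-/

set_option autoImplicit false
set_option linter.style.haveILetI false
set_option backward.isDefEq.respectTransparency false
set_option maxHeartbeats 1000000
set_option synthInstance.maxHeartbeats 200000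

universe u

open TensorProduct Topology PrimeSpectrum Groth.Agent.H8Props.Devissage Groth.Agent.H06EGA11

attribute [local instance] Algebra.TensorProduct.rightAlgebra

namespace Groth.Agent.H7Flat.Chain

/-- The locus of a base change is the inverse image of the locus. -/
theorem mem_jointInjLocus_iff {R A X₁ X : Type u} [CommRing R] [CommRing A] [Algebra R A] [AddCommGroup X₁]
    [Module R X₁] [AddCommGroup X] [Module A X] [Module R X] [IsScalarTower R A X] {k : ℕ}
    (v : Fin k → X →ₗ[A] X) (v₁ : Fin k → X₁ →ₗ[R] X₁) {c : X₁ →ₗ[R] X} (hc : IsBaseChange A c)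
    (hv : ∀ i x, v i (c x) = c (v₁ i x)) (t : PrimeSpectrum A) :
    t ∈ jointInjLocus A v ↔ PrimeSpectrum.comap (algebraMap R A) t ∈ jointInjLocus R v₁ := by
  let t₁ := PrimeSpectrum.comap (algebraMap R A) t
  haveI : t.asIdeal.LiesOver t₁.asIdeal := ⟨rfl⟩
  let κ₁ := t₁.asIdeal.ResidueField
  let κ := t.asIdeal.ResidueField
  letI : Algebra κ₁ κ := (residueMap R t₁.asIdeal A t.asIdeal).toRingHom.toAlgebra
  haveI : IsScalarTower R κ₁ κ :=
    IsScalarTower.of_algebraMap_eq fun r => ((residueMap R t₁.asIdeal A t.asIdeal).commutes r).symm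
  exact (jointInj_baseChange (R := R) v v₁ hc hv κ).trans (jointInj_field v₁ κ₁ κ)

/-- The image of a constructible set under preimage along a ring map is constructible. -/
theorem isConstructible_preimage_comap {R A : Type u} [CommRing R] [CommRing A] (f : R →+* A)
    {s : Set (PrimeSpectrum R)} (hs : IsConstructible s) :
    IsConstructible (PrimeSpectrum.comap f ⁻¹' s) := by
  refine hs.preimage (PrimeSpectrum.continuous_comap f) fun U hU hUr => ?_
  obtain ⟨T, hT⟩ := PrimeSpectrum.isCompact_isOpen_iff.mp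
    ⟨QuasiSeparatedSpace.isRetrocompact_iff_isCompact hU |>.mp hUr, hU⟩
  rw [show PrimeSpectrum.comap f ⁻¹' U = (zeroLocus (f '' (T : Set R)))ᶜ by
    rw [← hT, Set.preimage_compl, PrimeSpectrum.preimage_comap_zeroLocus]]
  exact PrimeSpectrum.isRetrocompact_zeroLocus_compl (T.finite_toSet.image f)

/-- On a closed subset with domain of functions the condition is constant near the generic point. -/
theorem exists_const_on_domain {A P X : Type u} [CommRing A] [CommRing P] [Algebra A P]
    [Algebra.FiniteType A P] [AddCommGroup X] [Module P X] [Module A X] [IsScalarTower A P X]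
    [Module.Finite P X] {k : ℕ} (v : Fin k → X →ₗ[P] X) (D : Type u) [CommRing D] [Algebra A D]
    [IsDomain D] [IsNoetherianRing D] :
    ∃ g : D, g ≠ 0 ∧
      ((∀ t : PrimeSpectrum D, g ∉ t.asIdeal →
          PrimeSpectrum.comap (algebraMap A D) t ∈ jointInjLocus A fun i => (v i).restrictScalars A) ∨
        ∀ t : PrimeSpectrum D, g ∉ t.asIdeal →
          PrimeSpectrum.comap (algebraMap A D) t ∉ jointInjLocus A fun i => (v i).restrictScalars A) := by
  let P' := D ⊗[A] P
  haveI : IsScalarTower A D (P' ⊗[P] X) := IsScalarTower.of_algebraMap_smul fun a x => by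
    rw [← algebraMap_smul P' (algebraMap A D a) x, ← IsScalarTower.algebraMap_apply, algebraMap_smul]
  let mk : X →ₗ[P] P' ⊗[P] X := TensorProduct.mk P P' X 1
  have hc : IsBaseChange D (mk.restrictScalars A) :=
    isBaseChange_restrict (TensorProduct.isBaseChange P X P')
  have hv : ∀ i x, ((v i).baseChange P').restrictScalars D (mk.restrictScalars A x) =
      mk.restrictScalars A ((v i).restrictScalars A x) := fun i x => by simp [mk]
  obtain ⟨g, hg, hconst⟩ := exists_jointInj_const (D := D) (P := P') (X := P' ⊗[P] X) fun i => (v i).baseChange P'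
  exact ⟨g, hg, hconst.imp (fun h t ht => (mem_jointInjLocus_iff (R := A) _ _ hc hv t).mp (h t ht))
    fun h t ht hE => h t ht ((mem_jointInjLocus_iff (R := A) _ _ hc hv t).mpr hE)⟩

/-- Over a Noetherian ring the locus is constructible. -/
theorem isConstructible_jointInjLocus_of_noetherian {A P X : Type u} [CommRing A] [IsNoetherianRing A]
    [CommRing P] [Algebra A P] [Algebra.FiniteType A P] [AddCommGroup X] [Module P X] [Module A X]
    [IsScalarTower A P X] [Module.Finite P X] {k : ℕ} (v : Fin k → X →ₗ[P] X) :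
    IsConstructible (jointInjLocus A fun i => (v i).restrictScalars A) := by
  classical
  let E := jointInjLocus A fun i => (v i).restrictScalars A
  have hclosed : ∀ I : Ideal A, IsConstructible (zeroLocus (I : Set A)) := fun I => by
    have h := (PrimeSpectrum.isRetrocompact_zeroLocus_compl_of_fg (IsNoetherian.noetherian I)).isConstructible
      (isClosed_zeroLocus _).isOpen_compl
    simpa using h.compl
  suffices h : ∀ I : Ideal A, IsConstructible (E ∩ zeroLocus (I : Set A)) by
    simpa using h ⊥
  intro I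
  induction I using IsNoetherian.induction with
  | _ I ih =>
  by_cases hrad : (Ideal.radical I) = I
  swap
  · rw [← zeroLocus_radical]
    exact ih (Ideal.radical I) (lt_of_le_of_ne Ideal.le_radical (Ne.symm hrad))
  by_cases htop : I = ⊤
  · subst htop
    rw [show zeroLocus ((⊤ : Ideal A) : Set A) = ∅ from zeroLocus_empty_iff_eq_top.mpr rfl, Set.inter_empty]
    exact IsConstructible.empty
  by_cases hp : Ideal.IsPrime I
  · haveI := hp
    let D := A ⧸ I
    obtain ⟨g, hg, hconst⟩ := exists_const_on_domain (A := A) v D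
    obtain ⟨g₀, rfl⟩ := Ideal.Quotient.mk_surjective g
    have hlt : I < I ⊔ Ideal.span {g₀} := by
      refine lt_of_le_of_ne le_sup_left fun heq => hg (Ideal.Quotient.eq_zero_iff_mem.mpr ?_)
      rw [heq]
      exact Ideal.mem_sup_right (Ideal.mem_span_singleton_self _)
    have hset : E ∩ zeroLocus (I : Set A) =
        (E ∩ zeroLocus (I : Set A) ∩ basicOpen g₀) ∪ (E ∩ zeroLocus ((I ⊔ Ideal.span {g₀} : Ideal A) : Set A)) := by
      ext t
      constructor
      · rintro ⟨h1, h2⟩
        by_cases hgt : g₀ ∈ t.asIdeal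
        · exact Or.inr ⟨h1, SetLike.coe_subset_coe.mpr (sup_le (SetLike.coe_subset_coe.mp h2)
            ((Ideal.span_singleton_le_iff_mem _).mpr hgt))⟩
        · exact Or.inl ⟨⟨h1, h2⟩, hgt⟩
      · rintro (⟨h, -⟩ | ⟨h1, h2⟩)
        · exact h
        · exact ⟨h1, SetLike.coe_subset_coe.mpr ((le_sup_left).trans (SetLike.coe_subset_coe.mp h2))⟩
    rw [hset]
    refine IsConstructible.union ?_ (ih _ hlt)
    have hmem : ∀ t : PrimeSpectrum A, t ∈ zeroLocus (I : Set A) → g₀ ∉ t.asIdeal →
        ∃ t' : PrimeSpectrum D, PrimeSpectrum.comap (algebraMap A D) t' = t ∧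
          Ideal.Quotient.mk I g₀ ∉ t'.asIdeal := by
      intro t ht hgt
      obtain ⟨t', ht'⟩ : t ∈ Set.range (PrimeSpectrum.comap (Ideal.Quotient.mk I)) := by
        rw [range_comap_of_surjective _ _ Ideal.Quotient.mk_surjective, Ideal.mk_ker]
        exact ht
      refine ⟨t', ht', fun h => hgt ?_⟩
      rw [← ht']
      exact h
    rcases hconst with hall | hnone
    · rw [show E ∩ zeroLocus (I : Set A) ∩ basicOpen g₀ = zeroLocus (I : Set A) ∩ basicOpen g₀ from ?_]
      · exact (hclosed I).inter PrimeSpectrum.isConstructible_basicOpen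
      · ext t
        refine ⟨fun h => ⟨h.1.2, h.2⟩, fun ⟨h1, h2⟩ => ⟨⟨?_, h1⟩, h2⟩⟩
        obtain ⟨t', rfl, ht'⟩ := hmem t h1 h2
        exact hall t' ht'
    · rw [show E ∩ zeroLocus (I : Set A) ∩ basicOpen g₀ = ∅ from ?_]
      · exact IsConstructible.empty
      · refine Set.eq_empty_iff_forall_notMem.mpr ?_
        rintro t ⟨⟨hE, h1⟩, h2⟩
        obtain ⟨t', rfl, ht'⟩ := hmem t h1 h2
        exact hnone t' ht' hE
  · obtain ⟨a, b, ha, hb, hab⟩ : ∃ a b, a ∉ I ∧ b ∉ I ∧ a * b ∈ I := by
      by_contra! hcon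
      exact hp ⟨htop, fun {x y} hxy => or_iff_not_and_not.mpr fun ⟨hx, hy⟩ => hcon x y hx hy hxy⟩
    have hset : zeroLocus (I : Set A) = zeroLocus ((I ⊔ Ideal.span {a} : Ideal A) : Set A) ∪
        zeroLocus ((I ⊔ Ideal.span {b} : Ideal A) : Set A) := by
      ext t
      simp only [Set.mem_union, mem_zeroLocus, SetLike.coe_subset_coe, sup_le_iff,
        Ideal.span_singleton_le_iff_mem]
      exact ⟨fun h => (t.isPrime.mem_or_mem (h hab)).imp (⟨h, ·⟩) (⟨h, ·⟩),
        fun h => h.elim And.left And.left⟩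
    rw [hset, Set.inter_union_distrib_left]
    have hlt : ∀ c ∉ I, I < I ⊔ Ideal.span {c} := fun c hc => lt_of_le_of_ne le_sup_left fun heq => hc (by
      rw [heq]
      exact Ideal.mem_sup_right (Ideal.mem_span_singleton_self c))
    exact (ih _ (hlt a ha)).union (ih _ (hlt b hb))

/-- The locus for data with a Noetherian model is constructible. -/
theorem isConstructible_jointInjLocus_model {R₀ P₀ M₀ A : Type u} [CommRing R₀] [IsNoetherianRing R₀]
    [CommRing P₀] [Algebra R₀ P₀] [Algebra.FiniteType R₀ P₀] [AddCommGroup M₀] [Module R₀ M₀]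
    [Module P₀ M₀] [IsScalarTower R₀ P₀ M₀] [Module.Finite P₀ M₀] [CommRing A] [Algebra R₀ A] {k : ℕ}
    (g : Fin k → P₀ ⊗[R₀] A) :
    IsConstructible (jointInjLocus A fun i =>
      ((LinearMap.lsmul (P₀ ⊗[R₀] A) (BC R₀ P₀ M₀ A) (g i)).restrictScalars A)) := by
  classical
  choose Rg hRg hmem using fun i => exists_stage_lift (R₀ := R₀) (B₀ := P₀) (g i)
  let R := Finset.univ.sup Rg
  have hR : R.FG := Finset.sup_induction (p := Subalgebra.FG) Subalgebra.fg_bot
    (fun a ha b hb => ha.sup hb) fun x _ => hRg x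
  haveI : Algebra.FiniteType R₀ R := R.fg_iff_finiteType.1 hR
  haveI : IsNoetherianRing R := Algebra.FiniteType.isNoetherianRing R₀ R
  have hlift : ∀ i, ∃ s, mapBC P₀ R.val s = g i := fun i => by
    obtain ⟨s, hs⟩ := hmem i
    refine ⟨mapBC P₀ (Subalgebra.inclusion (Finset.le_sup (Finset.mem_univ i))) s, ?_⟩
    rw [mapBC_mapBC]
    exact hs
  choose g₁ hg₁ using hlift
  haveI : Algebra.FiniteType R (P₀ ⊗[R₀] R) := by
    haveI : Algebra.IsPushout R₀ R P₀ (P₀ ⊗[R₀] R) := Algebra.IsPushout.symm inferInstance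
    exact Algebra.FiniteType.equiv inferInstance (Algebra.IsPushout.equiv R₀ R P₀ (P₀ ⊗[R₀] R))
  let X := BC R₀ P₀ M₀ A
  let X₁ := BC R₀ P₀ M₀ R
  letI : Module R X := Module.compHom X (algebraMap R A)
  haveI : IsScalarTower R A X := IsScalarTower.of_algebraMap_smul fun _ _ => rfl
  haveI : IsScalarTower R₀ R X := IsScalarTower.of_algebraMap_smul fun r x => by
    show algebraMap R A (algebraMap R₀ R r) • x = r • x
    rw [← IsScalarTower.algebraMap_apply, algebraMap_smul]
  let c : X₁ →ₗ[R] X := (isBaseChange_toBC (R₀ := R₀) (B₀ := P₀) (M₀ := M₀) R).lift (toBC R₀ P₀ M₀ A)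
  have hc : IsBaseChange A c := by
    refine IsBaseChange.of_comp (isBaseChange_toBC (R₀ := R₀) (B₀ := P₀) (M₀ := M₀) R) ?_
    have : c.restrictScalars R₀ ∘ₗ toBC R₀ P₀ M₀ R = toBC R₀ P₀ M₀ A :=
      LinearMap.ext fun m => (isBaseChange_toBC (R₀ := R₀) (B₀ := P₀) (M₀ := M₀) R).lift_eq _ m
    rw [this]
    exact isBaseChange_toBC (R₀ := R₀) (B₀ := P₀) (M₀ := M₀) A
  have hcw : ∀ (w : P₀ ⊗[R₀] R) (m : M₀), c (w ⊗ₜ[P₀] m) = mapBC P₀ R.val w ⊗ₜ[P₀] m := by
    intro w m
    induction w using TensorProduct.induction_on with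
    | zero => simp
    | tmul b r =>
      have h1 : ((b ⊗ₜ[R₀] r : P₀ ⊗[R₀] R) ⊗ₜ[P₀] m : X₁) = r • toBC R₀ P₀ M₀ R (b • m) := by
        rw [toBC_apply, tmul_smul, smul_tmul', smul_tmul']
        congr 1
        rw [Algebra.smul_def, Algebra.smul_def, mul_one]
        show _ = ((1 : P₀) ⊗ₜ[R₀] r) * (b ⊗ₜ[R₀] (1 : R))
        rw [Algebra.TensorProduct.tmul_mul_tmul, one_mul, mul_one]
      rw [h1, map_smul, (isBaseChange_toBC (R₀ := R₀) (B₀ := P₀) (M₀ := M₀) R).lift_eq, toBC_apply,
        tmul_smul, smul_tmul', ← algebraMap_smul A r, smul_tmul']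
      congr 1
      rw [Algebra.smul_def, Algebra.smul_def, mul_one]
      show ((1 : P₀) ⊗ₜ[R₀] (r : A)) * (b ⊗ₜ[R₀] (1 : A)) = _
      rw [Algebra.TensorProduct.tmul_mul_tmul, one_mul, mul_one]
      rfl
    | add a b ha hb => rw [add_tmul, map_add, ha, hb, map_add, add_tmul]
  have hv : ∀ i x, (LinearMap.lsmul (P₀ ⊗[R₀] A) X (g i)).restrictScalars A (c x) =
      c ((LinearMap.lsmul (P₀ ⊗[R₀] R) X₁ (g₁ i)).restrictScalars R x) := by
    intro i x
    show g i • c x = c (g₁ i • x)
    induction x using TensorProduct.induction_on with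
    | zero => simp
    | tmul w m => rw [smul_tmul', smul_eq_mul, hcw, hcw, map_mul, hg₁, smul_tmul', smul_eq_mul]
    | add a b ha hb => rw [map_add, smul_add, ha, hb, smul_add, map_add]
  have h₁ := isConstructible_preimage_comap (algebraMap R A)
    (isConstructible_jointInjLocus_of_noetherian (A := R) fun i => LinearMap.lsmul (P₀ ⊗[R₀] R) X₁ (g₁ i))
  convert h₁ using 1
  ext t
  exact mem_jointInjLocus_iff (R := R) _ _ hc hv t

/-- The locus where elements are jointly injective on the fibres of a finitely presented module is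
constructible. -/
theorem isConstructible_jointInjLocus {A B : Type u} [CommRing A] [CommRing B] [Algebra A B]
    [Algebra.FinitePresentation A B] (N : Type u) [AddCommGroup N] [Module B N] [Module A N]
    [IsScalarTower A B N] [Module.FinitePresentation B N] {k : ℕ} (g : Fin k → B) :
    IsConstructible (jointInjLocus A fun i => (LinearMap.lsmul B N (g i)).restrictScalars A) := by
  obtain ⟨n, π, hπ, hker⟩ := Algebra.FinitePresentation.out (R := A) (A := B)
  let P := MvPolynomial (Fin n) A
  letI : Algebra P B := π.toRingHom.toAlgebra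
  haveI : IsScalarTower A P B := IsScalarTower.of_algebraMap_eq fun x => (π.commutes x).symm
  haveI : Module.FinitePresentation P B :=
    Module.finitePresentation_of_surjective (Algebra.linearMap P B) hπ hker
  letI : Module P N := Module.compHom N π.toRingHom
  haveI : IsScalarTower P B N := IsScalarTower.of_algebraMap_smul fun _ _ => rfl
  haveI : IsScalarTower A P N := IsScalarTower.of_algebraMap_smul fun a x => by
    show π (algebraMap A P a) • x = a • x
    rw [π.commutes, algebraMap_smul]
  haveI : Module.FinitePresentation P N := Module.FinitePresentation.trans P N B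
  obtain ⟨R₀, _, _, P₀, _, _, M₀, _, _, _, _, φ, e, hN, hP, hM, hφ, hA, he⟩ :=
    exists_poly_model (A := A) (n := n) N
  haveI := hN
  haveI := hP
  haveI := hM
  choose s hs using fun i => (hπ.comp hφ) (g i)
  let eA : BC R₀ P₀ M₀ A ≃ₗ[A] N :=
    { e with
      map_smul' := fun a x => by
        show e (a • x) = a • e x
        rw [← algebraMap_smul (P₀ ⊗[R₀] A) a x, he, hA, algebraMap_smul] }
  convert isConstructible_jointInjLocus_model (M₀ := M₀) s using 1
  ext t
  refine jointInj_baseChange _ _ (IsBaseChange.ofEquiv eA) (fun i x => ?_) _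
  show g i • e x = e (s i • x)
  rw [he, ← hs i]
  rfl

end Groth.Agent.H7Flat.Chain
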