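import Groth.Agent.H7Flat.Chain.Main
import Groth.Agent.H7Flat.Chain.Transport
import Groth.Agent.H7Flat.FibreSuppDim
import Mathlib

/-!
# Transport of a one-step dévissage along an etale neighbourhood of the smooth algebra
-/

set_option autoImplicit false
set_option linter.style.haveILetI false
set_option backward.isDefEq.respectTransparency false
set_option maxHeartbeats 1000000

universe u

open TensorProduct

attribute [local instance] Algebra.TensorProduct.rightAlgebra

namespace Groth.Agent.H7Flat.Chain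

open Groth.Agent.H7Flat.ElemDev Groth.Agent.H8Props.Devissage

section Dims

variable {R S C D : Type u} [CommRing R] [CommRing S] [CommRing C] [CommRing D] [Algebra R S]
  [Algebra.FiniteType R S] [Algebra R C] [Algebra S C] [IsScalarTower R S C] [Algebra R D]
  [Algebra.Smooth R D] [Algebra D C] [IsScalarTower R D C] [Module.Finite D C]
  {N G : Type u} [AddCommGroup N] [Module S N] [AddCommGroup G] [Module C G]
  [Module S G] [IsScalarTower S C G] [Module D G] [IsScalarTower D C G] [Module.Finite C G]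
  (p : Ideal R) [p.IsPrime] {n : ℕ}

/-- Dimensions of the support in the fibre when the generic point of the smooth fibre is in the support. -/
theorem dims_oneStep (hSC : Function.Surjective (algebraMap S C)) (e : N ≃ₗ[S] G)
    (hn : FlatCA.SmoothRelDim n R D) (hgi : FlatCA.GeomIrredFibres R D)
    [(p.map (algebraMap R D)).IsPrime]
    (hG : (⟨p.map (algebraMap R D), inferInstance⟩ : PrimeSpectrum D) ∈ Module.support D G)
    (y : Ideal D) [y.IsPrime] [y.LiesOver p] (z : Ideal C) [z.IsPrime]
    (huniq : ∀ (Q : Ideal C) [Q.IsPrime], Q.LiesOver y → Q = z) (q : Ideal S) [q.IsPrime]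
    [q.LiesOver p] (hzq : q = z.comap (algebraMap S C)) :
    Module.supportDim (p.Fiber S) (FlatCA.fiberMod p S N) = n ∧
    ∃ (ξ : PrimeSpectrum (p.Fiber S)) (hξ : ξ ∈ Module.support (p.Fiber S) (FlatCA.fiberMod p S N)),
      ξ.asIdeal = FlatCA.fiberIdeal p q ∧
      FlatMor.localDim (Module.support (p.Fiber S) (FlatCA.fiberMod p S N)) ⟨ξ, hξ⟩ = n := by
  haveI : Module.Finite S C := Module.Finite.of_surjective (Algebra.linearMap S C) hSC
  haveI : Module.Finite S G := Module.Finite.trans C G
  haveI : Module.Finite D G := Module.Finite.trans C G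
  haveI : Module.Finite S N := Module.Finite.equiv e.symm
  haveI : Algebra.IsIntegral S C := Algebra.IsIntegral.of_finite S C
  haveI : Algebra.IsIntegral D C := Algebra.IsIntegral.of_finite D C
  haveI := liesOver_map R D p hgi
  let η := p.map (algebraMap R D)
  have hηle : ∀ x : PrimeSpectrum D, x.asIdeal.comap (algebraMap R D) = p → η ≤ x.asIdeal := fun x hx =>
    Ideal.map_le_iff_le_comap.mpr hx.ge
  -- the dimension of the support
  have hsd : Module.supportDim (p.Fiber S) (FlatCA.fiberMod p S N) = n := by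
    rw [FibreSuppDim.supportDim_eq_krullDim]
    have hNG : fibreSupp (S := S) p N = fibreSupp (S := S) p G := by
      simp only [fibreSupp, e.support_eq]
    rw [hNG, ← FibreSuppDim.krullDim_fibreSupp_of_isIntegral (D := S) (C := C) (G := G) p,
      FibreSuppDim.krullDim_fibreSupp_of_isIntegral (D := D) (C := C) (G := G) p, ← dim_fibre p hn hgi]
    have hall : fibreSupp (S := D) p G = PrimeSpectrum.comap (algebraMap R D) ⁻¹' {⟨p, inferInstance⟩} :=
      Set.ext fun x => ⟨fun hx => hx.1, fun hx => ⟨hx, Module.mem_support_mono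
        (hηle x (congrArg PrimeSpectrum.asIdeal hx)) hG⟩⟩
    rw [hall]
    exact Order.krullDim_eq_of_orderIso (PrimeSpectrum.preimageOrderIsoFiber R D ⟨p, inferInstance⟩)
  -- a prime of `C` below `z`, over the generic point of the fibre of `D`
  have hann : (Module.annihilator C G).comap (algebraMap D C) = Module.annihilator D G := by
    ext d
    simp only [Ideal.mem_comap, Module.mem_annihilator, algebraMap_smul]
  obtain ⟨c₀, hc₀, hc₀p, hc₀η⟩ := Ideal.exists_ideal_over_prime_of_isIntegral η
    (Module.annihilator C G) (hann ▸ (Module.mem_support_iff_of_finite.mp hG))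
  haveI := hc₀p
  have hc₀z : c₀ ≤ z := by
    obtain ⟨z₂, hz₂, hz₂p, hz₂y⟩ := Ideal.exists_ideal_over_prime_of_isIntegral y c₀
      (hc₀η.le.trans (hηle ⟨y, inferInstance⟩ (y.over_def p).symm))
    haveI := hz₂p
    exact (huniq z₂ ⟨hz₂y.symm⟩) ▸ hz₂
  haveI : c₀.LiesOver p := ⟨by
    rw [Ideal.under_def, IsScalarTower.algebraMap_eq R D C, ← Ideal.comap_comap, hc₀η]
    exact η.over_def p⟩
  let φ : p.Fiber S →ₐ[p.ResidueField] p.Fiber C :=
    Algebra.TensorProduct.map (AlgHom.id p.ResidueField p.ResidueField) (IsScalarTower.toAlgHom R S C)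
  let ψ : p.Fiber D →ₐ[p.ResidueField] p.Fiber C :=
    Algebra.TensorProduct.map (AlgHom.id p.ResidueField p.ResidueField) (IsScalarTower.toAlgHom R D C)
  have hφ : Function.Surjective φ := fun z => by
    induction z using TensorProduct.induction_on with
    | zero => exact ⟨0, map_zero _⟩
    | tmul a c =>
      obtain ⟨s, rfl⟩ := hSC c
      exact ⟨a ⊗ₜ s, by simp [φ]⟩
    | add a b ha hb =>
      obtain ⟨a', rfl⟩ := ha
      obtain ⟨b', rfl⟩ := hb
      exact ⟨a' + b', map_add _ _ _⟩
  let Qc : Ideal (p.Fiber C) := FlatCA.fiberIdeal p c₀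
  haveI : Qc.IsPrime := isPrime_fiberIdeal p c₀
  have hQcc : Qc.comap (algebraMap C (p.Fiber C)) = c₀ := comap_fiberIdeal p c₀
  let Q : PrimeSpectrum (p.Fiber S) := ⟨Qc.comap φ.toRingHom, inferInstance⟩
  have hφc : φ.toRingHom.comp (algebraMap S (p.Fiber S)) =
      (algebraMap C (p.Fiber C)).comp (algebraMap S C) := RingHom.ext fun s => by
    show φ ((1 : p.ResidueField) ⊗ₜ[R] s) = (1 : p.ResidueField) ⊗ₜ[R] algebraMap S C s
    simp [φ]
  have hψc : ψ.toRingHom.comp (algebraMap D (p.Fiber D)) =
      (algebraMap C (p.Fiber C)).comp (algebraMap D C) := RingHom.ext fun d => by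
    show ψ ((1 : p.ResidueField) ⊗ₜ[R] d) = (1 : p.ResidueField) ⊗ₜ[R] algebraMap D C d
    simp [ψ]
  have hQS : Q.asIdeal.comap (algebraMap S (p.Fiber S)) = c₀.comap (algebraMap S C) := by
    rw [Ideal.comap_comap, hφc, ← Ideal.comap_comap, hQcc]
  haveI := finite_fiberMod R S p N
  let x : PrimeSpectrum (p.Fiber S) := ⟨FlatCA.fiberIdeal p q, isPrime_fiberIdeal p q⟩
  have hQx : Q ≤ x := by
    show Q.asIdeal ≤ FlatCA.fiberIdeal p q
    rw [← fiberIdeal_comap p Q.asIdeal, hQS, hzq]
    exact Ideal.map_mono (Ideal.comap_mono hc₀z)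
  have hQmem : Q ∈ Module.support (p.Fiber S) (FlatCA.fiberMod p S N) := by
    refine (mem_support_fiberMod_iff R S p N Q).mpr (Module.mem_support_iff_of_finite.mpr ?_)
    intro s hs
    show s ∈ Q.asIdeal.comap (algebraMap S (p.Fiber S))
    rw [hQS]
    refine hc₀ (Module.mem_annihilator.mpr fun g => e.symm.injective ?_)
    rw [algebraMap_smul, map_zero, map_smul]
    exact Module.mem_annihilator.mp hs _
  have hxmem : x ∈ Module.support (p.Fiber S) (FlatCA.fiberMod p S N) := Module.mem_support_mono hQx hQmem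
  refine ⟨hsd, x, hxmem, rfl, le_antisymm ?_ ?_⟩
  · refine (localDim_le_topologicalKrullDim _).trans ?_
    rw [← supportDim_eq_topologicalKrullDim, hsd]
  · rw [localDim_supp (k := p.ResidueField) _ x hxmem]
    refine le_iSup_of_le ⟨Q, hQmem, hQx⟩ ?_
    let f : p.Fiber S →+* p.Fiber C ⧸ Qc := (Ideal.Quotient.mk Qc).comp φ.toRingHom
    have hQe : RingHom.ker f = Q.asIdeal := by rw [← RingHom.comap_ker, Ideal.mk_ker]
    have h1 : ringKrullDim (p.Fiber S ⧸ Q.asIdeal) = ringKrullDim (p.Fiber C ⧸ Qc) := by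
      rw [← hQe]
      exact ringKrullDim_eq_of_ringEquiv (RingHom.quotientKerEquivOfSurjective (f := f)
        (Ideal.Quotient.mk_surjective.comp hφ))
    have hint : ψ.toRingHom.IsIntegral := by
      intro z
      induction z using TensorProduct.induction_on with
      | zero => exact ψ.toRingHom.isIntegralElem_zero
      | add a b ha hb => exact ha.add _ hb
      | tmul a c =>
        have ha : ψ.toRingHom.IsIntegralElem (a ⊗ₜ[R] (1 : C)) := by
          have : a ⊗ₜ[R] (1 : C) = ψ (a ⊗ₜ (1 : D)) := by simp [ψ]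
          rw [this]
          exact ψ.toRingHom.isIntegralElem_map
        have hc : ψ.toRingHom.IsIntegralElem ((1 : p.ResidueField) ⊗ₜ[R] c) := by
          obtain ⟨g, hg, hgc⟩ := (Algebra.IsIntegral.isIntegral (R := D) c)
          refine ⟨g.map (algebraMap D (p.Fiber D)), hg.map _, ?_⟩
          rw [Polynomial.eval₂_map, hψc]
          show Polynomial.eval₂ _ (algebraMap C (p.Fiber C) c) g = 0
          rw [← Polynomial.hom_eval₂, hgc, map_zero]
        have := ha.mul _ hc
        simpa using this
    let P : Ideal (p.Fiber D) := Qc.comap ψ.toRingHom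
    have hP : P = ⊥ := by
      haveI := isDomain_fibre R D p hgi
      rw [← fiberIdeal_comap p P, ← fiberIdeal_comap p (⊥ : Ideal (p.Fiber D)), comap_bot_fibre R D p,
        Ideal.comap_comap, hψc, ← Ideal.comap_comap, hQcc, hc₀η]
    show (n : WithBot ℕ∞) ≤ ringKrullDim (p.Fiber S ⧸ Q.asIdeal)
    rw [h1, dim_quotient_of_isIntegral ψ.toRingHom hint Qc, show Qc.comap ψ.toRingHom = ⊥ from hP,
      dim_quotient_bot, dim_fibre p hn hgi]

end Dims

/-- The etale neighbourhood of `S` carrying the transported closed subscheme. -/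
theorem exists_nhd_closedSub {R S C D R' D' C' : Type u} [CommRing R] [CommRing S] [CommRing C] [CommRing D]
    [CommRing R'] [CommRing D'] [CommRing C']
    [Algebra R S] [Algebra R C] [Algebra S C] [IsScalarTower R S C]
    [Algebra R D] [Algebra D C] [IsScalarTower R D C] [Algebra R R'] [Algebra R D'] [Algebra R' D']
    [IsScalarTower R R' D'] [Algebra D D'] [IsScalarTower R D D'] [Algebra C C'] [Algebra D' C']
    [Algebra D C'] [Algebra R' C'] [IsScalarTower D D' C'] [IsScalarTower D C C'] [IsScalarTower R' D' C']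
    [Algebra R C'] [IsScalarTower R C C'] [Algebra S C'] [IsScalarTower S C C']
    [Algebra.Etale R R'] [Algebra.Etale D D'] [Algebra.IsPushout D D' C C']
    (hSC : Function.Surjective (algebraMap S C))
    (y' : Ideal D') [y'.IsPrime] (hfy : FracSurj (algebraMap D D') y')
    (p' : Ideal R') [p'.IsPrime] [y'.LiesOver p'] (q : Ideal S) [q.IsPrime]
    (z : Ideal C) [z.IsPrime] (hzq : q = z.comap (algebraMap S C)) (z' : Ideal C') [z'.IsPrime]
    (hz'z : z'.comap (algebraMap C C') = z) (hz'y : z'.comap (algebraMap D' C') = y') :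
    ∃ (T : Type u) (_ : CommRing T) (_ : Algebra S T) (_ : Algebra R' T) (_ : Algebra R T)
      (_ : IsScalarTower R S T) (_ : IsScalarTower R R' T) (_ : Algebra T C') (_ : IsScalarTower S T C')
      (_ : IsScalarTower R' T C') (q' : Ideal T) (_ : q'.IsPrime),
      FlatCA.IsEtaleNhd S T q q' ∧ q' = z'.comap (algebraMap T C') ∧ q'.LiesOver p' ∧
      Function.Surjective (algebraMap T C') ∧ Algebra.IsPushout S T C C' := by
  let A := R' ⊗[R] S
  let B := R' ⊗[R] C
  let ι : A →ₐ[R'] B := Algebra.TensorProduct.map (AlgHom.id R' R') (IsScalarTower.toAlgHom R S C)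
  letI : Algebra A B := ι.toRingHom.toAlgebra
  haveI : IsScalarTower R' A B := IsScalarTower.of_algebraMap_eq fun x => (ι.commutes x).symm
  letI : Algebra S B := ((algebraMap C B).comp (algebraMap S C)).toAlgebra
  haveI : IsScalarTower S C B := IsScalarTower.of_algebraMap_eq fun _ => rfl
  haveI : IsScalarTower S A B := IsScalarTower.of_algebraMap_eq fun s => by
    show (1 : R') ⊗ₜ[R] algebraMap S C s = ι ((1 : R') ⊗ₜ[R] s)
    rfl
  haveI hAB : Algebra.IsPushout S A C B := isPushout_middle R S C R' A B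
  haveI : IsScalarTower R R' C' := IsScalarTower.of_algebraMap_eq fun r => by
    rw [IsScalarTower.algebraMap_apply R C C', IsScalarTower.algebraMap_apply R D C,
      ← IsScalarTower.algebraMap_apply D C C', IsScalarTower.algebraMap_apply D D' C',
      ← IsScalarTower.algebraMap_apply R D D', IsScalarTower.algebraMap_apply R R' D',
      ← IsScalarTower.algebraMap_apply R' D' C']
  let ψ : B →ₐ[R] C' := Algebra.TensorProduct.lift (IsScalarTower.toAlgHom R R' C')
    (IsScalarTower.toAlgHom R C C') fun _ _ => .all _ _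
  letI : Algebra B C' := ψ.toRingHom.toAlgebra
  haveI : IsScalarTower C B C' := IsScalarTower.of_algebraMap_eq fun c => by
    show algebraMap C C' c = ψ ((1 : R') ⊗ₜ[R] c)
    rw [Algebra.TensorProduct.lift_tmul, map_one, one_mul]
    rfl
  haveI : IsScalarTower R' B C' := IsScalarTower.of_algebraMap_eq fun x => by
    show algebraMap R' C' x = ψ (x ⊗ₜ[R] (1 : C))
    rw [Algebra.TensorProduct.lift_tmul, map_one, mul_one]
    rfl
  haveI : Algebra.Etale C B :=
    Algebra.Etale.of_equiv (A := C ⊗[R] R')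
      ({ (Algebra.TensorProduct.comm R C R').toRingEquiv with
        commutes' := fun d => by
          show Algebra.TensorProduct.comm R C R' (d ⊗ₜ 1) = (1 : R') ⊗ₜ d
          simp } : C ⊗[R] R' ≃ₐ[C] B)
  haveI : Algebra.Etale C C' :=
    haveI : Algebra.IsPushout D C D' C' := Algebra.IsPushout.symm ‹_›
    Algebra.Etale.of_equiv (Algebra.IsPushout.equiv D C D' C')
  haveI : Algebra.Etale B C' := Algebra.Etale.of_restrictScalars C B C'
  letI : Algebra A C' := ((algebraMap B C').comp (algebraMap A B)).toAlgebra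
  haveI : IsScalarTower A B C' := IsScalarTower.of_algebraMap_eq fun _ => rfl
  have hι : Function.Surjective (algebraMap A B) := fun b => by
    induction b using TensorProduct.induction_on with
    | zero => exact ⟨0, map_zero _⟩
    | tmul x c =>
      obtain ⟨s, rfl⟩ := hSC c
      exact ⟨x ⊗ₜ s, rfl⟩
    | add a b ha hb =>
      obtain ⟨a', rfl⟩ := ha
      obtain ⟨b', rfl⟩ := hb
      exact ⟨a' + b', map_add _ _ _⟩
  obtain ⟨T, _, _, _, _, hT, hTpush⟩ := exists_etale_lift_surjective (A := A) (B := B) (C := C') hι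
  letI : Algebra S T := ((algebraMap A T).comp (algebraMap S A)).toAlgebra
  haveI : IsScalarTower S A T := IsScalarTower.of_algebraMap_eq fun _ => rfl
  letI : Algebra R' T := ((algebraMap A T).comp (algebraMap R' A)).toAlgebra
  haveI : IsScalarTower R' A T := IsScalarTower.of_algebraMap_eq fun _ => rfl
  letI : Algebra R T := ((algebraMap R' T).comp (algebraMap R R')).toAlgebra
  haveI : IsScalarTower R R' T := IsScalarTower.of_algebraMap_eq fun _ => rfl
  haveI : IsScalarTower R S T := IsScalarTower.of_algebraMap_eq fun r => by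
    show algebraMap A T (algebraMap R' A (algebraMap R R' r)) = algebraMap A T (algebraMap S A (algebraMap R S r))
    refine congrArg _ ?_
    show (algebraMap R R' r) ⊗ₜ[R] (1 : S) = (1 : R') ⊗ₜ[R] algebraMap R S r
    rw [Algebra.algebraMap_eq_smul_one, Algebra.algebraMap_eq_smul_one, TensorProduct.smul_tmul]
  haveI : IsScalarTower S C C' := inferInstance
  haveI : IsScalarTower S B C' := IsScalarTower.of_algebraMap_eq fun s => by
    rw [IsScalarTower.algebraMap_apply S C B, ← IsScalarTower.algebraMap_apply C B C',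
      ← IsScalarTower.algebraMap_apply S C C']
  haveI : IsScalarTower S T C' := IsScalarTower.of_algebraMap_eq fun s => by
    show _ = algebraMap T C' (algebraMap A T (algebraMap S A s))
    rw [← IsScalarTower.algebraMap_apply A T C', IsScalarTower.algebraMap_apply A B C',
      ← IsScalarTower.algebraMap_apply S A B, IsScalarTower.algebraMap_apply S C B,
      ← IsScalarTower.algebraMap_apply C B C', ← IsScalarTower.algebraMap_apply S C C']
  haveI : IsScalarTower R' T C' := IsScalarTower.of_algebraMap_eq fun x => by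
    show algebraMap R' C' x = algebraMap T C' (algebraMap A T (algebraMap R' A x))
    rw [← IsScalarTower.algebraMap_apply A T C', IsScalarTower.algebraMap_apply A B C',
      ← IsScalarTower.algebraMap_apply R' A B, ← IsScalarTower.algebraMap_apply R' B C']
  haveI : IsScalarTower S A C' := IsScalarTower.of_algebraMap_eq fun s => by
    rw [IsScalarTower.algebraMap_apply S T C', IsScalarTower.algebraMap_apply S A T,
      ← IsScalarTower.algebraMap_apply A T C']
  haveI hpushS : Algebra.IsPushout S T C C' :=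
    (Algebra.IsPushout.comp_iff (R := S) (S := A) (R' := C) (S' := B) (T := T) (T' := C')).mpr hTpush
  let q' := z'.comap (algebraMap T C')
  haveI : q'.LiesOver p' := ⟨by
    show p' = (z'.comap (algebraMap T C')).comap (algebraMap R' T)
    rw [Ideal.comap_comap, ← IsScalarTower.algebraMap_eq, IsScalarTower.algebraMap_eq R' D' C',
      ← Ideal.comap_comap, hz'y]
    exact y'.over_def p'⟩
  have hqq' : q = q'.comap (algebraMap S T) := by
    show q = (z'.comap (algebraMap T C')).comap (algebraMap S T)
    rw [Ideal.comap_comap, ← IsScalarTower.algebraMap_eq, IsScalarTower.algebraMap_eq S C C',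
      ← Ideal.comap_comap, hz'z]
    exact hzq
  have hTC : Function.Surjective (algebraMap T C') := fun c => by
    obtain ⟨x, rfl⟩ := (Algebra.IsPushout.equiv A T B C').surjective c
    induction x using TensorProduct.induction_on with
    | zero => exact ⟨0, by simp⟩
    | add x y hx hy =>
      obtain ⟨a, ha⟩ := hx
      obtain ⟨b, hb⟩ := hy
      exact ⟨a + b, by rw [map_add, map_add, ha, hb]⟩
    | tmul t b =>
      obtain ⟨a, rfl⟩ := hι b
      refine ⟨t * algebraMap A T a, ?_⟩
      rw [Algebra.IsPushout.equiv_tmul, map_mul, ← IsScalarTower.algebraMap_apply A T C',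
        ← IsScalarTower.algebraMap_apply A B C']
  have hfC : FracSurj (algebraMap S C') z' := by
    rw [IsScalarTower.algebraMap_eq S C C']
    refine FracSurj.comp ?_ (fracSurj_of_surjective _ hSC _)
    refine fracSurj_of_generated (algebraMap D D') (algebraMap D C) (algebraMap D' C') (algebraMap C C')
      (by rw [← IsScalarTower.algebraMap_eq, ← IsScalarTower.algebraMap_eq]) (closure_range_pushout (A := D)) z' ?_
    rw [hz'y]
    exact hfy
  have hfT : FracSurj (algebraMap S T) q' := fun t => by
    obtain ⟨c, d, hd, hcd⟩ := hfC (algebraMap T C' t)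
    refine ⟨c, d, fun hm => hd (by rw [IsScalarTower.algebraMap_apply S T C']; exact hm), ?_⟩
    rw [Ideal.mem_comap, map_sub, map_mul, ← IsScalarTower.algebraMap_apply,
      ← IsScalarTower.algebraMap_apply]
    exact hcd
  haveI : Algebra.Etale S A :=
    Algebra.Etale.of_equiv (A := S ⊗[R] R')
      ({ (Algebra.TensorProduct.comm R S R').toRingEquiv with
        commutes' := fun d => by
          show Algebra.TensorProduct.comm R S R' (d ⊗ₜ 1) = (1 : R') ⊗ₜ d
          simp } : S ⊗[R] R' ≃ₐ[S] A)
  haveI : Algebra.Etale S T := Algebra.Etale.comp S A T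
  exact ⟨T, ‹_›, inferInstance, inferInstance, inferInstance, inferInstance, inferInstance, inferInstance,
    inferInstance, inferInstance, q', inferInstance, isEtaleNhd_of_fracSurj hqq' hfT, rfl, ‹_›, hTC, hpushS⟩

section Items

variable {R S C D R' S' C' D' : Type u} [CommRing R] [CommRing S] [CommRing C] [CommRing D]
  [CommRing R'] [CommRing S'] [CommRing C'] [CommRing D']
  [Algebra R S] [Algebra R C] [Algebra S C] [IsScalarTower R S C]
  [Algebra R D] [Algebra D C] [IsScalarTower R D C]
  [Algebra R R'] [Algebra R D'] [Algebra R' D'] [IsScalarTower R R' D'] [Algebra D D']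
  [IsScalarTower R D D'] [Algebra R' S'] [Algebra S S'] [Algebra.FiniteType R' S']
  [Algebra R' C'] [Algebra S' C'] [IsScalarTower R' S' C'] [Algebra D' C'] [IsScalarTower R' D' C']
  [Algebra C C'] [Algebra S C'] [IsScalarTower S S' C'] [IsScalarTower S C C']
  [Algebra D C'] [IsScalarTower D D' C'] [IsScalarTower D C C']
  [Algebra.IsPushout S S' C C'] [Algebra.IsPushout D D' C C']
  {N G N' G' : Type u} [AddCommGroup N] [Module S N] [AddCommGroup G] [Module C G] [Module S G]
  [IsScalarTower S C G] [Module D G] [IsScalarTower D C G]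
  [AddCommGroup N'] [Module S' N'] [Module S N'] [IsScalarTower S S' N']
  [Module R' N'] [IsScalarTower R' S' N']
  [AddCommGroup G'] [Module C' G'] [Module C G'] [IsScalarTower C C' G'] [Module S' G']
  [IsScalarTower S' C' G']
  {p : Ideal R} [p.IsPrime] {y : Ideal D} [y.IsPrime] [y.LiesOver p] {z : Ideal C} [z.IsPrime]
  [z.LiesOver y] {n : ℕ}
  {p' : Ideal R'} [p'.IsPrime] {y' : Ideal D'} [y'.IsPrime] [hy'p : y'.LiesOver p']

/-- The items of a pointed one-step dévissage after transport. -/
theorem oneStep_items (hSC : Function.Surjective (algebraMap S C)) (hfp : Algebra.FinitePresentation S C)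
    [Module.Finite D C] [Module.Finite C G] (e : N ≃ₗ[S] G)
    [Algebra.Smooth R D] (hgi : FlatCA.GeomIrredFibres R D) (hpt : FlatCA.PurelyTranscendental p y)
    (huniq : ∀ (Q : Ideal C) [Q.IsPrime], Q.LiesOver y → Q = z)
    [(p.map (algebraMap R D)).IsPrime]
    (hη : (⟨p.map (algebraMap R D), inferInstance⟩ : PrimeSpectrum D) ∈ Module.support D G)
    (hR' : FlatCA.IsEtaleNhd R R' p p') [Algebra.Smooth R' D']
    (hgi' : FlatCA.GeomIrredFibres R' D') (hn' : FlatCA.SmoothRelDim n R' D')
    (hD' : FlatCA.IsEtaleNhd D D' y y')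
    {f : N →ₗ[S] N'} (hf : IsBaseChange S' f) {g : G →ₗ[C] G'} (hg : IsBaseChange C' g)
    (z' : Ideal C') [z'.IsPrime] [z'.LiesOver y'] (hz' : z'.comap (algebraMap C C') = z)
    (q' : Ideal S') [q'.IsPrime] [q'.LiesOver p'] (hq' : q' = z'.comap (algebraMap S' C')) :
    FlatCA.IsOneStepDevissage R' S' N' p' C' D' G' n ∧
    (∃ (ξ : PrimeSpectrum (p'.Fiber S')) (hξ : ξ ∈ Module.support (p'.Fiber S') (FlatCA.fiberMod p' S' N')),
      ξ.asIdeal = FlatCA.fiberIdeal p' q' ∧
      FlatMor.localDim (Module.support (p'.Fiber S') (FlatCA.fiberMod p' S' N')) ⟨ξ, hξ⟩ = n) ∧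
    (∀ (z₂ : Ideal C') [z₂.IsPrime], z₂.LiesOver y' → z₂ = z') ∧
    FlatCA.PurelyTranscendental p' y' := by
  haveI : Module.Finite D G := Module.Finite.trans C G
  obtain ⟨r, α, hα⟩ := FiberBasis.exists_basis (N := G) (p.map (algebraMap R D))
  letI : Module D' G' := Module.compHom G' (algebraMap D' C')
  haveI : IsScalarTower D' C' G' := .of_algebraMap_smul fun _ _ => rfl
  letI : Module D G' := Module.compHom G' (algebraMap D C')
  haveI : IsScalarTower D D' G' := .of_algebraMap_smul fun d x => by
    show algebraMap D' C' (algebraMap D D' d) • x = algebraMap D C' d • x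
    rw [← IsScalarTower.algebraMap_apply]
  haveI : IsScalarTower D C G' := .of_algebraMap_smul fun d x => by
    show algebraMap D C d • x = algebraMap D C' d • x
    rw [← algebraMap_smul C' (algebraMap D C d) x, ← IsScalarTower.algebraMap_apply]
  obtain ⟨hstep, -⟩ := step_map (R := R) (S' := S') (D' := D') (C' := C') (N := N) (N' := N') (G' := G')
    (p := p) (y := y) (z := z) (n := n) (α := α) (p' := p') (y' := y')
    hSC hfp e hgi hpt huniq hη hα hR' hgi' hn' hD' hf hg z' hz'
  haveI := hstep.finiteDC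
  haveI := hstep.finiteG
  haveI hp' : (p'.map (algebraMap R' D')).IsPrime := isPrime_map R' D' p' hgi'
  haveI : Module.Finite D' G' := Module.Finite.trans C' G'
  have hη' : (⟨p'.map (algebraMap R' D'), hp'⟩ : PrimeSpectrum D') ∈ Module.support D' G' := by
    by_contra hno
    obtain ⟨x, hx, -, hd⟩ := hstep.locDim
    obtain ⟨m, hm, hd'⟩ := localDim_lt (S := D') (C := D') (D := D') (N := G') (G := G') p'
      Function.surjective_id (LinearEquiv.refl D' G') hn' hgi' hno x hx
    rw [hd] at hd'
    have : n = m := by exact_mod_cast hd'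
    omega
  obtain ⟨e'⟩ := hstep.equiv
  obtain ⟨hsd, hld⟩ := dims_oneStep (N := N') (G := G') p' hstep.surjSC e' hn' hgi' hη' y' z' hstep.uniq q' hq'
  exact ⟨⟨⟨e'⟩, hstep.surjSC, hstep.fpSC, hstep.finiteDC, hstep.finiteG, hn', hgi', hsd⟩, hld,
    fun z₂ _ hz₂ => hstep.uniq z₂ hz₂, hstep.pureTrans⟩

end Items

/-- An opaque model of a pushout. -/
theorem exists_pushout_model (D D' C : Type u) [CommRing D] [CommRing D'] [CommRing C] [Algebra D D']
    [Algebra D C] :
    ∃ (C' : Type u) (_ : CommRing C') (_ : Algebra C C') (_ : Algebra D' C') (_ : Algebra D C')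
      (_ : IsScalarTower D D' C') (_ : IsScalarTower D C C'), Algebra.IsPushout D D' C C' :=
  ⟨C ⊗[D] D', inferInstance, inferInstance, inferInstance, inferInstance, inferInstance, inferInstance,
    inferInstance⟩

/-- An opaque model of a base change of a module. -/
theorem exists_baseChange_model (C C' G : Type u) [CommRing C] [CommRing C'] [Algebra C C'] [AddCommGroup G]
    [Module C G] :
    ∃ (G' : Type u) (_ : AddCommGroup G') (_ : Module C' G') (_ : Module C G') (_ : IsScalarTower C C' G')
      (g : G →ₗ[C] G'), IsBaseChange C' g :=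
  ⟨C' ⊗[C] G, inferInstance, inferInstance, inferInstance, inferInstance, TensorProduct.mk C C' G 1,
    TensorProduct.isBaseChange C G C'⟩

/-- A one-step dévissage at a point transported along an etale neighbourhood of the smooth algebra with
geometrically irreducible fibres. -/
theorem exists_oneStep_transport
    (R S : Type u) [CommRing R] [CommRing S] [Algebra R S] [Algebra.FiniteType R S]
    (N : Type u) [AddCommGroup N] [Module S N] [Module R N] [IsScalarTower R S N] [Module.Finite S N]
    (p : Ideal R) [p.IsPrime] (q : Ideal S) [q.IsPrime] [q.LiesOver p]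
    (C D G : Type u) [CommRing C] [CommRing D] [Algebra S C] [Algebra R C] [IsScalarTower R S C]
    [Algebra R D] [Algebra D C] [IsScalarTower R D C] [AddCommGroup G] [Module C G] [Module S G]
    [IsScalarTower S C G] (n : ℕ)
    (h : FlatCA.IsOneStepDevissage R S N p C D G n)
    (z : Ideal C) [z.IsPrime] (y : Ideal D) [y.IsPrime] [z.LiesOver q] [z.LiesOver y] [y.LiesOver p]
    (h1 : ∃ (ξ : PrimeSpectrum (p.Fiber S)) (hξ : ξ ∈ Module.support (p.Fiber S) (FlatCA.fiberMod p S N)),
      ξ.asIdeal = FlatCA.fiberIdeal p q ∧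
      FlatMor.localDim (Module.support (p.Fiber S) (FlatCA.fiberMod p S N)) ⟨ξ, hξ⟩ = n)
    (h3 : ∀ (z₁ : Ideal C) [z₁.IsPrime], z₁.LiesOver y → z₁ = z)
    (h4 : FlatCA.PurelyTranscendental p y)
    (R'' : Type u) [CommRing R''] [Algebra R R''] (p'' : Ideal R'') [p''.IsPrime]
    (hR : FlatCA.IsEtaleNhd R R'' p p'')
    (D'' : Type u) [CommRing D''] [Algebra R'' D''] [Algebra D D''] [Algebra R D''] [IsScalarTower R R'' D'']
    [IsScalarTower R D D''] (y'' : Ideal D'') [y''.IsPrime] [y''.LiesOver p'']
    (hD : FlatCA.IsEtaleNhd D D'' y y'') (hgi'' : FlatCA.GeomIrredFibres R'' D'') :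
    ∃ (C'' : Type u) (_ : CommRing C'') (_ : Algebra C C'') (_ : Algebra D'' C'') (_ : Algebra D C'')
      (_ : Algebra R'' C'') (_ : IsScalarTower D D'' C'') (_ : IsScalarTower D C C'') (_ : IsScalarTower R'' D'' C'')
      (z'' : Ideal C'') (_ : z''.IsPrime) (_ : z''.LiesOver z) (_ : z''.LiesOver y''),
      Algebra.IsPushout D D'' C C'' ∧
    ∃ (G'' : Type u) (_ : AddCommGroup G'') (_ : Module C'' G'') (_ : Module C G'') (_ : IsScalarTower C C'' G'')
      (gG : G →ₗ[C] G''), IsBaseChange C'' gG ∧
    ∃ (S'' : Type u) (_ : CommRing S'') (_ : Algebra S S'') (_ : Algebra R'' S'') (_ : Algebra R S'')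
      (_ : IsScalarTower R S S'') (_ : IsScalarTower R R'' S'') (q'' : Ideal S'') (_ : q''.IsPrime)
      (_ : Algebra S'' C'') (_ : Algebra S C'') (_ : IsScalarTower S S'' C'') (_ : IsScalarTower S C C'')
      (_ : IsScalarTower R'' S'' C'') (_ : Module S'' G'') (_ : IsScalarTower S'' C'' G''),
      FlatCA.IsEtaleNhd S S'' q q'' ∧ z''.LiesOver q'' ∧
    ∃ (N'' : Type u) (_ : AddCommGroup N'') (_ : Module S'' N'') (_ : Module S N'') (_ : IsScalarTower S S'' N'')
      (_ : Module R'' N'') (_ : IsScalarTower R'' S'' N'') (gN : N →ₗ[S] N''), IsBaseChange S'' gN ∧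
      FlatCA.IsOneStepDevissage R'' S'' N'' p'' C'' D'' G'' n ∧
      (∃ (ξ : PrimeSpectrum (p''.Fiber S'')) (hξ : ξ ∈ Module.support (p''.Fiber S'') (FlatCA.fiberMod p'' S'' N'')),
        ξ.asIdeal = FlatCA.fiberIdeal p'' q'' ∧
        FlatMor.localDim (Module.support (p''.Fiber S'') (FlatCA.fiberMod p'' S'' N'')) ⟨ξ, hξ⟩ = n) ∧
      (∀ (z₂ : Ideal C'') [z₂.IsPrime], z₂.LiesOver y'' → z₂ = z'') ∧
      FlatCA.PurelyTranscendental p'' y'' := by
  classical
  obtain ⟨⟨e⟩, hSC, hfp, hfin, hfinG, hn, hgi, -⟩ := h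
  haveI := hfin
  haveI := hfinG
  haveI : Algebra.Smooth R D := smooth_of_relDim hn
  letI : Module D G := Module.compHom G (algebraMap D C)
  haveI : IsScalarTower D C G := .of_algebraMap_smul fun _ _ => rfl
  haveI : Module.Finite D G := Module.Finite.trans C G
  haveI hpη : (p.map (algebraMap R D)).IsPrime := isPrime_map R D p hgi
  have hη : (⟨p.map (algebraMap R D), inferInstance⟩ : PrimeSpectrum D) ∈ Module.support D G := by
    by_contra hno
    obtain ⟨ξ, hξ, -, hd⟩ := h1
    obtain ⟨m, hm, hd'⟩ := localDim_lt p hSC e hn hgi hno ξ hξ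
    rw [hd] at hd'
    have : n = m := by exact_mod_cast hd'
    omega
  obtain ⟨hyy', hfy⟩ := isEtaleNhd_fracSurj hD
  haveI : Algebra.Etale D D'' := hD.1
  haveI : Algebra.Etale R R'' := hR.1
  obtain ⟨hsm, hn''⟩ := smooth_nhd (R' := R'') (D' := D'') hn
  haveI := hsm
  obtain ⟨C'', _, _, _, _, _, _, hpushD⟩ := exists_pushout_model D D'' C
  haveI := hpushD
  letI : Algebra R'' C'' := ((algebraMap D'' C'').comp (algebraMap R'' D'')).toAlgebra
  haveI : IsScalarTower R'' D'' C'' := IsScalarTower.of_algebraMap_eq fun _ => rfl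
  letI : Algebra R C'' := ((algebraMap C C'').comp (algebraMap R C)).toAlgebra
  haveI : IsScalarTower R C C'' := IsScalarTower.of_algebraMap_eq fun _ => rfl
  letI : Algebra S C'' := ((algebraMap C C'').comp (algebraMap S C)).toAlgebra
  haveI : IsScalarTower S C C'' := IsScalarTower.of_algebraMap_eq fun _ => rfl
  obtain ⟨z', hz', hz'z, hz'y⟩ :
      ∃ z' : Ideal C'', z'.IsPrime ∧ z'.comap (algebraMap C C'') = z ∧ z'.comap (algebraMap D'' C'') = y'' := by
    obtain ⟨Q, hQ, hQy, hQz⟩ := exists_prime_tensor (R := D) (A := D'') (B := C) y'' z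
      ((z.over_def y).symm.trans hyy') hfy
    let E := Algebra.IsPushout.equiv D D'' C C''
    refine ⟨Q.comap E.symm.toRingEquiv.toRingHom, Ideal.IsPrime.comap _, ?_, ?_⟩
    · rw [Ideal.comap_comap, ← hQz]
      refine congrArg (fun f => Q.comap f) (RingHom.ext fun c => E.injective ?_)
      show E (E.symm (algebraMap C C'' c)) = E ((1 : D'') ⊗ₜ[D] c)
      rw [AlgEquiv.apply_symm_apply, Algebra.IsPushout.equiv_tmul, map_one, one_mul]
    · rw [Ideal.comap_comap, ← hQy]
      refine congrArg (fun f => Q.comap f) (RingHom.ext fun c => ?_)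
      show E.symm (algebraMap D'' C'' c) = c ⊗ₜ[D] (1 : C)
      rw [AlgEquiv.commutes]
      rfl
  haveI := hz'
  haveI : z'.LiesOver z := ⟨hz'z.symm⟩
  haveI : z'.LiesOver y'' := ⟨hz'y.symm⟩
  obtain ⟨T, iT, iST, iR''T, iRT, tRST, tRRT, iTC, tSTC, tRTC, q', iq', hT, hq', hq'p, hTC, hpushS⟩ :=
    exists_nhd_closedSub (R := R) (D := D) (R' := R'') (D' := D'') (C' := C'') hSC y'' hfy p'' q z (z.over_def q) z' hz'z hz'y
  haveI := hq'p
  haveI := hpushS
  haveI : Algebra.Etale S T := hT.1
  haveI : Algebra.FiniteType R T := Algebra.FiniteType.trans (inferInstance : Algebra.FiniteType R S) inferInstance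
  haveI : Algebra.FiniteType R'' T := Algebra.FiniteType.of_restrictScalars_finiteType R R'' T
  obtain ⟨G'', iG1, iG2, iG3, iG4, gG, hgG⟩ := exists_baseChange_model C C'' G
  obtain ⟨N'', iN1, iN2, iN3, iN4, gN, hgN⟩ := exists_baseChange_model S T N
  letI mTG : Module T G'' := Module.compHom G'' (algebraMap T C'')
  haveI tTG : IsScalarTower T C'' G'' := .of_algebraMap_smul fun _ _ => rfl
  letI mRN : Module R'' N'' := Module.compHom N'' (algebraMap R'' T)
  haveI tRN : IsScalarTower R'' T N'' := .of_algebraMap_smul fun _ _ => rfl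
  obtain ⟨hdev, hld, huniq, hpt⟩ := oneStep_items (R := R) (D := D) (p := p) (y := y) (z := z) (n := n)
    (R' := R'') (S' := T) (D' := D'') (C' := C'') (p' := p'') (y' := y'')
    hSC hfp e hgi h4 h3 hη hR hgi'' hn'' hD hgN hgG z' hz'z q' hq'
  refine ⟨C'', ‹_›, inferInstance, inferInstance, inferInstance, inferInstance, inferInstance, inferInstance, inferInstance, z', hz', inferInstance, inferInstance, hpushD, ?_⟩
  refine ⟨G'', iG1, iG2, iG3, iG4, gG, hgG, ?_⟩
  refine ⟨T, iT, iST, iR''T, iRT, tRST, tRRT, q', iq', iTC, _, tSTC, inferInstance, tRTC, mTG, tTG, hT, ⟨hq'⟩, ?_⟩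
  exact ⟨N'', iN1, iN2, iN3, iN4, mRN, tRN, gN, hgN, hdev, hld, huniq, hpt⟩

end Groth.Agent.H7Flat.Chain
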