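import Groth.Agent.H7Flat.Chain.FiniteType
import Groth.Agent.H7Flat.PureSpreadout
import Groth.Agent.H7Flat.PureProjectiveLocal
import Groth.Agent.H1CAlg.MittagLeffler
import Groth.Agent.S0584
import Mathlib

/-!
# Free modules on open neighbourhoods over a local base
-/

set_option autoImplicit false
set_option linter.style.haveILetI false
set_option backward.isDefEq.respectTransparency false
set_option maxHeartbeats 1000000

universe u

open TensorProduct

namespace Groth.Agent.H7Flat.Chain

/-- Projective modules are Mittag-Leffler. -/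
theorem isMittagLeffler_of_projective (R M : Type u) [CommRing R] [AddCommGroup M] [Module R M]
    [Module.Projective R M] : CAlg.IsMittagLeffler R M :=
  ((Groth.Agent.S0584.result R M).mp ‹_›).2.1

/-- A localization at an element acting universally injectively preserves the Mittag-Leffler property. -/
theorem isMittagLeffler_away {A S P : Type u} [CommRing A] [CommRing S] [Algebra A S] [AddCommGroup P]
    [Module S P] [Module A P] [IsScalarTower A S P] (g : S)
    (hg : FlatCA.UnivInj A ((LinearMap.lsmul S P g).restrictScalars A)) (hP : CAlg.IsMittagLeffler A P) :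
    CAlg.IsMittagLeffler A (LocalizedModule (Submonoid.powers g) P) := by
  let W := LocalizedModule (Submonoid.powers g) P
  let mk := LocalizedModule.mkLinearMap (Submonoid.powers g) P
  have hinj : ∀ (Q : Type u) [AddCommGroup Q] [Module A Q] (z : P ⊗[A] Q),
      AlgebraTensorModule.rTensor A Q mk z = 0 → z = 0 := by
    intro Q _ _ z hz
    obtain ⟨⟨_, k, rfl⟩, hk⟩ := (IsLocalizedModule.eq_zero_iff (Submonoid.powers g)
      (AlgebraTensorModule.rTensor A Q mk)).mp hz
    have h1 := hg Q
    rw [LinearMap.lTensor_inj_iff_rTensor_inj] at h1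
    change g ^ k • z = 0 at hk
    clear hz
    induction k with
    | zero => simpa using hk
    | succ k ih =>
      refine ih (h1 ?_)
      rw [map_zero, ← hk, pow_succ', mul_smul]
      generalize g ^ k • z = w
      induction w using TensorProduct.induction_on with
      | zero => simp
      | tmul a b => rfl
      | add a b ha hb => simp only [map_add, smul_add, ha, hb]
  intro ι Q _ _
  rw [injective_iff_map_eq_zero]
  intro x hx
  obtain ⟨⟨y, ⟨s, k, rfl⟩⟩, hy⟩ := IsLocalizedModule.surj (Submonoid.powers g)
    (AlgebraTensorModule.rTensor A (∀ i, Q i) mk) x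
  change g ^ k • x = AlgebraTensorModule.rTensor A (∀ i, Q i) mk y at hy
  have hnat : ∀ (w : P ⊗[A] ∀ i, Q i) (i : ι),
      TensorProduct.piRightHom A A W Q (AlgebraTensorModule.rTensor A (∀ i, Q i) mk w) i =
        AlgebraTensorModule.rTensor A (Q i) mk (TensorProduct.piRightHom A A P Q w i) := by
    intro w i
    induction w using TensorProduct.induction_on with
    | zero => simp
    | tmul a b => simp
    | add a b ha hb => simp only [map_add, Pi.add_apply, ha, hb]
  have hsmul : ∀ (w : W ⊗[A] ∀ i, Q i) (i : ι),
      TensorProduct.piRightHom A A W Q (g ^ k • w) i = g ^ k • TensorProduct.piRightHom A A W Q w i := by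
    intro w i
    induction w using TensorProduct.induction_on with
    | zero => simp
    | tmul a b => simp [TensorProduct.smul_tmul']
    | add a b ha hb => simp [smul_add, map_add, ha, hb]
  have hy0 : y = 0 := by
    apply hP ι Q
    rw [map_zero]
    funext i
    apply hinj
    rw [← hnat, ← hy, hsmul, hx]
    exact smul_zero _
  rw [hy0, map_zero] at hy
  have hu : IsUnit (algebraMap S (Module.End S (W ⊗[A] ∀ i, Q i)) (g ^ k)) :=
    IsLocalizedModule.map_units (AlgebraTensorModule.rTensor A (∀ i, Q i) mk)
      (⟨g ^ k, k, rfl⟩ : Submonoid.powers g)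
  exact ((Module.End.isUnit_iff _).mp hu).injective (hy.trans (smul_zero (g ^ k)).symm)

/-- The map into a faithfully flat base change is universally injective. -/
theorem univInj_of_faithfullyFlat {R S S' : Type u} [CommRing R] [CommRing S] [CommRing S'] [Algebra R S]
    [Algebra S S'] [Algebra R S'] [IsScalarTower R S S'] [Module.FaithfullyFlat S S']
    (N : Type u) [AddCommGroup N] [Module S N] [Module R N] [IsScalarTower R S N] :
    CAlgX.UniversallyInjective R ((TensorProduct.mk S S' N 1).restrictScalars R) := by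
  intro Q _ _
  let ν : N →ₗ[S] S' ⊗[S] N := TensorProduct.mk S S' N 1
  let g : N ⊗[R] Q →ₗ[S] (S' ⊗[S] N) ⊗[R] Q := AlgebraTensorModule.rTensor R Q ν
  have he : ∀ y, AlgebraTensorModule.assoc R S S' S' N Q (g y) = (1 : S') ⊗ₜ[S] y := by
    intro y
    induction y using TensorProduct.induction_on with
    | zero => simp
    | tmul a b => simp [g, ν]
    | add a b ha hb => simp only [TensorProduct.tmul_add, map_add, ha, hb]
  intro a b hab
  refine Module.FaithfullyFlat.tensorProduct_mk_injective (A := S) (B := S') (N ⊗[R] Q) ?_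
  show (1 : S') ⊗ₜ[S] a = (1 : S') ⊗ₜ[S] b
  rw [← he, ← he]
  exact congrArg _ (show g a = g b from hab)

/-- A module with universally injective map into a flat module is flat. -/
theorem flat_of_univInj {R M N : Type u} [CommRing R] [AddCommGroup M] [Module R M] [AddCommGroup N]
    [Module R N] [Module.Flat R N] (f : M →ₗ[R] N) (hf : CAlgX.UniversallyInjective R f) :
    Module.Flat R M := by
  rw [Module.Flat.iff_lTensor_injective']
  intro a x y hxy
  apply hf a
  apply Module.Flat.lTensor_preserves_injective_linearMap (M := N) a.subtype a.subtype_injective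
  have hnat : ∀ z, a.subtype.lTensor N (f.rTensor a z) = f.rTensor R (a.subtype.lTensor M z) := by
    intro z
    rw [← LinearMap.comp_apply, LinearMap.lTensor_comp_rTensor, ← LinearMap.comp_apply,
      LinearMap.rTensor_comp_lTensor]
  rw [hnat, hnat, hxy]

/-- An element regular on the reduction of a module acts injectively on it. -/
theorem lTensor_lsmul_injective {A SA T κ T0 : Type u} [CommRing A] [CommRing SA] [CommRing T] [CommRing κ]
    [CommRing T0] [Algebra SA T] [Algebra A T] [Algebra A κ] [Algebra κ T0] [Algebra T T0] [Algebra A T0]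
    [IsScalarTower A κ T0] [IsScalarTower A T T0] [Algebra.IsPushout A κ T T0] [IsNoetherianRing T0]
    (P : Type u) [AddCommGroup P] [Module T P] [Module SA P] [Module A P] [IsScalarTower SA T P]
    [IsScalarTower A T P] [SMulCommClass SA A P] (g : SA)
    (hg : ∀ p ∈ associatedPrimes T0 (T0 ⊗[T] P), algebraMap T T0 (algebraMap SA T g) ∉ p) :
    Function.Injective
      ((show P →ₗ[A] P from
          { toFun := fun n => g • n
            map_add' := smul_add g
            map_smul' := fun a n => smul_comm g a n }).lTensor κ) := by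
  let P0 := T0 ⊗[T] P
  haveI : IsScalarTower A T P0 := IsScalarTower.of_algebraMap_smul fun (r : A) (z : P0) => by
    rw [← algebraMap_smul T0 (algebraMap A T r) z, ← IsScalarTower.algebraMap_apply, algebraMap_smul]
  have hbT : IsBaseChange T0 (TensorProduct.mk T T0 P 1) := TensorProduct.isBaseChange T P T0
  have hb : IsBaseChange κ ((TensorProduct.mk T T0 P 1).restrictScalars A) :=
    Groth.Agent.H8Props.Devissage.isBaseChange_restrict (B := A) (A := T) (B' := κ) (A' := T0) hbT
  let g0 : T0 := algebraMap T T0 (algebraMap SA T g)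
  have hreg : ∀ z : P0, g0 • z = 0 → z = 0 := fun z hz => by
    by_contra hne
    have hmem : g0 ∈ {r : T0 | ∃ w : P0, w ≠ 0 ∧ r • w = 0} := ⟨z, hne, hz⟩
    rw [← biUnion_associatedPrimes_eq_zero_divisors] at hmem
    obtain ⟨p, hp, hgp⟩ := Set.mem_iUnion₂.mp hmem
    exact hg p hp hgp
  rw [injective_iff_map_eq_zero]
  intro z hz
  apply hb.equiv.injective
  rw [map_zero]
  refine hreg _ ?_
  refine Eq.trans ?_ ((congrArg hb.equiv hz).trans (map_zero _))
  clear hz
  induction z using TensorProduct.induction_on with
  | zero => simp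
  | add a b ha hb' => simp only [map_add, smul_add, ha, hb']
  | tmul a n =>
    rw [LinearMap.lTensor_tmul, IsBaseChange.equiv_tmul, IsBaseChange.equiv_tmul]
    show g0 • (a • ((1 : T0) ⊗ₜ[T] n)) = a • ((1 : T0) ⊗ₜ[T] (g • n))
    rw [← algebraMap_smul T g n, TensorProduct.tmul_smul, ← algebraMap_smul T0 (algebraMap SA T g),
      smul_comm]

/-- An element avoiding a given prime and finitely many others from the image of an etale map, with
basic open inside the image. -/
theorem exists_avoiding {SA T : Type u} [CommRing SA] [CommRing T] [Algebra SA T] [Algebra.Etale SA T]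
    (x : Ideal T) [x.IsPrime] (Z : Finset (Ideal T)) (hZ : ∀ z ∈ Z, z.IsPrime) :
    ∃ g : SA, g ∉ x.comap (algebraMap SA T) ∧ (∀ z ∈ Z, algebraMap SA T g ∉ z) ∧
      ∀ (q : Ideal SA) [q.IsPrime], g ∉ q → ∃ Q : Ideal T, Q.IsPrime ∧ Q.comap (algebraMap SA T) = q := by
  classical
  have hopen := PrimeSpectrum.isOpenMap_comap_of_hasGoingDown_of_finitePresentation (R := SA) (S := T)
    _ isOpen_univ
  obtain ⟨I, hI⟩ := (PrimeSpectrum.isClosed_iff_zeroLocus_ideal _).mp hopen.isClosed_compl
  let W : Finset (Ideal T) := insert x Z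
  have hW : ∀ z ∈ W, z.IsPrime := fun z hz => by
    rcases Finset.mem_insert.mp hz with rfl | hz
    · infer_instance
    · exact hZ z hz
  have hnle : ∀ z ∈ W, ¬ I ≤ z.comap (algebraMap SA T) := fun z hz hle => by
    haveI := hW z hz
    have h1 : (⟨z.comap (algebraMap SA T), inferInstance⟩ : PrimeSpectrum SA) ∈
        PrimeSpectrum.zeroLocus (I : Set SA) := hle
    rw [← hI] at h1
    exact h1 ⟨⟨z, hW z hz⟩, trivial, rfl⟩
  obtain ⟨g, hgI, hgW⟩ : ∃ g ∈ I, ∀ z ∈ W, g ∉ z.comap (algebraMap SA T) := by
    by_contra! h
    obtain ⟨z, hz, hle⟩ := (Ideal.subset_union_prime (s := W) (f := fun z => z.comap (algebraMap SA T))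
      x x (fun i hi _ _ => haveI := hW i hi; Ideal.IsPrime.comap _)).mp
      (show (I : Set SA) ⊆ ⋃ z ∈ (W : Set (Ideal T)), (z.comap (algebraMap SA T) : Set SA) from fun y hy => by
        obtain ⟨z, hz, hyz⟩ := h y hy
        exact Set.mem_iUnion₂.mpr ⟨z, hz, hyz⟩)
    exact hnle z hz hle
  refine ⟨g, hgW x (Finset.mem_insert_self _ _), fun z hz => hgW z (Finset.mem_insert_of_mem hz),
    fun q _ hgq => ?_⟩
  have h1 : (⟨q, inferInstance⟩ : PrimeSpectrum SA) ∉ PrimeSpectrum.zeroLocus (I : Set SA) :=
    fun h => hgq (h hgI)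
  rw [← hI] at h1
  obtain ⟨Q, -, hQ⟩ := not_not.mp h1
  exact ⟨Q.asIdeal, Q.isPrime, congrArg PrimeSpectrum.asIdeal hQ⟩

end Groth.Agent.H7Flat.Chain
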