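import Groth.Agent.H7Flat.Chain.OpenFree
import Groth.Agent.H7Flat.FlatAtFinite
import Groth.Agent.H1CAlg.CountableML
import Groth.Agent.H1CAlg.LocalFree
import Mathlib

/-!
# An affine open neighbourhood with free module over the local ring of an etale neighbourhood
-/

set_option autoImplicit false
set_option linter.style.haveILetI false
set_option backward.isDefEq.respectTransparency false
set_option maxHeartbeats 1000000

universe u

open TensorProduct

namespace Groth.Agent.H7Flat.Chain

open Groth.Agent.H7Flat.ElemDev Groth.Agent.H8Props.Devissage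

/-- The image of an etale algebra is a faithfully flat neighbourhood on a basic open inside it. -/
theorem faithfullyFlat_away {SA T : Type u} [CommRing SA] [CommRing T] [Algebra SA T] [Algebra.Etale SA T]
    (g : SA)
    (hg : ∀ (q : Ideal SA) [q.IsPrime], g ∉ q → ∃ Q : Ideal T, Q.IsPrime ∧ Q.comap (algebraMap SA T) = q) :
    Module.FaithfullyFlat (Localization.Away g) (Localization.Away g ⊗[SA] T) := by
  let C := Localization.Away g
  refine Module.FaithfullyFlat.of_comap_surjective fun q => ?_
  have hgq : g ∉ q.asIdeal.comap (algebraMap SA C) := fun h =>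
    q.isPrime.ne_top (Ideal.eq_top_of_isUnit_mem _ h (IsLocalization.Away.algebraMap_isUnit g))
  obtain ⟨Q, hQ, hQq⟩ := hg _ hgq
  haveI := hQ
  haveI := q.isPrime
  obtain ⟨X, hX, hX1, -⟩ := exists_prime_tensor (R := SA) q.asIdeal Q hQq
    (fracSurj_of_isLocalization (Submonoid.powers g) C _)
  exact ⟨⟨X, hX⟩, PrimeSpectrum.ext hX1⟩

/-- An element acting universally injectively on a projective module is detected on the closed fibre. -/
theorem univInj_lsmul {A SA P : Type u} [CommRing A] [IsLocalRing A] [CommRing SA] [Algebra A SA]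
    [AddCommGroup P] [Module SA P] [Module A P] [IsScalarTower A SA P] [Module.Projective A P] (g : SA)
    (h : Function.Injective (((LinearMap.lsmul SA P g).restrictScalars A).lTensor
      (A ⧸ IsLocalRing.maximalIdeal A))) :
    FlatCA.UnivInj A ((LinearMap.lsmul SA P g).restrictScalars A) :=
  H7Flat.PureSpreadout.univInj_projective _ fun m hm => by
    obtain rfl := IsLocalRing.eq_maximalIdeal hm
    exact h

/-- A module which is free upstairs of a basic open and has universally regular equation is
projective on the basic open. -/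
theorem free_away_of_univInj {A SA T : Type u} [CommRing A] [IsLocalRing A] [CommRing SA] [CommRing T]
    [Algebra A SA] [Algebra SA T] [Algebra A T] [IsScalarTower A SA T] [Algebra.Etale SA T]
    [Algebra.FiniteType A SA] (NA : Type u) [AddCommGroup NA] [Module SA NA] [Module.Finite SA NA]
    (g : SA) (him : ∀ (q : Ideal SA) [q.IsPrime], g ∉ q →
      ∃ Q : Ideal T, Q.IsPrime ∧ Q.comap (algebraMap SA T) = q)
    [Module.Free A (T ⊗[SA] NA)]
    (hui : FlatCA.UnivInj A ((LinearMap.lsmul SA (T ⊗[SA] NA) g).restrictScalars A)) :
    Module.Free A (RestrictScalars A (Localization.Away g) (Localization.Away g ⊗[SA] NA)) := by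
  let P := T ⊗[SA] NA
  have hml := isMittagLeffler_away g hui (isMittagLeffler_of_projective A P)
  let C := Localization.Away g
  let M := C ⊗[SA] NA
  let E := C ⊗[SA] T
  haveI := faithfullyFlat_away g him
  let e : E ⊗[C] M ≃ₗ[C] LocalizedModule (Submonoid.powers g) P :=
    (AlgebraTensorModule.cancelBaseChange SA C E E NA).restrictScalars C ≪≫ₗ
      AlgebraTensorModule.assoc SA SA C C T NA ≪≫ₗ
      (LocalizedModule.equivTensorProduct (Submonoid.powers g) P).symm
  haveI : Module.Flat A (LocalizedModule (Submonoid.powers g) P) :=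
    (H7Flat.FlatAtFinite.flat_localizedModule_iff A _ _).mpr fun a z hz => ⟨1, Submonoid.one_mem _, by
      rw [one_smul]
      exact Module.Flat.lTensor_preserves_injective_linearMap (M := P) a.subtype a.subtype_injective
        (hz.trans (map_zero _).symm)⟩
  have hν := univInj_of_faithfullyFlat (R := A) (S := C) (S' := E) M
  let φ : M →ₗ[A] LocalizedModule (Submonoid.powers g) P :=
    (e.restrictScalars A).toLinearMap ∘ₗ (TensorProduct.mk C E M 1).restrictScalars A
  have hφ : CAlgX.UniversallyInjective (M := M) (N := LocalizedModule (Submonoid.powers g) P) A φ := fun Q _ _ => by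
    rw [LinearMap.rTensor_comp, LinearMap.coe_comp]
    exact ((e.restrictScalars A).rTensor Q).injective.comp (hν Q)
  haveI : Module.Flat A M :=
    flat_of_univInj (R := A) (M := M) (N := LocalizedModule (Submonoid.powers g) P) φ hφ
  have hMml := H1CAlg.isMittagLeffler_of_universallyInjective (R := A) (M₁ := M)
    (M₂ := LocalizedModule (Submonoid.powers g) P) φ hφ hml
  haveI : Module.Finite C M := inferInstance
  haveI : Algebra.FinitePresentation SA C := IsLocalization.Away.finitePresentation g
  haveI : Algebra.FiniteType A C := Algebra.FiniteType.trans ‹Algebra.FiniteType A SA› inferInstance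
  haveI : Module.Projective A M :=
    H1CAlg.projective_of_countablyGenerated hMml (H7Flat.PureProjectiveLocal.isCountablyGenerated (S := C) M)
  exact free_restrict_of_tower (H1CAlg.free_of_projective_isLocalRing M)


/-- An element avoiding a prime which is regular on the closed fibre upstairs. -/
theorem exists_univInj_inside {A SA T : Type u} [CommRing A] [IsLocalRing A] [CommRing SA] [CommRing T]
    [Algebra A SA] [Algebra SA T] [Algebra A T] [IsScalarTower A SA T] [Algebra.Etale SA T]
    [Algebra.FiniteType A SA] (P : Type u) [AddCommGroup P] [Module T P] [Module SA P] [Module A P]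
    [IsScalarTower SA T P] [IsScalarTower A T P] [IsScalarTower A SA P] [Module.Finite T P]
    [Module.Projective A P] (x : Ideal T) [x.IsPrime] :
    ∃ g : SA, g ∉ x.comap (algebraMap SA T) ∧
      (∀ (q : Ideal SA) [q.IsPrime], g ∉ q → ∃ Q : Ideal T, Q.IsPrime ∧ Q.comap (algebraMap SA T) = q) ∧
      FlatCA.UnivInj A ((LinearMap.lsmul SA P g).restrictScalars A) := by
  classical
  haveI : Algebra.FiniteType A T := Algebra.FiniteType.trans ‹Algebra.FiniteType A SA› inferInstance
  let κ := A ⧸ IsLocalRing.maximalIdeal A
  let T0 := κ ⊗[A] T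
  letI : Algebra T T0 := Algebra.TensorProduct.rightAlgebra
  haveI : IsNoetherianRing κ := by
    letI := Ideal.Quotient.field (IsLocalRing.maximalIdeal A)
    infer_instance
  haveI : IsNoetherianRing T0 := Algebra.FiniteType.isNoetherianRing κ T0
  have hfin := associatedPrimes.finite T0 (T0 ⊗[T] P)
  obtain ⟨g, hgx, hgZ, him⟩ := exists_avoiding (SA := SA) x
    (hfin.toFinset.image fun p => p.comap (algebraMap T T0)) fun z hz => by
      obtain ⟨p, hp, rfl⟩ := Finset.mem_image.mp hz
      haveI := (hfin.mem_toFinset.mp hp).isPrime
      infer_instance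
  refine ⟨g, hgx, him, univInj_lsmul g ?_⟩
  exact lTensor_lsmul_injective (T0 := T0) P g fun p hp hgp =>
    hgZ _ (Finset.mem_image_of_mem _ (hfin.mem_toFinset.mpr hp)) hgp

/-- A module becoming free on an etale neighbourhood is free on a basic open of its image. -/
theorem exists_open_free {A SA T : Type u} [CommRing A] [IsLocalRing A] [CommRing SA] [CommRing T]
    [Algebra A SA] [Algebra SA T] [Algebra A T] [IsScalarTower A SA T] [Algebra.Etale SA T]
    [Algebra.FiniteType A SA] (NA : Type u) [AddCommGroup NA] [Module SA NA] [Module.Finite SA NA]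
    (x : Ideal T) [x.IsPrime] (hfree : Module.Free A (RestrictScalars A T (T ⊗[SA] NA))) :
    ∃ g : SA, g ∉ x.comap (algebraMap SA T) ∧
      Module.Free A (RestrictScalars A (Localization.Away g) (Localization.Away g ⊗[SA] NA)) := by
  haveI : Module.Free A (T ⊗[SA] NA) := by
    haveI : Module.Free A (RestrictScalars A T (T ⊗[SA] NA)) := hfree
    exact Module.Free.of_equiv (M := RestrictScalars A T (T ⊗[SA] NA))
      ({ RestrictScalars.addEquiv A T (T ⊗[SA] NA) with
        map_smul' := fun a z => by
          show RestrictScalars.addEquiv A T (T ⊗[SA] NA) (a • z) = a • RestrictScalars.addEquiv A T (T ⊗[SA] NA) z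
          rw [RestrictScalars.addEquiv_map_smul, algebraMap_smul] } :
        RestrictScalars A T (T ⊗[SA] NA) ≃ₗ[A] T ⊗[SA] NA)
  obtain ⟨g, hgx, him, hui⟩ := exists_univInj_inside (A := A) (SA := SA) (T ⊗[SA] NA) x
  exact ⟨g, hgx, free_away_of_univInj NA g him hui⟩

end Groth.Agent.H7Flat.Chain
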