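import Groth.Agent.H7Flat.Chain.CoverNA
import Mathlib

/-!
# Etale pieces covering every point of a fibre
-/

set_option autoImplicit false
set_option linter.style.haveILetI false
set_option backward.isDefEq.respectTransparency false
set_option maxHeartbeats 1000000

universe u

open TensorProduct

namespace Groth.Agent.H7Flat.Chain

open Groth.Agent.H7Flat.ElemDev Groth.Agent.H8Props.Devissage

/-- An etale algebra over the source, inside a given open, with a complete dévissage or with
vanishing module. -/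
structure Piece {R S : Type u} [CommRing R] [CommRing S] [Algebra R S] (N : Type u) [AddCommGroup N]
    [Module S N] (R' : Type u) [CommRing R'] [Algebra R R'] (p' : Ideal R') [p'.IsPrime]
    (U : Set (PrimeSpectrum S)) (C : Type u) [CommRing C] [Algebra S C] [Algebra R' C] [Algebra R C]
    [IsScalarTower R S C] [IsScalarTower R R' C] : Prop where
  etale : Algebra.Etale S C
  image : ∀ Q : PrimeSpectrum C, PrimeSpectrum.comap (algebraMap S C) Q ∈ U
  hcd : Subsingleton (C ⊗[S] N) ∨ ∃ (q' : Ideal C) (_ : q'.IsPrime), q'.LiesOver p' ∧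
    FlatCA.HasCompleteDevissageAt R' C (C ⊗[S] N) p' q'

/-- Etale pieces covering every point of a fibre, over one etale neighbourhood of the base. -/
theorem exists_pieces {R S : Type u} [CommRing R] [CommRing S] [Algebra R S] [Algebra.FiniteType R S]
    (N : Type u) [AddCommGroup N] [Module S N] [Module.Finite S N] (p : Ideal R) [p.IsPrime]
    (U : Set (PrimeSpectrum S)) (hU : IsOpen U)
    (hpU : ∀ q : PrimeSpectrum S, q.asIdeal.LiesOver p → q ∈ U) :
    ∃ (R' : Type u) (_ : CommRing R') (_ : Algebra R R') (p' : Ideal R') (_ : p'.IsPrime),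
      FlatCA.IsEtaleNhd R R' p p' ∧
      ∃ (ι : Type) (_ : Fintype ι) (C : ι → Type u) (_ : ∀ i, CommRing (C i))
        (_ : ∀ i, Algebra S (C i)) (_ : ∀ i, Algebra R' (C i)) (_ : ∀ i, Algebra R (C i))
        (_ : ∀ i, IsScalarTower R S (C i)) (_ : ∀ i, IsScalarTower R R' (C i)),
        (∀ i, Piece (R := R) (S := S) N R' p' U (C i)) ∧
        ∀ q : PrimeSpectrum S, q.asIdeal.LiesOver p →
          ∃ (i : ι) (Q : Ideal (C i)), Q.IsPrime ∧ Q.comap (algebraMap S (C i)) = q.asIdeal ∧
            Q.LiesOver p' := by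
  classical
  obtain ⟨R', _, _, p', _, hR, k, C, _, aSC, aR'C, aRC, t1, t2, qc, hqc, hC, hcov⟩ :=
    exists_cover (S := S) N p U hU hpU
  obtain ⟨m, d, hdN, hd⟩ := exists_annihilator_fibre (S := S) N p
  let W : Set (PrimeSpectrum S) := PrimeSpectrum.comap (algebraMap R S) ⁻¹' {⟨p, inferInstance⟩}
  have hF : ∀ q, q ∈ W ↔ q.asIdeal.LiesOver p := fun q =>
    ⟨fun h => ⟨(congrArg PrimeSpectrum.asIdeal h).symm⟩, fun h => PrimeSpectrum.ext h.over.symm⟩
  -- basic opens outside the support inside the given open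
  have hWc : ∀ j, IsCompact (W ∩ (PrimeSpectrum.basicOpen (d j) : Set (PrimeSpectrum S))) := fun j => by
    haveI : CompactSpace W := (PrimeSpectrum.preimageHomeomorphFiber R S ⟨p, inferInstance⟩).symm.compactSpace
    haveI : TopologicalSpace.NoetherianSpace (PrimeSpectrum (p.Fiber S)) := by
      haveI : IsNoetherianRing (p.Fiber S) := Algebra.FiniteType.isNoetherianRing p.ResidueField _
      infer_instance
    haveI : TopologicalSpace.NoetherianSpace W :=
      (PrimeSpectrum.preimageHomeomorphFiber R S ⟨p, inferInstance⟩).isInducing.noetherianSpace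
    have h := (TopologicalSpace.NoetherianSpace.isCompact
      ((Subtype.val : W → PrimeSpectrum S) ⁻¹' (PrimeSpectrum.basicOpen (d j) : Set _))).image continuous_subtype_val
    rwa [Subtype.image_preimage_coe] at h
  have hsub : ∀ j, ∃ t : Finset {u : S // (PrimeSpectrum.basicOpen u : Set (PrimeSpectrum S)) ⊆ U},
      W ∩ (PrimeSpectrum.basicOpen (d j) : Set (PrimeSpectrum S)) ⊆
        ⋃ u ∈ t, (PrimeSpectrum.basicOpen u.1 : Set (PrimeSpectrum S)) := fun j => by
    refine (hWc j).elim_finite_subcover _ (fun u => (PrimeSpectrum.basicOpen u.1).isOpen) fun x hx => ?_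
    obtain ⟨_, ⟨u, rfl⟩, hxu, huU⟩ := PrimeSpectrum.isTopologicalBasis_basic_opens.exists_subset_of_mem_open
      (hpU x ((hF x).mp hx.1)) hU
    exact Set.mem_iUnion.mpr ⟨⟨u, huU⟩, hxu⟩
  choose t ht using hsub
  let ι := Fin k ⊕ (Σ j : Fin m, Fin (t j).card)
  let el : (Σ j : Fin m, Fin (t j).card) → S := fun x => d x.1 * ((t x.1).equivFin.symm x.2).1.1
  refine ⟨R', _, _, p', ‹_›, hR, ι, inferInstance, ?_⟩
  have key : ∀ x : ι, ∃ (D : Type u) (_ : CommRing D) (_ : Algebra S D) (_ : Algebra R' D) (_ : Algebra R D)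
      (_ : IsScalarTower R S D) (_ : IsScalarTower R R' D), Piece (R := R) (S := S) N R' p' U D ∧
      ∀ q : PrimeSpectrum S, q.asIdeal.LiesOver p →
        (match x with
          | .inl i => ∃ Q : Ideal (C i), Q.IsPrime ∧ Q.comap (algebraMap S (C i)) = q.asIdeal ∧ Q.LiesOver p'
          | .inr z => el z ∉ q.asIdeal) →
        ∃ Q : Ideal D, Q.IsPrime ∧ Q.comap (algebraMap S D) = q.asIdeal ∧ Q.LiesOver p' := by
    rintro (i | z)
    · obtain ⟨h1, h2, h3, h4⟩ := hC i
      exact ⟨C i, _, _, _, _, t1 i, t2 i, ⟨h1, h3, Or.inr ⟨qc i, hqc i, h2, h4⟩⟩, fun q _ h => h⟩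
    · let L := Localization.Away (el z)
      let D := R' ⊗[R] L
      letI : Algebra L D := Algebra.TensorProduct.rightAlgebra
      letI : Algebra S D := ((algebraMap L D).comp (algebraMap S L)).toAlgebra
      haveI : IsScalarTower S L D := IsScalarTower.of_algebraMap_eq fun _ => rfl
      haveI : IsScalarTower R S D := IsScalarTower.of_algebraMap_eq fun r => by
        show algebraMap R D r = algebraMap L D (algebraMap S L (algebraMap R S r))
        rw [← IsScalarTower.algebraMap_apply R S L]
        exact algebraMap_tmul_one r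
      haveI : Algebra.Etale R R' := hR.1
      haveI : Algebra.Etale L D := etale_tensor
      haveI : Algebra.Etale S L := Algebra.Etale.of_isLocalizationAway (el z)
      have hunit : IsUnit (algebraMap S D (el z)) :=
        (IsLocalization.Away.algebraMap_isUnit (S := L) (el z)).map (algebraMap L D)
      refine ⟨D, _, _, _, _, inferInstance, inferInstance,
        ⟨Algebra.Etale.comp S L D, fun Q => ?_, Or.inl ?_⟩, fun q hq hzq => ?_⟩
      · refine ((t z.1).equivFin.symm z.2).1.2 fun hm => Q.isPrime.ne_top (Ideal.eq_top_of_isUnit_mem _ ?_ hunit)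
        show algebraMap S D (el z) ∈ Q.asIdeal
        rw [map_mul]
        exact Q.asIdeal.mul_mem_left _ hm
      · refine subsingleton_tensor_of_isUnit (d := d z.1) ?_ N (hdN z.1)
        rw [map_mul] at hunit
        exact isUnit_of_mul_isUnit_left hunit
      · haveI := hq
        haveI := isPrime_map_away (S₁ := L) (el z) q.asIdeal hzq
        haveI := liesOver_map_away (S₁ := L) (el z) q.asIdeal hzq
        haveI : (q.asIdeal.map (algebraMap S L)).LiesOver p :=
          Ideal.LiesOver.trans (q.asIdeal.map (algebraMap S L)) q.asIdeal p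
        obtain ⟨hpp, hfp⟩ := isEtaleNhd_fracSurj hR
        obtain ⟨Q, hQ, hQ1, hQ2⟩ := exists_prime_tensor p' (q.asIdeal.map (algebraMap S L))
          (((q.asIdeal.map (algebraMap S L)).over_def p).symm.trans hpp) hfp
        refine ⟨Q, hQ, ?_, ⟨hQ1.symm⟩⟩
        rw [IsScalarTower.algebraMap_eq S L D, ← Ideal.comap_comap,
          show Q.comap (algebraMap L D) = q.asIdeal.map (algebraMap S L) from hQ2]
        exact ((q.asIdeal.map (algebraMap S L)).over_def q.asIdeal).symm
  choose D cD aSD aR'D aRD u1 u2 hP hQ using key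
  refine ⟨D, cD, aSD, aR'D, aRD, u1, u2, hP, fun q hq => ?_⟩
  by_cases hs : q ∈ Module.support S N
  · obtain ⟨i, Q, h⟩ := hcov q hq hs
    exact ⟨.inl i, hQ (.inl i) q hq ⟨Q, h⟩⟩
  · obtain ⟨j, hj⟩ := hd q hq hs
    obtain ⟨u, hu, hqu⟩ := Set.mem_iUnion₂.mp (ht j ⟨(hF q).mpr hq, hj⟩)
    obtain ⟨z, hz⟩ : ∃ z : Fin (t j).card, ((t j).equivFin.symm z).1 = u :=
      ⟨(t j).equivFin ⟨u, hu⟩, by rw [Equiv.symm_apply_apply]⟩
    refine ⟨.inr ⟨j, z⟩, hQ (.inr ⟨j, z⟩) q hq fun hm => ?_⟩
    change d j * ((t j).equivFin.symm z).1.1 ∈ q.asIdeal at hm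
    rw [hz] at hm
    exact (q.isPrime.mem_or_mem hm).elim hj hqu

end Groth.Agent.H7Flat.Chain
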