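import Groth.Agent.H7Flat.Chain.HenselMLMain
import Groth.Agent.H7Flat.ProjectivePure
import Groth.Agent.H7Flat.FlatTransfer
import Groth.Agent.H7Flat.PureSpreadout
import Groth.Agent.H7Flat.UnivInjCover
import Groth.Agent.H02CA.FibreAss
import Mathlib

/-!
A flat algebra covering the associated points of the closed fibre covers the associated points of
the fibres which specialize to the closed fibre.
-/

set_option autoImplicit false
set_option linter.style.haveILetI false
universe u

namespace Groth.Agent.H7Flat.Chain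

open TensorProduct FlatMor IsLocalRing

attribute [local instance] Algebra.TensorProduct.rightAlgebra

set_option backward.isDefEq.respectTransparency false
set_option maxHeartbeats 1000000
set_option synthInstance.maxHeartbeats 400000

/-- Covering the associated points of the closed fibre gives injectivity on it. -/
theorem eq_zero_of_cover_closed {H B C : Type u} [CommRing H] [IsLocalRing H] [CommRing B] [CommRing C]
    [Algebra H B] [Algebra.FiniteType H B] [Algebra B C] [Module.Flat B C]
    (N : Type u) [AddCommGroup N] [Module B N] [Module H N] [IsScalarTower H B N]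
    (hcov : ∀ (Q : Ideal B) [Q.IsPrime], Q.LiesOver (maximalIdeal H) →
      FlatCA.fiberIdeal (maximalIdeal H) Q ∈ associatedPrimes ((maximalIdeal H).Fiber B)
        (FlatCA.fiberMod (maximalIdeal H) B N) →
      ∃ Q' : Ideal C, Q'.IsPrime ∧ Q'.comap (algebraMap B C) = Q)
    (z : FlatCA.fiberMod (maximalIdeal H) B N)
    (hz : (TensorProduct.mk B C (FlatCA.fiberMod (maximalIdeal H) B N) 1) z = 0) : z = 0 := by
  let m := maximalIdeal H
  let F := m.Fiber B
  let M := FlatCA.fiberMod m B N
  have : IsNoetherianRing F := Algebra.FiniteType.isNoetherianRing m.ResidueField _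
  by_contra hne
  obtain ⟨Q, hQ, hle⟩ := exists_le_isAssociatedPrime_of_isNoetherianRing F (M := M) z hne
  have hQp := hQ.isPrime
  let q : Ideal B := Q.comap (algebraMap B F)
  have hqm : q.LiesOver m := ⟨by
    rw [Ideal.under, Ideal.comap_comap, ← IsScalarTower.algebraMap_eq,
      IsScalarTower.algebraMap_eq H m.ResidueField F, ← Ideal.comap_comap]
    rw [Ideal.eq_bot_of_prime (Q.comap (algebraMap m.ResidueField F)), ← RingHom.ker_eq_comap_bot]
    exact (Ideal.ker_algebraMap_residueField m).symm⟩
  obtain ⟨Q', hQ', hQ'q⟩ := hcov q hqm (by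
    rw [ImpurityDescend.fiberIdeal_comap]
    exact hQ)
  have h1 := UnivInjCover.map_annihilator_eq_top (TensorProduct.isBaseChange B M C) hz
  refine hQ'.ne_top (top_le_iff.mp (h1.ge.trans (Ideal.map_le_iff_le_comap.mpr ?_)))
  rw [hQ'q]
  intro b hb
  refine hle ?_
  have hb' : b • z = 0 := (Submodule.mem_annihilator_span_singleton z b).mp hb
  rw [Submodule.mem_colon_singleton, Submodule.mem_bot]
  exact (algebraMap_smul F b (show F ⊗[B] N from z)).trans hb'

/-- A flat algebra covering the associated points of the closed fibre covers every associated point of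
a fibre specializing to a point of the closed fibre at which the module is flat. -/
theorem exists_prime_over_of_cover {H B C : Type u} [CommRing H] [HenselianLocalRing H] [CommRing B]
    [CommRing C] [Algebra H B] [Algebra.FiniteType H B] [Algebra B C] [Module.Flat B C]
    (N : Type u) [AddCommGroup N] [Module B N] [Module H N] [IsScalarTower H B N] [Module.Finite B N]
    (hcov : ∀ (Q : Ideal B) [Q.IsPrime], Q.LiesOver (maximalIdeal H) →
      FlatCA.fiberIdeal (maximalIdeal H) Q ∈ associatedPrimes ((maximalIdeal H).Fiber B)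
        (FlatCA.fiberMod (maximalIdeal H) B N) →
      ∃ Q' : Ideal C, Q'.IsPrime ∧ Q'.comap (algebraMap B C) = Q)
    (M : Ideal B) [M.IsPrime] [M.LiesOver (maximalIdeal H)] (hflat : FlatCA.FlatAt H M N)
    (p : Ideal H) [p.IsPrime] (q : Ideal B) [q.IsPrime] [q.LiesOver p] (hle : q ≤ M)
    (hq : FlatCA.fiberIdeal p q ∈ associatedPrimes (p.Fiber B) (FlatCA.fiberMod p B N)) :
    ∃ q' : Ideal C, q'.IsPrime ∧ q'.comap (algebraMap B C) = q := by
  classical
  obtain ⟨g, hgM, hfree⟩ := exists_open_free_of_henselian N M hflat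
  letI : Algebra H C := ((algebraMap B C).comp (algebraMap H B)).toAlgebra
  haveI : IsScalarTower H B C := IsScalarTower.of_algebraMap_eq fun _ => rfl
  let W := LocalizedModule (Submonoid.powers g) N
  let mk := LocalizedModule.mkLinearMap (Submonoid.powers g) N
  let ν : W →ₗ[B] C ⊗[B] W := TensorProduct.mk B C W 1
  haveI : Module.Flat H (C ⊗[B] W) := FlatTransfer.flat_tensor
  -- injectivity on the closed fibre
  have hinj : ∀ (m : Ideal H) [m.IsMaximal],
      Function.Injective ((ν.restrictScalars H).lTensor (H ⧸ m)) := by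
    intro m hm
    obtain rfl := IsLocalRing.eq_maximalIdeal hm
    let κ := H ⧸ maximalIdeal H
    let e : κ ≃ₗ[H] (maximalIdeal H).ResidueField := LinearEquiv.ofBijective
      ((IsScalarTower.toAlgHom H κ (maximalIdeal H).ResidueField).toLinearMap)
      (Ideal.bijective_algebraMap_quotient_residueField (maximalIdeal H))
    let X := N ⊗[H] κ
    let eX : X ≃ₗ[B] FlatCA.fiberMod (maximalIdeal H) B N :=
      (AlgebraTensorModule.congr (LinearEquiv.refl B N) e).trans
        (ProjectivePure.fiberEquiv (maximalIdeal H) N).symm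
    have hX : ∀ x : X, (1 : C) ⊗ₜ[B] x = 0 → x = 0 := fun x hx =>
      eX.map_eq_zero_iff.mp (eq_zero_of_cover_closed N hcov (eX x) (by
        have := congrArg (eX.toLinearMap.lTensor C) hx
        rwa [LinearMap.lTensor_tmul, map_zero] at this))
    let mkX : X →ₗ[B] W ⊗[H] κ := AlgebraTensorModule.rTensor H κ mk
    rw [LinearMap.lTensor_inj_iff_rTensor_inj, injective_iff_map_eq_zero]
    intro z hz
    obtain ⟨⟨x, ⟨_, k, rfl⟩⟩, hx⟩ := IsLocalizedModule.surj (Submonoid.powers g) mkX z
    change g ^ k • z = mkX x at hx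
    have hz' : AlgebraTensorModule.assoc H B B C W κ ((ν.restrictScalars H).rTensor κ z) =
        (1 : C) ⊗ₜ[B] z := by
      clear hz hx
      induction z using TensorProduct.induction_on with
      | zero => simp
      | tmul a b => simp [ν]
      | add a b ha hb => simp only [TensorProduct.tmul_add, map_add, ha, hb]
    rw [hz, map_zero] at hz'
    have h2 : AlgebraTensorModule.rTensor B C mkX (x ⊗ₜ[B] (1 : C)) = 0 := by
      rw [AlgebraTensorModule.rTensor_tmul, ← hx, ← TensorProduct.smul_tmul']
      have h3 : z ⊗ₜ[B] (1 : C) = 0 := by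
        have := congrArg (TensorProduct.comm B C (W ⊗[H] κ)) hz'.symm
        simpa using this
      rw [h3, smul_zero]
    obtain ⟨⟨_, j, rfl⟩, hj⟩ := (IsLocalizedModule.eq_zero_iff (Submonoid.powers g)
      (AlgebraTensorModule.rTensor B C mkX)).mp h2
    change g ^ j • (x ⊗ₜ[B] (1 : C)) = 0 at hj
    rw [TensorProduct.smul_tmul'] at hj
    have h4 : g ^ j • x = 0 := hX _ (by
      have := congrArg (TensorProduct.comm B X C) hj
      simpa using this)
    have h5 : g ^ j • g ^ k • z = 0 := by rw [hx, ← map_smul, h4, map_zero]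
    have hu : ∀ i : ℕ, Function.Injective fun w : W ⊗[H] κ => g ^ i • w := fun i =>
      ((Module.End.isUnit_iff _).mp (IsLocalizedModule.map_units mkX
        (⟨g ^ i, i, rfl⟩ : Submonoid.powers g))).injective
    exact hu k (by simpa using hu j (h5.trans (smul_zero _).symm))
  have hui := PureSpreadout.univInj_projective (ν.restrictScalars H) hinj
  -- the associated point
  have hq1 : q ∈ FlatCA.ass B (FlatCA.fiberMod p B N) := by
    refine (Groth.Agent.H02CA.FibreAss.ass_fiber_iff p q).mpr
      ⟨_, ⟨hq.isPrime, ?_⟩, ImpurityDescend.comap_fiberIdeal p q⟩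
    have : IsNoetherianRing (p.Fiber B) := Algebra.FiniteType.isNoetherianRing p.ResidueField _
    obtain ⟨-, y, hy⟩ := isAssociatedPrime_iff.mp hq
    refine ⟨y, hy.trans ?_⟩
    ext a
    rw [Submodule.mem_colon_singleton, Submodule.mem_annihilator_span_singleton, Submodule.mem_bot]
  obtain ⟨-, y, hy⟩ := hq1
  let Y := N ⊗[H] p.ResidueField
  let y' : Y := ProjectivePure.fiberEquiv p N y
  have hmem : ∀ b, b ∈ q ↔ b • y' = 0 := fun b => by
    rw [hy, Submodule.mem_annihilator_span_singleton, ← map_smul, LinearEquiv.map_eq_zero_iff]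
  let mkY : Y →ₗ[B] W ⊗[H] p.ResidueField := AlgebraTensorModule.rTensor H p.ResidueField mk
  have hne : mkY y' ≠ 0 := fun h0 => by
    obtain ⟨⟨_, j, rfl⟩, hj⟩ := (IsLocalizedModule.eq_zero_iff (Submonoid.powers g) mkY).mp h0
    exact hgM (Ideal.IsPrime.mem_of_pow_mem inferInstance j (hle ((hmem _).mpr hj)))
  have hne' : (1 : C) ⊗ₜ[B] mkY y' ≠ 0 := fun h0 => by
    have h1 := hui p.ResidueField
    rw [LinearMap.lTensor_inj_iff_rTensor_inj] at h1
    refine hne (h1 ?_)
    apply (AlgebraTensorModule.assoc H B B C W p.ResidueField).injective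
    rw [map_zero, map_zero]
    refine Eq.trans ?_ h0
    generalize mkY y' = z
    induction z using TensorProduct.induction_on with
    | zero => simp
    | tmul a b => simp [ν]
    | add a b ha hb => simp only [TensorProduct.tmul_add, map_add, ha, hb]
  by_cases htop : q.map (algebraMap B C) = ⊤
  · exfalso
    apply hne'
    have hkill : ∀ c ∈ q.map (algebraMap B C), c • ((1 : C) ⊗ₜ[B] mkY y') = 0 := by
      intro c hc
      refine Submodule.span_induction (fun x hx => ?_) (zero_smul C _) (fun a b _ _ ha hb => ?_)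
        (fun d x _ hx => ?_) hc
      · obtain ⟨b, hb, rfl⟩ := hx
        rw [algebraMap_smul, ← TensorProduct.tmul_smul, ← map_smul, (hmem b).mp hb, map_zero,
          TensorProduct.tmul_zero]
      · rw [add_smul, ha, hb, add_zero]
      · rw [smul_eq_mul, mul_smul, hx, smul_zero]
    simpa using hkill 1 (htop ▸ Submodule.mem_top)
  · obtain ⟨Q₂, hQ₂, hle₂⟩ := Ideal.exists_le_maximal _ htop
    haveI : Q₂.LiesOver (Q₂.comap (algebraMap B C)) := ⟨rfl⟩
    obtain ⟨q', -, hq', hover⟩ := Ideal.exists_ideal_le_liesOver_of_le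
      (p := q) (q := Q₂.comap (algebraMap B C)) Q₂ (Ideal.map_le_iff_le_comap.mp hle₂)
    exact ⟨q', hq', hover.over.symm⟩

end Groth.Agent.H7Flat.Chain
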