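import Groth.Agent.H7Flat.ProjectivePure
import Groth.Agent.H7Flat.FlatTransfer
import Groth.Agent.H06EGA11.Loc
import Groth.Agent.H02CA.FibreAss
import Mathlib

/-!
Associated points of fibres and flat loci along flat algebras.
-/

set_option autoImplicit false
set_option linter.style.haveILetI false
universe u

namespace Groth.Agent.H7Flat.Chain

open TensorProduct FlatMor

attribute [local instance] Algebra.TensorProduct.rightAlgebra

set_option backward.isDefEq.respectTransparency false
set_option maxHeartbeats 1000000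
set_option synthInstance.maxHeartbeats 400000

/-- Flatness at a point passes to flat algebras. -/
theorem flatAt_tensor {A B E : Type u} [CommRing A] [CommRing B] [CommRing E] [Algebra A B] [Algebra B E]
    [Algebra A E] [IsScalarTower A B E] [Module.Flat B E] (N : Type u) [AddCommGroup N] [Module B N]
    [Module A N] [IsScalarTower A B N] (Q : Ideal E) [Q.IsPrime]
    (h : FlatCA.FlatAt A (Q.comap (algebraMap B E)) N) : FlatCA.FlatAt A Q (E ⊗[B] N) := by
  let T := (Q.comap (algebraMap B E)).primeCompl
  let mk := LocalizedModule.mkLinearMap T N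
  let L := LocalizedModule T N
  haveI : Module.Flat A L := h
  haveI : Module.Flat A (E ⊗[B] L) := FlatTransfer.flat_tensor
  let loc : E ⊗[B] N →ₗ[B] E ⊗[B] L :=
    (TensorProduct.comm B L E).toLinearMap ∘ₗ
      ((AlgebraTensorModule.rTensor B E mk).restrictScalars B ∘ₗ (TensorProduct.comm B E N).toLinearMap)
  haveI : IsLocalizedModule T ((AlgebraTensorModule.rTensor B E mk).restrictScalars B) :=
    (inferInstance : IsLocalizedModule T (AlgebraTensorModule.rTensor B E mk))
  haveI : IsLocalizedModule T loc := by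
    haveI := IsLocalizedModule.of_linearEquiv_right T
      ((AlgebraTensorModule.rTensor B E mk).restrictScalars B) (TensorProduct.comm B E N)
    exact IsLocalizedModule.of_linearEquiv T _ (TensorProduct.comm B L E)
  haveI : Module.Flat A (LocalizedModule T (E ⊗[B] N)) :=
    Module.Flat.of_linearEquiv (M := E ⊗[B] L) ((IsLocalizedModule.iso T loc).restrictScalars A)
  refine H06EGA11.flat_localizedModule (S := E) Q.primeCompl fun J x hx => ?_
  obtain ⟨t, ht, htx⟩ := H06EGA11.exists_smul_eq_zero_of_flat (S := B) (M := E ⊗[B] N) T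
    J.subtype J.injective_subtype x hx
  refine ⟨algebraMap B E t, ht, ?_⟩
  rw [← htx]
  clear hx htx
  induction x using TensorProduct.induction_on with
  | zero => simp
  | tmul a b => rw [TensorProduct.smul_tmul', TensorProduct.smul_tmul', algebraMap_smul]
  | add a b ha hb => rw [smul_add, smul_add, ha, hb]

/-- Associated points of fibres lift to generalizations of points over them in flat algebras. -/
theorem exists_relAss_over {A B E : Type u} [CommRing A] [CommRing B] [CommRing E] [Algebra A B]
    [Algebra B E] [Algebra A E] [IsScalarTower A B E] [Algebra.FiniteType A B] [Algebra.FiniteType A E]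
    [Module.Flat B E] (N : Type u) [AddCommGroup N] [Module B N] [Module A N] [IsScalarTower A B N]
    (t : Ideal A) [t.IsPrime] (P : Ideal B) [P.IsPrime] [P.LiesOver t]
    (hP : FlatCA.fiberIdeal t P ∈ associatedPrimes (t.Fiber B) (FlatCA.fiberMod t B N))
    (q₄ : Ideal E) [q₄.IsPrime] (hq₄ : q₄.comap (algebraMap B E) = P) :
    ∃ q : Ideal E, q.IsPrime ∧ q ≤ q₄ ∧ q.LiesOver t ∧ q.comap (algebraMap B E) = P ∧
      FlatCA.fiberIdeal t q ∈ associatedPrimes (t.Fiber E) (FlatCA.fiberMod t E (E ⊗[B] N)) := by
  have : IsNoetherianRing (t.Fiber B) := Algebra.FiniteType.isNoetherianRing t.ResidueField _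
  have : IsNoetherianRing (t.Fiber E) := Algebra.FiniteType.isNoetherianRing t.ResidueField _
  have : q₄.LiesOver t := ⟨by
    rw [Ideal.under, IsScalarTower.algebraMap_eq A B E, ← Ideal.comap_comap, hq₄]
    exact P.over_def t⟩
  obtain ⟨-, y, hy⟩ := isAssociatedPrime_iff.mp hP
  let Y := N ⊗[A] t.ResidueField
  let y' : Y := ProjectivePure.fiberEquiv t N y
  have hmem : ∀ b, b ∈ P ↔ b • y' = 0 := fun b => by
    rw [← ImpurityDescend.comap_fiberIdeal t P, Ideal.mem_comap, hy, Submodule.mem_colon_singleton,
      Submodule.mem_bot, ← map_smul, LinearEquiv.map_eq_zero_iff]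
    exact Iff.of_eq (congrArg (· = 0) (algebraMap_smul (t.Fiber B) b (show t.Fiber B ⊗[B] N from y)))
  let ι : (B ⧸ P) →ₗ[B] Y := Submodule.liftQ P (LinearMap.toSpanSingleton B Y y') fun b hb => by
    simpa using (hmem b).mp hb
  have hι : Function.Injective ι := by
    rw [← LinearMap.ker_eq_bot]
    exact Submodule.ker_liftQ_eq_bot _ _ _ fun b hb => (hmem b).mpr (by simpa using hb)
  let eE := (ProjectivePure.fiberEquiv t (E ⊗[B] N)).trans
    (AlgebraTensorModule.assoc A B E E N t.ResidueField)
  let w := eE.symm ((1 : E) ⊗ₜ[B] y')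
  have hann : ∀ e : E, e • w = 0 → e ∈ q₄ := by
    intro e he
    rw [← map_smul, LinearEquiv.map_eq_zero_iff, TensorProduct.smul_tmul', smul_eq_mul, mul_one] at he
    have h0 : (e ⊗ₜ[B] Ideal.Quotient.mk P 1 : E ⊗[B] (B ⧸ P)) = 0 := by
      apply Module.Flat.lTensor_preserves_injective_linearMap (M := E) ι hι
      rw [map_zero, LinearMap.lTensor_tmul, show ι (Ideal.Quotient.mk P 1) = y' from one_smul B y']
      exact he
    have h1 := congrArg (TensorProduct.tensorQuotEquivQuotSMul E P) h0
    rw [TensorProduct.tensorQuotEquivQuotSMul_tmul_mk, map_zero, one_smul,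
      Submodule.Quotient.mk_eq_zero, Ideal.smul_top_eq_map, Submodule.restrictScalars_mem] at h1
    exact Ideal.map_le_iff_le_comap.mpr hq₄.ge h1
  let J : Ideal (t.Fiber E) := Submodule.colon (⊥ : Submodule (t.Fiber E) (FlatCA.fiberMod t E (E ⊗[B] N))) {w}
  have hJ : J ≤ FlatCA.fiberIdeal t q₄ := by
    rw [← ImpurityDescend.fiberIdeal_comap t J]
    refine Ideal.map_mono fun e he => hann e ?_
    have h2 : algebraMap E (t.Fiber E) e • w = 0 := by
      simpa [J, Submodule.mem_colon_singleton] using he
    exact (algebraMap_smul (t.Fiber E) e (show t.Fiber E ⊗[E] (E ⊗[B] N) from w)).symm.trans h2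
  have : (FlatCA.fiberIdeal t q₄).IsPrime := UnivInjCover.isPrime_fiberIdeal t q₄
  obtain ⟨Q, hQmin, hQle⟩ := Ideal.exists_minimalPrimes_le hJ
  have hQass : Q ∈ associatedPrimes (t.Fiber E) (FlatCA.fiberMod t E (E ⊗[B] N)) :=
    isAssociatedPrime_iff.mpr ⟨hQmin.1.1, Submodule.exists_eq_colon_of_mem_minimalPrimes hQmin⟩
  have hQp : Q.IsPrime := hQmin.1.1
  let q := Q.comap (algebraMap E (t.Fiber E))
  have hqle : q ≤ q₄ := (Ideal.comap_mono hQle).trans (ImpurityDescend.comap_fiberIdeal t q₄).le
  have hqP : q.comap (algebraMap B E) = P := by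
    refine le_antisymm ((Ideal.comap_mono hqle).trans hq₄.le) fun b hb => hQmin.1.2 ?_
    show algebraMap E (t.Fiber E) (algebraMap B E b) ∈ J
    rw [Submodule.mem_colon_singleton, Submodule.mem_bot]
    refine (algebraMap_smul (t.Fiber E) (algebraMap B E b)
      (show t.Fiber E ⊗[E] (E ⊗[B] N) from w)).trans ?_
    show algebraMap B E b • w = 0
    rw [← map_smul, TensorProduct.smul_tmul', algebraMap_smul, TensorProduct.smul_tmul,
      (hmem b).mp hb, TensorProduct.tmul_zero, map_zero]
  refine ⟨q, inferInstance, hqle, ⟨?_⟩, hqP, ?_⟩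
  · rw [Ideal.under, IsScalarTower.algebraMap_eq A B E, ← Ideal.comap_comap, hqP]
    exact P.over_def t
  · rw [ImpurityDescend.fiberIdeal_comap]
    exact hQass

end Groth.Agent.H7Flat.Chain
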