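import Groth.Agent.H7Flat.Chain.PureFlatNear
import Groth.Agent.H7Flat.Chain.PureCover
import Groth.Agent.H7Flat.Chain.RelAssFlatBC
import Groth.Agent.H7Flat.Chain.Open
import Mathlib

/-!
Purity along a fibre in terms of an étale cover of its associated points which is pure.
-/

set_option autoImplicit false
set_option linter.style.haveILetI false
universe u

namespace Groth.Agent.H7Flat.Chain

open TensorProduct FlatMor IsLocalRing

attribute [local instance] Algebra.TensorProduct.rightAlgebra

set_option backward.isDefEq.respectTransparency false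
set_option maxHeartbeats 2000000
set_option synthInstance.maxHeartbeats 400000

theorem etale_of_pushout {A B A' BA : Type u} [CommRing A] [CommRing B] [CommRing A'] [CommRing BA]
    [Algebra A B] [Algebra A A'] [Algebra B BA] [Algebra A' BA] [Algebra A BA] [IsScalarTower A B BA]
    [IsScalarTower A A' BA] [Algebra.IsPushout A B A' BA] [Algebra.Etale A A'] : Algebra.Etale B BA :=
  Algebra.Etale.of_equiv (Algebra.IsPushout.equiv A B A' BA)

/-- Relative associated points over generizations lying in the image of a pure étale algebra give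
universal purity. -/
theorem isUnivPureAlong_of_cover {A B A' B' BA : Type u} [CommRing A] [CommRing B] [Algebra A B]
    [CommRing A'] [Algebra A A'] [Algebra.Etale A A'] [CommRing B'] [Algebra A' B'] [Algebra.FiniteType A' B']
    [CommRing BA] [Algebra B BA] [Algebra A' BA] [Algebra A BA] [IsScalarTower A B BA] [IsScalarTower A A' BA]
    [Algebra.IsPushout A B A' BA] [Algebra.FiniteType A B] [Algebra BA B'] [IsScalarTower A' BA B']
    [Module.Flat BA B']
    {N NA N' : Type u} [AddCommGroup N] [Module B N] [AddCommGroup NA] [Module BA NA] [Module B NA]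
    [IsScalarTower B BA NA] [Module A' NA] [IsScalarTower A' BA NA]
    [AddCommGroup N'] [Module B' N'] [Module BA N'] [IsScalarTower BA B' N'] [Module A' N']
    [IsScalarTower A' B' N']
    {fA : N →ₗ[B] NA} (hfA : IsBaseChange BA fA) (γ : NA →ₗ[BA] N') (hγ : IsBaseChange B' γ)
    (p : Ideal A) [p.IsPrime] (p' : Ideal A') [p'.IsPrime] [p'.LiesOver p]
    (hu : FlatCA.IsUnivPureAlong A' B' N' p')
    (hcover : ∀ (t' : Ideal A') [t'.IsPrime], t' ≤ p' → ∀ (Q : Ideal BA) [Q.IsPrime], Q.LiesOver t' →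
      FlatCA.fiberIdeal t' Q ∈ associatedPrimes (t'.Fiber BA) (FlatCA.fiberMod t' BA NA) →
      ∃ Q' : Ideal B', Q'.IsPrime ∧ Q'.comap (algebraMap BA B') = Q) :
    FlatCA.IsUnivPureAlong A B N p := by
  intro A'' B'' N'' _ _ _ _ _ _ _ _ _ _ _ _ _ _ f t' t _ _ P _ himp
  have := himp.2.2.2.1
  obtain ⟨t₂, ht₂, ht₂l, ht₂r⟩ := ImpurityRebase.exists_prime_over_pair p t p'
  have : t₂.LiesOver t := ⟨ht₂l.symm⟩
  obtain ⟨t₂', hle, ht₂', hover⟩ := Ideal.exists_ideal_le_liesOver_of_le (p := t') (q := t) t₂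
    himp.2.2.1
  have h1 : FlatCA.HasImpurity A B N p (fun A₃ _ _ s => ∃ ψ : A' →ₐ[A] A₃,
      s.comap ψ.toRingHom = p' ∧ True) :=
    ImpurityBaseChange.hasImpurity_baseChange himp (A'' ⊗[A] A') t₂' t₂ hle _
      ⟨Algebra.TensorProduct.includeRight, ht₂r, trivial⟩
  obtain ⟨A₂, B₂, N₂, _, _, _, _, _, _, _, _, _, _, _, _, _, _, g, s', s, _, _, P₂, _, himp₂, -⟩ :=
    ImpurityRebase.hasImpurity_extend hfA p' (fun _ _ _ _ => True) h1
  obtain ⟨hpush, hbc, hss, hsp, hP₂, hass, hnone⟩ := himp₂
  have := hpush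
  have := hP₂
  haveI hftA : Algebra.FiniteType A' BA := by
    have : Algebra.IsPushout A A' B BA := Algebra.IsPushout.symm inferInstance
    exact Algebra.FiniteType.equiv (inferInstanceAs (Algebra.FiniteType A' (A' ⊗[A] B)))
      (Algebra.IsPushout.equiv A A' B BA)
  haveI : Algebra.FiniteType A₂ B₂ := by
    have : Algebra.IsPushout A' A₂ BA B₂ := Algebra.IsPushout.symm hpush
    exact Algebra.FiniteType.equiv (inferInstanceAs (Algebra.FiniteType A₂ (A₂ ⊗[A'] BA)))
      (Algebra.IsPushout.equiv A' A₂ BA B₂)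
  let t'' : Ideal A' := s'.comap (algebraMap A' A₂)
  have : s'.LiesOver t'' := ⟨rfl⟩
  let Q : Ideal BA := P₂.comap (algebraMap BA B₂)
  have ht'' : t'' ≤ p' := (Ideal.comap_mono hss).trans hsp.over.ge
  have hQ : Q.LiesOver t'' := ⟨by
    rw [Ideal.under, Ideal.comap_comap, ← IsScalarTower.algebraMap_eq,
      IsScalarTower.algebraMap_eq A' A₂ B₂, ← Ideal.comap_comap]
    exact congrArg (Ideal.comap (algebraMap A' A₂)) hP₂.over⟩
  obtain ⟨Q', hQ', hQ'Q⟩ := hcover t'' ht'' Q hQ
    (ImpurityDescend.fiberIdeal_comap_mem_associatedPrimes hbc t'' s' P₂ hass)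
  -- the pullback of the cover
  let E := B₂ ⊗[BA] B'
  have : P₂.LiesOver Q := ⟨rfl⟩
  have : Q'.LiesOver Q := ⟨hQ'Q.symm⟩
  obtain ⟨q₄, hq₄, hq₄l, hq₄r⟩ := ImpurityRebase.exists_prime_over_pair Q P₂ Q'
  letI : Algebra A₂ E := Algebra.TensorProduct.leftAlgebra
  haveI : IsScalarTower A' A₂ E := IsScalarTower.of_algebraMap_eq fun a => by
    show algebraMap A' B₂ a ⊗ₜ[BA] (1 : B') = algebraMap A₂ B₂ (algebraMap A' A₂ a) ⊗ₜ[BA] (1 : B')
    rw [← IsScalarTower.algebraMap_apply]
  haveI : IsScalarTower A' BA E := IsScalarTower.of_algebraMap_eq fun a => by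
    show algebraMap A' B₂ a ⊗ₜ[BA] (1 : B') = algebraMap BA B₂ (algebraMap A' BA a) ⊗ₜ[BA] (1 : B')
    rw [← IsScalarTower.algebraMap_apply]
  haveI : IsScalarTower A' B' E := IsScalarTower.of_algebraMap_eq fun a => by
    rw [IsScalarTower.algebraMap_apply A' BA B', ← IsScalarTower.algebraMap_apply BA B' E,
      ← IsScalarTower.algebraMap_apply A' BA E]
  haveI hpE : Algebra.IsPushout A' B' A₂ E := by
    have h2 : Algebra.IsPushout BA B' B₂ E := (inferInstance : Algebra.IsPushout BA B₂ B' E).symm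
    have h3 : Algebra.IsPushout A' A₂ BA B₂ := Algebra.IsPushout.symm hpush
    exact ((Algebra.IsPushout.comp_iff A' BA A₂ B₂ (T := B') (T' := E)).mpr h2)
  haveI : Algebra.FiniteType A₂ E := by
    have : Algebra.IsPushout A' A₂ B' E := Algebra.IsPushout.symm hpE
    exact Algebra.FiniteType.equiv (inferInstanceAs (Algebra.FiniteType A₂ (A₂ ⊗[A'] B')))
      (Algebra.IsPushout.equiv A' A₂ B' E)
  haveI : IsScalarTower A₂ B₂ E := IsScalarTower.of_algebraMap_eq fun _ => rfl
  obtain ⟨q'', hq'', hq''le, hq''over, hq''P, hass''⟩ :=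
    exists_relAss_over N₂ s' P₂ hass q₄ hq₄l
  -- the module upstairs
  let N₄ := E ⊗[B₂] N₂
  let mk₄ : N₂ →ₗ[B₂] N₄ := TensorProduct.mk B₂ E N₂ 1
  letI : Module B' N₄ := Module.compHom N₄ (algebraMap B' E)
  haveI : IsScalarTower B' E N₄ := IsScalarTower.of_algebraMap_smul fun _ _ => rfl
  haveI : IsScalarTower BA B' N₄ := IsScalarTower.of_algebraMap_smul fun (b : BA) (n : N₄) => by
    show algebraMap B' E (algebraMap BA B' b) • n = b • n
    rw [← IsScalarTower.algebraMap_apply, algebraMap_smul]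
  haveI : IsScalarTower BA E N₄ := inferInstance
  let comp : NA →ₗ[BA] N₄ := (mk₄.restrictScalars BA).comp g
  have hcomp : IsBaseChange E comp := IsBaseChange.comp hbc (TensorProduct.isBaseChange B₂ N₂ E)
  let h₄ : N' →ₗ[B'] N₄ := hγ.lift comp
  have hh₄ : IsBaseChange E h₄ := by
    refine IsBaseChange.of_comp hγ ?_
    rw [show h₄.restrictScalars BA ∘ₗ γ = comp from hγ.lift_comp comp]
    exact hcomp
  have hnot := hu A₂ E N₄ h₄ s' s q''
  rw [FlatCA.IsImpurity] at hnot
  apply hnot
  refine ⟨hpE, hh₄, hss, hsp, hq''over, hass'', fun P' hP' hqP' hPs => ?_⟩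
  refine hnone (P'.comap (algebraMap B₂ E)) (hq''P.ge.trans (Ideal.comap_mono hqP')) ⟨?_⟩
  rw [Ideal.under, Ideal.comap_comap, ← IsScalarTower.algebraMap_eq]
  exact hPs.over

/-- A relative associated point specializing to the fibre lies in the image of an algebra covering
the associated points of the fibre. -/
theorem exists_over_of_pure {A B A' B' BA : Type u} [CommRing A] [CommRing B] [Algebra A B]
    [CommRing A'] [Algebra A A'] [Algebra.Etale A A'] [CommRing B'] [Algebra A' B'] [Algebra B B']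
    [CommRing BA] [Algebra B BA] [Algebra A' BA] [Algebra A BA] [IsScalarTower A B BA] [IsScalarTower A A' BA]
    [Algebra.IsPushout A B A' BA] [Algebra.FiniteType A B] [Algebra BA B'] [IsScalarTower A' BA B']
    [IsScalarTower B BA B'] [Module.Flat BA B']
    {N NA : Type u} [AddCommGroup N] [Module B N] [Module A N] [IsScalarTower A B N] [Module.Finite B N]
    [AddCommGroup NA] [Module BA NA] [Module B NA]
    [IsScalarTower B BA NA] [Module A' NA] [IsScalarTower A' BA NA]
    {fA : N →ₗ[B] NA} (hfA : IsBaseChange BA fA)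
    (p : Ideal A) [p.IsPrime] (p' : Ideal A') [p'.IsPrime] (het : FlatCA.IsEtaleNhd A A' p p')
    (hflat : ∀ (q : Ideal B) [q.IsPrime], q.LiesOver p → FlatCA.FlatAt A q N)
    (hu : FlatCA.IsUnivPureAlong A B N p)
    (hcov : ∀ (q : Ideal B) [q.IsPrime], q.LiesOver p →
      FlatCA.fiberIdeal p q ∈ associatedPrimes (p.Fiber B) (FlatCA.fiberMod p B N) →
      ∃ q' : Ideal B', q'.IsPrime ∧ q'.comap (algebraMap B B') = q ∧ q'.comap (algebraMap A' B') = p')
    (t' : Ideal A') [t'.IsPrime] (htp : t' ≤ p') (Q : Ideal BA) [Q.IsPrime] [Q.LiesOver t']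
    (hQ : FlatCA.fiberIdeal t' Q ∈ associatedPrimes (t'.Fiber BA) (FlatCA.fiberMod t' BA NA)) :
    ∃ Q' : Ideal B', Q'.IsPrime ∧ Q'.comap (algebraMap BA B') = Q := by
  have := het.2.1
  haveI hftA : Algebra.FiniteType A' BA := by
    have : Algebra.IsPushout A A' B BA := Algebra.IsPushout.symm inferInstance
    exact Algebra.FiniteType.equiv (inferInstanceAs (Algebra.FiniteType A' (A' ⊗[A] B)))
      (Algebra.IsPushout.equiv A A' B BA)
  haveI : Module.Finite BA NA := Module.Finite.equiv (hfA.equiv (R := B) (M := N))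
  obtain ⟨hpp, hfp⟩ := ElemDev.isEtaleNhd_fracSurj het
  -- the module over `A'` is universally pure along the point
  letI : Module A NA := Module.compHom NA (algebraMap A A')
  haveI : IsScalarTower A A' NA := IsScalarTower.of_algebraMap_smul fun _ _ => rfl
  haveI : IsScalarTower A B NA := IsScalarTower.of_algebraMap_smul fun (a : A) (x : NA) => by
    show algebraMap A B a • x = algebraMap A A' a • x
    rw [← algebraMap_smul BA (algebraMap A B a) x, ← algebraMap_smul BA (algebraMap A A' a) x,
      ← IsScalarTower.algebraMap_apply, ← IsScalarTower.algebraMap_apply]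
  have huA : FlatCA.IsUnivPureAlong A' BA NA p' := by
    intro A₂ B₂ N₂ _ _ _ _ _ _ _ _ _ _ _ _ _ _ g s' s _ _ P₂ _ himp
    obtain ⟨A₃, B₃, N₃, _, _, _, _, _, _, _, _, _, _, _, _, _, _, g₃, u', v, _, _, P₃, _, himp₃, -⟩ :=
      ImpurityRebase.hasImpurity_restrict (p := p) hfA p' (fun _ _ _ _ => True) (fun _ _ _ _ => True)
        (fun _ _ _ _ _ _ _ _ _ => trivial)
        (show FlatCA.HasImpurity A' BA NA p' (fun _ _ _ _ => True) from
          ⟨A₂, B₂, N₂, inferInstance, inferInstance, inferInstance, inferInstance, inferInstance,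
            inferInstance, inferInstance, inferInstance, inferInstance, inferInstance, inferInstance,
            inferInstance, inferInstance, inferInstance, g, s', s, inferInstance, inferInstance, P₂,
            inferInstance, himp, trivial⟩)
    exact hu A₃ B₃ N₃ g₃ u' v P₃ himp₃
  -- henselization
  let L := Localization.AtPrime p'
  obtain ⟨H, _, _, _, _, π, hπ, hH⟩ := Groth.Agent.H9Hens.exists_isHenselization_colim L
  have := hH.henselian
  have := hπ.flat
  letI : Algebra A' H := ((algebraMap L H).comp (algebraMap A' L)).toAlgebra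
  have : IsScalarTower A' L H := IsScalarTower.of_algebraMap_eq fun _ => rfl
  have : Module.Flat A' L := IsLocalization.flat L p'.primeCompl
  have : Module.Flat A' H := Module.Flat.trans A' L H
  have hmH : (maximalIdeal H).LiesOver p' := ⟨by
    rw [Ideal.under, IsScalarTower.algebraMap_eq A' L H, ← Ideal.comap_comap,
      IsLocalRing.maximalIdeal_comap (algebraMap L H)]
    exact (IsLocalization.AtPrime.under_maximalIdeal L p').symm⟩
  obtain ⟨pH, -, hpH, hpHover⟩ := Ideal.exists_ideal_le_liesOver_of_le (p := t') (q := p') (maximalIdeal H) htp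
  let BH := H ⊗[A'] BA
  have : Algebra.IsPushout A' BA H BH := Algebra.IsPushout.symm inferInstance
  let NH := BH ⊗[BA] NA
  let gN : NA →ₗ[BA] NH := TensorProduct.mk BA BH NA 1
  have hgN : IsBaseChange BH gN := TensorProduct.isBaseChange BA NA BH
  obtain ⟨q, hq, hqpH, hqQ, hqass⟩ :=
    ImpurityBaseChange.exists_fiberIdeal_mem_associatedPrimes hgN t' pH Q hQ
  -- it specializes to the closed fibre
  obtain ⟨M, hM, hqM, hMover⟩ : ∃ M : Ideal BH, M.IsPrime ∧ q ≤ M ∧ M.LiesOver (maximalIdeal H) := by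
    by_contra! hno
    exact huA H BH NH gN pH (maximalIdeal H) q ⟨inferInstance, hgN,
      IsLocalRing.le_maximalIdeal hpH.ne_top, hmH, hqpH, hqass,
      fun P' hP' hqP' => hno P' hP' hqP'⟩
  -- flatness there
  have : IsScalarTower A' H NH := IsScalarTower.of_algebraMap_smul fun (r : A') (x : NH) => by
    rw [← algebraMap_smul BH (algebraMap A' H r) x, ← IsScalarTower.algebraMap_apply, algebraMap_smul]
  have : IsScalarTower A' BA NH := IsScalarTower.of_algebraMap_smul fun (r : A') (x : NH) => by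
    rw [← algebraMap_smul BH (algebraMap A' BA r) x, ← IsScalarTower.algebraMap_apply, algebraMap_smul]
  have hflatM : FlatCA.FlatAt H M NH := by
    refine H8Props.FlatAtBC.flat_localizedModule_of_comap (R := A') (R' := H) gN hgN M ?_
    refine H8Props.FlatAtBC.flat_localizedModule_of_comap (R := A) (R' := A') fA hfA _ (hflat _ ⟨?_⟩)
    rw [Ideal.under, Ideal.comap_comap, ← IsScalarTower.algebraMap_eq,
      IsScalarTower.algebraMap_eq A A' BA, ← Ideal.comap_comap, hpp]
    refine congrArg (Ideal.comap (algebraMap A A')) ?_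
    rw [Ideal.comap_comap, ← IsScalarTower.algebraMap_eq, IsScalarTower.algebraMap_eq A' H BH,
      ← Ideal.comap_comap]
    exact hmH.over.trans (congrArg (Ideal.comap (algebraMap A' H)) hMover.over)
  -- the cover
  let C := BH ⊗[BA] B'
  have hcovH : ∀ (Q₂ : Ideal BH) [Q₂.IsPrime], Q₂.LiesOver (maximalIdeal H) →
      FlatCA.fiberIdeal (maximalIdeal H) Q₂ ∈ associatedPrimes ((maximalIdeal H).Fiber BH)
        (FlatCA.fiberMod (maximalIdeal H) BH NH) →
      ∃ Q' : Ideal C, Q'.IsPrime ∧ Q'.comap (algebraMap BH C) = Q₂ := by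
    intro Q₂ _ hQ₂ hass₂
    have := hQ₂
    let Q₁ : Ideal BA := Q₂.comap (algebraMap BA BH)
    have hQ₁ : Q₁.LiesOver p' := ⟨by
      rw [Ideal.under, Ideal.comap_comap, ← IsScalarTower.algebraMap_eq,
        IsScalarTower.algebraMap_eq A' H BH, ← Ideal.comap_comap]
      exact hmH.over.trans (congrArg (Ideal.comap (algebraMap A' H)) hQ₂.over)⟩
    have hass₁ := ImpurityDescend.fiberIdeal_comap_mem_associatedPrimes hgN p' (maximalIdeal H) Q₂ hass₂
    let Q₀ : Ideal B := Q₁.comap (algebraMap B BA)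
    have hQ₀ : Q₀.LiesOver p := ⟨by
      rw [Ideal.under, Ideal.comap_comap, ← IsScalarTower.algebraMap_eq,
        IsScalarTower.algebraMap_eq A A' BA, ← Ideal.comap_comap, hpp]
      exact congrArg (Ideal.comap (algebraMap A A')) hQ₁.over⟩
    obtain ⟨q', hq', hq'B, hq'A⟩ := hcov Q₀ hQ₀
      (ImpurityDescend.fiberIdeal_comap_mem_associatedPrimes hfA p p' Q₁ hass₁)
    have heq : Q₁ = q'.comap (algebraMap BA B') := by
      have : Algebra.IsPushout A A' B BA := Algebra.IsPushout.symm inferInstance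
      refine ElemDev.eq_of_comap_eq (algebraMap A A') (algebraMap A B) (algebraMap A' BA) (algebraMap B BA)
        (by rw [← IsScalarTower.algebraMap_eq, ← IsScalarTower.algebraMap_eq])
        (closure_range_pushout (A := A) (B := B) (A' := A') (B' := BA)) ?_ ?_ ?_
      · rw [show Q₁.comap (algebraMap A' BA) = p' from hQ₁.over.symm]
        exact hfp
      · rw [Ideal.comap_comap, ← IsScalarTower.algebraMap_eq]
        exact hq'B
      · rw [Ideal.comap_comap, ← IsScalarTower.algebraMap_eq, hq'A]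
        exact hQ₁.over
    have : Q₂.LiesOver Q₁ := ⟨rfl⟩
    have : q'.LiesOver Q₁ := ⟨heq⟩
    obtain ⟨R, hR, hRl, -⟩ := ImpurityRebase.exists_prime_over_pair Q₁ Q₂ q'
    exact ⟨R, hR, hRl⟩
  obtain ⟨R, hR, hRq⟩ := exists_prime_over_of_cover NH hcovH M hflatM pH q hqM hqass
  refine ⟨R.comap (algebraMap B' C), inferInstance, ?_⟩
  rw [← hqQ, ← hRq, Ideal.comap_comap, Ideal.comap_comap, ← IsScalarTower.algebraMap_eq,
    ← IsScalarTower.algebraMap_eq]

/-- Purity along a fibre in terms of a pure étale cover. -/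
theorem isPureAlong_iff_cover {A B : Type u} [CommRing A] [CommRing B] [Algebra A B] [Algebra.FiniteType A B]
    (N : Type u) [AddCommGroup N] [Module B N] [Module A N] [IsScalarTower A B N] [Module.Finite B N]
    (p : Ideal A) [p.IsPrime]
    (hflat : ∀ (q : Ideal B) [q.IsPrime], q.LiesOver p → FlatCA.FlatAt A q N)
    (A' : Type u) [CommRing A'] [Algebra A A'] (p' : Ideal A') [p'.IsPrime] (het : FlatCA.IsEtaleNhd A A' p p')
    (B' : Type u) [CommRing B'] [Algebra B B'] [Algebra A' B'] [Algebra A B'] [IsScalarTower A B B']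
    [IsScalarTower A A' B'] [Algebra.Etale B B'] [Algebra.FiniteType A' B']
    (N' : Type u) [AddCommGroup N'] [Module B' N'] [Module B N'] [IsScalarTower B B' N'] [Module A' N']
    [IsScalarTower A' B' N'] (f : N →ₗ[B] N') (hf : IsBaseChange B' f)
    (hpure : FlatCA.IsPureAlong A' B' N' p')
    (hcov : ∀ (q : Ideal B) [q.IsPrime], q.LiesOver p →
      FlatCA.fiberIdeal p q ∈ associatedPrimes (p.Fiber B) (FlatCA.fiberMod p B N) →
      ∃ q' : Ideal B', q'.IsPrime ∧ q'.comap (algebraMap B B') = q ∧ q'.comap (algebraMap A' B') = p')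
    (BA NA : Type u) [CommRing BA] [Algebra B BA] [Algebra A' BA] [Algebra A BA] [IsScalarTower A B BA]
    [IsScalarTower A A' BA] [Algebra.IsPushout A B A' BA] [Algebra BA B'] [IsScalarTower B BA B']
    [IsScalarTower A' BA B'] [AddCommGroup NA] [Module BA NA] [Module B NA] [IsScalarTower B BA NA]
    [Module A' NA] [IsScalarTower A' BA NA] (fA : N →ₗ[B] NA) (hfA : IsBaseChange BA fA) :
    FlatCA.IsPureAlong A B N p ↔
      ∀ (t' : Ideal A') [t'.IsPrime], t' ≤ p' → ∀ (Q : Ideal BA) [Q.IsPrime], Q.LiesOver t' →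
        FlatCA.fiberIdeal t' Q ∈ associatedPrimes (t'.Fiber BA) (FlatCA.fiberMod t' BA NA) →
        ∃ Q' : Ideal B', Q'.IsPrime ∧ Q'.comap (algebraMap BA B') = Q := by
  haveI : Algebra.Etale A A' := het.1
  haveI : Algebra.Etale B BA := etale_of_pushout (A := A) (A' := A')
  haveI : Algebra.Etale BA B' := Algebra.Etale.of_restrictScalars B BA B'
  have := het.2.1
  constructor
  · intro h t' _ htp Q _ hQt hQ
    exact exists_over_of_pure hfA p p' het hflat (isUnivPureAlong_of_flatAlong N p hflat h) hcov t' htp Q hQ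
  · intro hcover
    letI : Module BA N' := Module.compHom N' (algebraMap BA B')
    haveI : IsScalarTower BA B' N' := IsScalarTower.of_algebraMap_smul fun _ _ => rfl
    haveI : IsScalarTower B BA N' := IsScalarTower.of_algebraMap_smul fun (b : B) (n : N') => by
      show algebraMap BA B' (algebraMap B BA b) • n = b • n
      rw [← IsScalarTower.algebraMap_apply, algebraMap_smul]
    let γ : NA →ₗ[BA] N' := hfA.lift f
    have hγ : IsBaseChange B' γ := by
      refine IsBaseChange.of_comp hfA ?_
      rw [show γ.restrictScalars B ∘ₗ fA = f from hfA.lift_comp f]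
      exact hf
    haveI : Module.Finite B' N' := Module.Finite.equiv (hf.equiv (R := B) (M := N))
    have hflat' : ∀ (Q : Ideal B') [Q.IsPrime], Q.LiesOver p' → FlatCA.FlatAt A' Q N' := by
      intro Q _ hQ
      letI : Module A NA := Module.compHom NA (algebraMap A A')
      haveI : IsScalarTower A A' NA := IsScalarTower.of_algebraMap_smul fun _ _ => rfl
      haveI : IsScalarTower A B NA := IsScalarTower.of_algebraMap_smul fun (a : A) (x : NA) => by
        show algebraMap A B a • x = algebraMap A A' a • x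
        rw [← algebraMap_smul BA (algebraMap A B a) x, ← algebraMap_smul BA (algebraMap A A' a) x,
          ← IsScalarTower.algebraMap_apply, ← IsScalarTower.algebraMap_apply]
      have hNA : FlatCA.FlatAt A' (Q.comap (algebraMap BA B')) NA := by
        refine H8Props.FlatAtBC.flat_localizedModule_of_comap (R := A) (R' := A') fA hfA _ (hflat _ ⟨?_⟩)
        rw [Ideal.under, Ideal.comap_comap, ← IsScalarTower.algebraMap_eq,
          IsScalarTower.algebraMap_eq A A' BA, ← Ideal.comap_comap, Ideal.comap_comap (algebraMap A' BA),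
          ← IsScalarTower.algebraMap_eq, het.2.1.over]
        exact congrArg (Ideal.comap (algebraMap A A')) hQ.over
      let e : B' ⊗[BA] NA ≃ₗ[B'] N' := hγ.equiv
      exact H7Flat.DevissageChain.flatAt_congr Q e (flatAt_tensor NA Q hNA)
    intro A'' B'' N'' _ _ _ _ _ _ _ _ _ _ _ _ _ _ g s' s _ _ P _ _ himp
    exact isUnivPureAlong_of_cover hfA γ hγ p p' (isUnivPureAlong_of_flatAlong N' p' hflat' hpure)
      hcover A'' B'' N'' g s' s P himp

end Groth.Agent.H7Flat.Chain
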