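import Groth.Agent.H7Flat.Chain.JointInjConstructible
import Groth.Agent.H7Flat.Chain.CoverProjective
import Groth.Agent.H7Flat.ProjectivePure
import Groth.Agent.H7Flat.ImpurityDescend
import Groth.Agent.S1255
import Groth.Agent.S1217
import Mathlib

/-!
# Openness of the locus of purity for flat modules
-/

set_option autoImplicit false
set_option linter.style.haveILetI false
set_option backward.isDefEq.respectTransparency false
set_option maxHeartbeats 1000000
set_option synthInstance.maxHeartbeats 200000

universe u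

open TensorProduct Topology PrimeSpectrum Groth.Agent.H7Flat.ElemDev Groth.Agent.H8Props.Devissage

attribute [local instance] Algebra.TensorProduct.rightAlgebra

namespace Groth.Agent.H7Flat.Chain

/-- The associated points of the fibre avoid a closed set iff its equations are jointly injective on
the fibre. -/
theorem mem_jointInjLocus_lsmul_iff {A B : Type u} [CommRing A] [CommRing B] [Algebra A B]
    [Algebra.FiniteType A B] (N : Type u) [AddCommGroup N] [Module B N] [Module A N] [IsScalarTower A B N]
    [Module.Finite B N] {k : ℕ} (g : Fin k → B) (t : PrimeSpectrum A) :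
    t ∈ jointInjLocus A (fun i => (LinearMap.lsmul B N (g i)).restrictScalars A) ↔
      ∀ (Q : Ideal B) [Q.IsPrime], Q.LiesOver t.asIdeal →
        FlatCA.fiberIdeal t.asIdeal Q ∈
          associatedPrimes (t.asIdeal.Fiber B) (FlatCA.fiberMod t.asIdeal B N) →
        ∃ i, g i ∉ Q := by
  let p := t.asIdeal
  let F := p.Fiber B
  haveI : IsNoetherianRing F := Algebra.FiniteType.isNoetherianRing p.ResidueField _
  let e := ProjectivePure.fiberEquiv (R := A) (S := B) p N
  have hsm : ∀ (b : B) (y : F ⊗[B] N), algebraMap B F b • y = b • y := fun b y => algebraMap_smul F b y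
  have key : ∀ (z : p.ResidueField ⊗[A] N),
      (∀ i, ((LinearMap.lsmul B N (g i)).restrictScalars A).baseChange p.ResidueField z = 0) ↔
        ∀ i, g i • e.symm (TensorProduct.comm A p.ResidueField N z) = 0 := by
    intro z
    have h : ∀ i, TensorProduct.comm A p.ResidueField N
        (((LinearMap.lsmul B N (g i)).restrictScalars A).baseChange p.ResidueField z) =
          g i • TensorProduct.comm A p.ResidueField N z := by
      intro i
      induction z using TensorProduct.induction_on with
      | zero => simp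
      | tmul a x => simp [smul_tmul']
      | add a b ha hb => simp only [map_add, smul_add, ha, hb]
    refine forall_congr' fun i => ?_
    rw [← map_smul, LinearEquiv.map_eq_zero_iff, ← h, LinearEquiv.map_eq_zero_iff]
  constructor
  · intro h Q _ hQ hass
    by_contra! hg
    obtain ⟨hP, y, hy⟩ := isAssociatedPrime_iff.mp hass
    obtain ⟨z, hz⟩ : ∃ z, e.symm (TensorProduct.comm A p.ResidueField N z) = y :=
      ⟨(TensorProduct.comm A p.ResidueField N).symm (e y), by simp⟩
    have hz0 : z = 0 := h z ((key z).mpr fun i => by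
      rw [hz]
      refine (hsm (g i) y).symm.trans ?_
      have hmem : algebraMap B F (g i) ∈ FlatCA.fiberIdeal p Q := Ideal.mem_map_of_mem _ (hg i)
      rw [hy, Submodule.mem_colon_singleton, Submodule.mem_bot] at hmem
      exact hmem)
    refine hP.ne_top ?_
    rw [hy, ← hz, hz0, map_zero, map_zero]
    ext x
    simp [Submodule.mem_colon_singleton]
  · intro h z hz
    by_contra hz0
    let y := e.symm (TensorProduct.comm A p.ResidueField N z)
    have hy0 : y ≠ 0 := fun hy => hz0 ((TensorProduct.comm A p.ResidueField N).injective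
      (e.symm.injective (hy.trans (by simp))))
    obtain ⟨P, hP, hle⟩ := exists_le_isAssociatedPrime_of_isNoetherianRing F y hy0
    haveI := hP.isPrime
    have hover : (P.comap (algebraMap B F)).LiesOver p := ⟨by
      rw [Ideal.under_def, Ideal.comap_comap, ← IsScalarTower.algebraMap_eq,
        IsScalarTower.algebraMap_eq A p.ResidueField F, ← Ideal.comap_comap,
        (Ideal.eq_bot_or_top _).resolve_right (Ideal.comap_ne_top _ hP.isPrime.ne_top)]
      ext x
      exact (Ideal.mem_bot.trans Ideal.algebraMap_residueField_eq_zero).symm⟩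
    obtain ⟨i, hi⟩ := h (P.comap (algebraMap B F)) hover (by
      rw [ImpurityDescend.fiberIdeal_comap]
      exact hP)
    refine hi (Ideal.mem_comap.mpr (hle ?_))
    rw [Submodule.mem_colon_singleton, Submodule.mem_bot]
    exact (hsm (g i) y).trans ((key z).mp hz i)

/-- The locus of purity of a flat finitely presented module is open. -/
theorem isOpen_isPureAlong {A B : Type u} [CommRing A] [CommRing B] [Algebra A B]
    [Algebra.FinitePresentation A B] (N : Type u) [AddCommGroup N] [Module B N] [Module A N]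
    [IsScalarTower A B N] [Module.FinitePresentation B N] [Module.Flat A N] :
    IsOpen {p : PrimeSpectrum A | FlatCA.IsPureAlong A B N p.asIdeal} := by
  classical
  rw [isOpen_iff_forall_mem_open]
  intro p hp
  have hflat : ∀ (q : Ideal B) [q.IsPrime], FlatCA.FlatAt A q N := fun q _ =>
    H06EGA11.flat_localizedModule _ fun J x hx => ⟨1, one_mem _, by
      rw [one_smul]
      exact (injective_iff_map_eq_zero _).mp
        (Module.Flat.lTensor_preserves_injective_linearMap J.subtype J.injective_subtype) x hx⟩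
  obtain ⟨A', S', _, _, _, _, _, _, _, _, p', _, hnhd, hS', hcov, hproj⟩ :=
    exists_cover_projective_over (R := A) (S := B) N p.asIdeal fun q _ _ => hflat q
  haveI := hS'
  haveI : Algebra.Etale A A' := hnhd.1
  let BA := B ⊗[A] A'
  haveI : Algebra.IsPushout A B A' BA := inferInstance
  let φ : BA →ₐ[B] S' := Algebra.TensorProduct.lift (Algebra.ofId B S') (IsScalarTower.toAlgHom A A' S')
    fun _ _ => Commute.all _ _
  letI : Algebra BA S' := φ.toRingHom.toAlgebra
  haveI : IsScalarTower B BA S' :=
    IsScalarTower.of_algebraMap_eq (R := B) (S := BA) (A := S') fun b => (φ.commutes b).symm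
  haveI : IsScalarTower A' BA S' :=
    IsScalarTower.of_algebraMap_eq (R := A') (S := BA) (A := S') fun a => by
      show algebraMap A' S' a = φ ((1 : B) ⊗ₜ[A] a)
      refine ((Algebra.TensorProduct.lift_tmul _ _ _ (1 : B) a).trans ?_).symm
      rw [map_one, one_mul]
      rfl
  haveI : Algebra.Etale B BA := inferInstance
  haveI : Algebra.Etale BA S' := Algebra.Etale.of_restrictScalars B BA S'
  haveI : Algebra.FinitePresentation A S' := Algebra.FinitePresentation.trans A B S'
  haveI : Algebra.FinitePresentation A' S' :=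
    Algebra.FinitePresentation.of_restrict_scalars_finitePresentation A A' S'
  haveI : Algebra.FinitePresentation A' BA := by
    haveI : Algebra.IsPushout A A' B BA := Algebra.IsPushout.symm ‹_›
    exact Algebra.FinitePresentation.equiv (Algebra.IsPushout.equiv A A' B BA)
  let NA := BA ⊗[B] N
  let N' := S' ⊗[B] N
  haveI : Module.Projective A' N' := by
    haveI := hproj
    exact Module.Projective.of_equiv (M := RestrictScalars A' S' N')
      ({ RestrictScalars.addEquiv A' S' N' with
        map_smul' := fun a x => by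
          show RestrictScalars.addEquiv A' S' N' (a • x) = a • RestrictScalars.addEquiv A' S' N' x
          rw [RestrictScalars.addEquiv_map_smul, algebraMap_smul] } : RestrictScalars A' S' N' ≃ₗ[A'] N')
  haveI : Module.Flat A' NA := by
    haveI : Algebra.IsPushout A A' B BA := Algebra.IsPushout.symm ‹_›
    exact Module.Flat.isBaseChange A A' N NA
      (f := (TensorProduct.mk B BA N 1).restrictScalars A)
      (isBaseChange_restrict (TensorProduct.isBaseChange B N BA))
  -- the image of the cover is cut out by finitely many equations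
  let W := Set.range (PrimeSpectrum.comap (algebraMap BA S'))
  have hWo : IsOpen W := by
    rw [show W = PrimeSpectrum.comap (algebraMap BA S') '' Set.univ from Set.image_univ.symm]
    exact PrimeSpectrum.isOpenMap_comap_of_hasGoingDown_of_finitePresentation _ isOpen_univ
  have hWc : IsCompact W := isCompact_range (PrimeSpectrum.continuous_comap _)
  obtain ⟨T, hT⟩ := PrimeSpectrum.isCompact_isOpen_iff.mp ⟨hWc, hWo⟩
  let g : Fin T.card → BA := fun i => T.equivFin.symm i
  have hW : ∀ (Q : Ideal BA) [Q.IsPrime],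
      (∃ Q' : Ideal S', Q'.IsPrime ∧ Q'.comap (algebraMap BA S') = Q) ↔ ∃ i, g i ∉ Q := by
    intro Q _
    have h1 : (⟨Q, inferInstance⟩ : PrimeSpectrum BA) ∈ W ↔ ∃ i, g i ∉ Q := by
      rw [← hT, Set.mem_compl_iff, PrimeSpectrum.mem_zeroLocus, Set.not_subset]
      exact ⟨fun ⟨x, hx, hxQ⟩ => ⟨T.equivFin ⟨x, hx⟩, by simpa [g] using hxQ⟩,
        fun ⟨i, hi⟩ => ⟨g i, (T.equivFin.symm i).2, hi⟩⟩
    refine Iff.trans ?_ h1
    exact ⟨fun ⟨Q', h, h'⟩ => ⟨⟨Q', h⟩, PrimeSpectrum.ext h'⟩,
      fun ⟨Q', h'⟩ => ⟨Q'.asIdeal, Q'.isPrime, congrArg PrimeSpectrum.asIdeal h'⟩⟩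
  let E := jointInjLocus A' fun i => (LinearMap.lsmul BA NA (g i)).restrictScalars A'
  have hE : ∀ t : PrimeSpectrum A', t ∈ E ↔ ∀ (Q : Ideal BA) [Q.IsPrime], Q.LiesOver t.asIdeal →
      FlatCA.fiberIdeal t.asIdeal Q ∈
        associatedPrimes (t.asIdeal.Fiber BA) (FlatCA.fiberMod t.asIdeal BA NA) →
      ∃ Q' : Ideal S', Q'.IsPrime ∧ Q'.comap (algebraMap BA S') = Q := fun t =>
    (mem_jointInjLocus_lsmul_iff NA g t).trans (forall_congr' fun Q => forall_congr' fun hQ =>
      forall_congr' fun _ => forall_congr' fun _ => (@hW Q hQ).symm)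
  have hpure' : ∀ (t : Ideal A') [t.IsPrime], FlatCA.IsPureAlong A' S' N' t := fun t _ => by
    intro A'' B'' N'' _ _ _ _ _ _ _ _ _ _ _ _ _ _ f s' s _ _ P _ _
    exact ProjectivePure.isUnivPureAlong_of_projective N' t A'' B'' N'' f s' s P
  have hgen : ∀ t : PrimeSpectrum A', t.asIdeal ≤ p' → t ∈ E := by
    intro t ht
    refine (hE t).mpr fun Q _ hQ hass => ?_
    exact (Groth.Agent.S1255.result N p.asIdeal (fun q _ _ => hflat q) A' p' hnhd S' N'
      (TensorProduct.mk B S' N 1) (TensorProduct.isBaseChange B N S') (hpure' p')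
      (fun q _ hq _ => hcov q hq) BA NA (TensorProduct.mk B BA N 1)
      (TensorProduct.isBaseChange B N BA)).mp hp t.asIdeal ht Q hQ hass
  let Z : Set (PrimeSpectrum A') := {t | ∃ s, s ⤳ t ∧ s ∉ E}
  have hEc : IsConstructible E := isConstructible_jointInjLocus (A := A') (B := BA) NA g
  obtain ⟨c, hc, hcE⟩ : ∃ c : A', c ∉ p' ∧
      ∀ t : PrimeSpectrum A', c ∉ t.asIdeal → ∀ s : PrimeSpectrum A', s ⤳ t → s ∈ E := by
    have hclos : (⟨p', inferInstance⟩ : PrimeSpectrum A') ∉ closure Eᶜ := by
      intro hcl
      obtain ⟨S, _, f, hf⟩ := PrimeSpectrum.exists_range_eq_of_isConstructible hEc.compl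
      rw [← hf, PrimeSpectrum.closure_range_comap, PrimeSpectrum.mem_zeroLocus] at hcl
      obtain ⟨P, hP, hPle⟩ := Ideal.exists_minimalPrimes_le (I := RingHom.ker f)
        (J := p') (SetLike.coe_subset_coe.mp hcl)
      haveI := hP.1.1
      obtain ⟨P', hP', -, hP'P⟩ := Ideal.exists_comap_eq_of_mem_minimalPrimes f P hP
      have hmem : (⟨P, inferInstance⟩ : PrimeSpectrum A') ∈ Eᶜ :=
        hf ▸ ⟨⟨P', hP'⟩, PrimeSpectrum.ext hP'P⟩
      exact hmem (hgen _ hPle)
    obtain ⟨_, ⟨c, rfl⟩, hc, hcsub⟩ := PrimeSpectrum.isTopologicalBasis_basic_opens.exists_subset_of_mem_open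
      hclos isClosed_closure.isOpen_compl
    refine ⟨c, hc, fun t ht s hst => ?_⟩
    by_contra hs
    exact hcsub ht (isClosed_closure.stableUnderSpecialization hst (subset_closure hs))
  refine ⟨PrimeSpectrum.comap (algebraMap A A') '' (basicOpen c : Set (PrimeSpectrum A')), ?_,
    PrimeSpectrum.isOpenMap_comap_of_hasGoingDown_of_finitePresentation _ (basicOpen c).isOpen,
    ⟨⟨p', inferInstance⟩, hc, PrimeSpectrum.ext hnhd.2.1.over.symm⟩⟩
  rintro _ ⟨t, ht, rfl⟩
  haveI : t.asIdeal.LiesOver (PrimeSpectrum.comap (algebraMap A A') t).asIdeal := ⟨rfl⟩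
  haveI : Module.Flat A (Localization.AtPrime t.asIdeal) := Module.Flat.trans A A' _
  refine (Groth.Agent.S1217.result N (PrimeSpectrum.comap (algebraMap A A') t).asIdeal A' BA NA
    (TensorProduct.mk B BA N 1) (TensorProduct.isBaseChange B N BA) t.asIdeal).1 ?_
  have hidnhd : FlatCA.IsEtaleNhd A' A' t.asIdeal t.asIdeal := by
    refine isEtaleNhd_of_fracSurj rfl ?_
    exact fracSurj_of_surjective _ Function.surjective_id t.asIdeal
  refine (Groth.Agent.S1255.result (A := A') (B := BA) NA t.asIdeal (fun q _ _ => ?_) A' t.asIdeal hidnhd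
    S' (S' ⊗[BA] NA) (TensorProduct.mk BA S' NA 1) (TensorProduct.isBaseChange BA NA S') ?_
    (fun Q _ hQ hass => ?_) BA NA LinearMap.id (IsBaseChange.ofEquiv (LinearEquiv.refl BA NA))).mpr ?_
  · exact H06EGA11.flat_localizedModule _ fun J x hx => ⟨1, one_mem _, by
      rw [one_smul]
      exact (injective_iff_map_eq_zero _).mp
        (Module.Flat.lTensor_preserves_injective_linearMap J.subtype J.injective_subtype) x hx⟩
  · intro A'' B'' N'' _ _ _ _ _ _ _ _ _ _ _ _ _ _ f s' s _ _ P _ _
    haveI : Module.Projective A' (S' ⊗[BA] NA) := Module.Projective.of_equiv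
      ((AlgebraTensorModule.cancelBaseChange B BA S' S' N).restrictScalars A').symm
    exact ProjectivePure.isUnivPureAlong_of_projective (S' ⊗[BA] NA) t.asIdeal A'' B'' N'' f s' s P
  · obtain ⟨Q', hQ', hQ'Q⟩ := (hE t).mp (hcE t ht t (specializes_refl t)) Q hQ hass
    refine ⟨Q', hQ', hQ'Q, ?_⟩
    rw [IsScalarTower.algebraMap_eq A' BA S', ← Ideal.comap_comap, hQ'Q]
    exact hQ.over.symm
  · intro t' _ ht' Q _ hQ hass
    exact (hE ⟨t', ‹_›⟩).mp (hcE t ht ⟨t', ‹_›⟩ ((PrimeSpectrum.le_iff_specializes _ t).mp ht')) Q hQ hass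

end Groth.Agent.H7Flat.Chain
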