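import Groth.Agent.H7Flat.Chain.CoverProjective
import Groth.Agent.H7Flat.Chain.OpenFreeMain
import Groth.Agent.H7Flat.Chain.PureOpen
import Groth.Agent.S1217
import Groth.Agent.S1219
import Groth.Agent.S1226
import Groth.Agent.S9005
import Mathlib

/-!
# Projectivity spreads out from the local ring of the base
-/

set_option autoImplicit false
set_option linter.style.haveILetI false
set_option backward.isDefEq.respectTransparency false
set_option maxHeartbeats 1000000
set_option synthInstance.maxHeartbeats 400000

universe u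

open TensorProduct

namespace Groth.Agent.H7Flat.Chain

open Groth.Agent.H7Flat.ElemDev Groth.Agent.H8Props.Devissage

/-- Base change of the restriction of a module to an algebra. -/
theorem nonempty_pieceEquiv {R₁ R' S C D : Type u} [CommRing R₁] [CommRing R'] [CommRing S] [CommRing C]
    [CommRing D] [Algebra R₁ R'] [Algebra R₁ C] [Algebra S C] [Algebra R' D] [Algebra C D] [Algebra S D]
    [IsScalarTower S C D] [Algebra R₁ D] [IsScalarTower R₁ R' D] [IsScalarTower R₁ C D]
    [Algebra.IsPushout R₁ R' C D] (N : Type u) [AddCommGroup N] [Module S N] :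
    Nonempty (R' ⊗[R₁] (C ⊗[S] N) ≃ₗ[R'] D ⊗[S] N) := by
  let M := D ⊗[C] (C ⊗[S] N)
  haveI : IsScalarTower R₁ C M := IsScalarTower.of_algebraMap_smul fun (r : R₁) (z : M) => by
    rw [← algebraMap_smul D (algebraMap R₁ C r) z, ← IsScalarTower.algebraMap_apply, algebraMap_smul]
  have hb : IsBaseChange R' ((TensorProduct.mk C D (C ⊗[S] N) 1).restrictScalars R₁) :=
    isBaseChange_restrict (TensorProduct.isBaseChange C (C ⊗[S] N) D)
  exact ⟨hb.equiv ≪≫ₗ (AlgebraTensorModule.cancelBaseChange S C D D N).restrictScalars R'⟩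

/-- Universal injectivity of multiplications only depends on the element up to units. -/
theorem univInj_lsmul_of_unit {A SA P : Type u} [CommRing A] [CommRing SA] [Algebra A SA]
    [AddCommGroup P] [Module SA P] [Module A P] [IsScalarTower A SA P] {g c b : SA} (hb : g * c = b)
    (hc : IsUnit c) (h : FlatCA.UnivInj A ((LinearMap.lsmul SA P g).restrictScalars A)) :
    FlatCA.UnivInj A ((LinearMap.lsmul SA P b).restrictScalars A) := by
  obtain ⟨v, rfl⟩ := hc
  subst hb
  intro Q _ _
  let w : P ≃ₗ[A] P := (LinearEquiv.smulOfUnit v).restrictScalars A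
  have h2 : (LinearMap.lsmul SA P (g * v)).restrictScalars A =
      (LinearMap.lsmul SA P g).restrictScalars A ∘ₗ w.toLinearMap :=
    LinearMap.ext fun z => mul_smul g (v : SA) z
  rw [h2, LinearMap.lTensor_comp, LinearMap.coe_comp]
  exact (h Q).comp (w.lTensor Q).injective

/-- A module which becomes projective over the local ring of the base on an etale algebra is projective
over the local ring of the base on a basic open defined downstairs. -/
theorem exists_away_projective_atPrime {R' S S0 T A : Type u} [CommRing R'] [CommRing S] [CommRing S0]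
    [CommRing T] [CommRing A] [Algebra R' S0] [Algebra S S0] [Algebra S0 T] [Algebra R' T] [Algebra S T]
    [IsScalarTower R' S0 T] [IsScalarTower S S0 T] [Algebra.Etale S0 T] [Algebra.FiniteType R' S0]
    [Algebra R' A] [IsLocalRing A] (p' : Ideal R') [p'.IsPrime] [IsLocalization p'.primeCompl A]
    (N : Type u) [AddCommGroup N] [Module S N] [Module.Finite S N] (x : Ideal T) [x.IsPrime]
    (hx : x.comap (algebraMap R' T) = p') [Module.Projective A (A ⊗[R'] (T ⊗[S] N))] :
    ∃ b : S0, b ∉ x.comap (algebraMap S0 T) ∧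
      Module.Projective A (A ⊗[R'] (Localization.Away b ⊗[S] N)) := by
  classical
  let SA := A ⊗[R'] S0
  letI : Algebra S0 SA := Algebra.TensorProduct.rightAlgebra
  letI : Algebra S SA := ((algebraMap S0 SA).comp (algebraMap S S0)).toAlgebra
  haveI : IsScalarTower S S0 SA := IsScalarTower.of_algebraMap_eq fun _ => rfl
  haveI hSA : Algebra.IsPushout R' A S0 SA := inferInstance
  haveI : Algebra.IsPushout R' S0 A SA := hSA.symm
  let TA := SA ⊗[S0] T
  letI : Algebra T TA := Algebra.TensorProduct.rightAlgebra
  haveI : Algebra.IsPushout S0 T SA TA := Algebra.IsPushout.symm inferInstance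
  haveI : IsScalarTower R' T TA := IsScalarTower.of_algebraMap_eq fun r => by
    rw [IsScalarTower.algebraMap_apply R' S0 T, ← IsScalarTower.algebraMap_apply S0 T TA,
      IsScalarTower.algebraMap_apply S0 SA TA, ← IsScalarTower.algebraMap_apply R' S0 SA,
      ← IsScalarTower.algebraMap_apply R' SA TA]
  haveI : Algebra.IsPushout R' A T TA :=
    ((Algebra.IsPushout.comp_iff (R := R') (S := S0) (T := T) (R' := A) (S' := SA) (T' := TA)).mpr ‹_›).symm
  haveI : IsScalarTower S T TA := IsScalarTower.of_algebraMap_eq fun s => by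
    rw [IsScalarTower.algebraMap_apply S S0 T, ← IsScalarTower.algebraMap_apply S0 T TA,
      IsScalarTower.algebraMap_apply S SA TA, IsScalarTower.algebraMap_apply S S0 SA,
      ← IsScalarTower.algebraMap_apply S0 SA TA]
  obtain ⟨e⟩ := nonempty_pieceEquiv (R₁ := R') (R' := A) (S := S) (C := T) (D := TA) N
  let NA := SA ⊗[S] N
  haveI : Module.Projective A (TA ⊗[SA] NA) := Module.Projective.of_equiv
    (e ≪≫ₗ ((AlgebraTensorModule.cancelBaseChange S SA TA TA N).restrictScalars A).symm)
  haveI : Module.Free A (TA ⊗[SA] NA) := H1CAlg.free_of_projective_isLocalRing (R := A) (TA ⊗[SA] NA)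
  -- a prime of `TA` over `x`
  haveI hloc : IsLocalization (Algebra.algebraMapSubmonoid S0 p'.primeCompl) SA :=
    (Algebra.isLocalization_iff_isPushout (S := p'.primeCompl) A).mpr inferInstance
  let y := x.comap (algebraMap S0 T)
  have hy : y.comap (algebraMap R' S0) = p' := by
    rw [Ideal.comap_comap, ← IsScalarTower.algebraMap_eq, hx]
  have hdis : Disjoint (Algebra.algebraMapSubmonoid S0 p'.primeCompl : Set S0) (y : Set S0) := by
    rw [Set.disjoint_left]
    rintro _ ⟨r, hr, rfl⟩ hr'
    exact hr (hy ▸ hr')
  haveI : (y.map (algebraMap S0 SA)).IsPrime :=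
    IsLocalization.isPrime_of_isPrime_disjoint (Algebra.algebraMapSubmonoid S0 p'.primeCompl) SA y
      inferInstance hdis
  have hP : (y.map (algebraMap S0 SA)).comap (algebraMap S0 SA) = y :=
    IsLocalization.under_map_of_isPrime_disjoint (Algebra.algebraMapSubmonoid S0 p'.primeCompl) SA
      inferInstance hdis
  obtain ⟨X, hX, hXP, -⟩ := exists_prime_tensor (R := S0) (A := SA) (B := T) (y.map (algebraMap S0 SA)) x
    hP.symm (fracSurj_of_isLocalization (Algebra.algebraMapSubmonoid S0 p'.primeCompl) SA _)
  haveI := hX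
  haveI : Module.Finite T (T ⊗[S] N) := inferInstance
  obtain ⟨g, hg, him, hui⟩ := exists_univInj_inside (A := A) (SA := SA) (T := TA) (TA ⊗[SA] NA) X
  -- clear denominators
  obtain ⟨⟨b, c⟩, hb⟩ := IsLocalization.surj (Algebra.algebraMapSubmonoid S0 p'.primeCompl) g
  simp only at hb
  have hu : IsUnit (algebraMap S0 SA c) := IsLocalization.map_units SA c
  have hgb : ∀ (Q : Ideal SA) [Q.IsPrime], algebraMap S0 SA b ∉ Q → g ∉ Q := fun Q _ h hg' =>
    h (hb ▸ Q.mul_mem_right _ hg')
  refine ⟨b, fun hby => hg ?_, ?_⟩
  · change g ∈ X.comap (algebraMap SA TA)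
    rw [show X.comap (algebraMap SA TA) = y.map (algebraMap S0 SA) from hXP]
    have : g * algebraMap S0 SA c ∈ y.map (algebraMap S0 SA) := hb ▸ Ideal.mem_map_of_mem _ hby
    exact (Ideal.mul_unit_mem_iff_mem _ hu).mp this
  haveI : Module.Finite SA NA := inferInstance
  have hfree := free_away_of_univInj (A := A) (SA := SA) (T := TA) NA (algebraMap S0 SA b)
    (fun Q _ h => him Q (hgb Q h)) (univInj_lsmul_of_unit hb hu hui)
  let C0 := Localization.Away b
  let C' := Localization.Away (algebraMap S0 SA b)
  letI : Algebra C0 C' := (IsLocalization.Away.lift b (g := algebraMap S0 C')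
    (by rw [IsScalarTower.algebraMap_apply S0 SA C']; exact IsLocalization.Away.algebraMap_isUnit _)).toAlgebra
  haveI : IsScalarTower S0 C0 C' := IsScalarTower.of_algebraMap_eq fun z =>
    (IsLocalization.Away.lift_eq (g := algebraMap S0 C') b _ z).symm
  haveI : IsLocalization (Algebra.algebraMapSubmonoid SA (Submonoid.powers b)) C' := by
    rw [Algebra.algebraMapSubmonoid, Submonoid.map_powers]
    infer_instance
  haveI : Algebra.IsPushout S0 SA C0 C' := Algebra.isPushout_of_isLocalization (Submonoid.powers b) C0 SA C'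
  haveI : IsScalarTower R' C0 C' := IsScalarTower.of_algebraMap_eq fun r => by
    rw [IsScalarTower.algebraMap_apply R' S0 C0, ← IsScalarTower.algebraMap_apply S0 C0 C',
      IsScalarTower.algebraMap_apply R' SA C', IsScalarTower.algebraMap_apply R' S0 SA,
      ← IsScalarTower.algebraMap_apply S0 SA C']
  haveI : Algebra.IsPushout R' A C0 C' :=
    ((Algebra.IsPushout.comp_iff (R := R') (S := S0) (T := C0) (R' := A) (S' := SA) (T' := C')).mpr (Algebra.IsPushout.symm ‹_›)).symm
  haveI : IsScalarTower S C0 C' := IsScalarTower.of_algebraMap_eq fun s => by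
    rw [IsScalarTower.algebraMap_apply S S0 C0, ← IsScalarTower.algebraMap_apply S0 C0 C',
      IsScalarTower.algebraMap_apply S SA C', IsScalarTower.algebraMap_apply S S0 SA,
      ← IsScalarTower.algebraMap_apply S0 SA C']
  obtain ⟨e'⟩ := nonempty_pieceEquiv (R₁ := R') (R' := A) (S := S) (C := C0) (D := C') N
  haveI := free_restrict_iff' hfree
  exact Module.Projective.of_equiv (M := C' ⊗[SA] NA)
    ((AlgebraTensorModule.cancelBaseChange S SA C' C' N).restrictScalars A ≪≫ₗ e'.symm)

/-- Projectivity after a flat local base change gives purity along the prime below. -/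
theorem isPureAlong_of_projective_baseChange {R A C W : Type u} [CommRing R] [CommRing A] [IsLocalRing A]
    [CommRing C] [Algebra R A] [Module.Flat R A] [Algebra R C] [Algebra.FiniteType R C] [AddCommGroup W]
    [Module C W] [Module R W] [IsScalarTower R C W] [Module.Finite C W] (p : Ideal R) [p.IsPrime]
    [(IsLocalRing.maximalIdeal A).LiesOver p] [Module.Projective A (A ⊗[R] W)] :
    FlatCA.IsPureAlong R C W p := by
  let CA := A ⊗[R] C
  letI : Algebra C CA := Algebra.TensorProduct.rightAlgebra
  let WA := CA ⊗[C] W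
  let f : W →ₗ[C] WA := TensorProduct.mk C CA W 1
  have hf : IsBaseChange CA f := TensorProduct.isBaseChange C W CA
  haveI : IsScalarTower R C WA := IsScalarTower.of_algebraMap_smul fun (r : R) (z : WA) => by
    rw [← algebraMap_smul CA (algebraMap R C r) z, ← IsScalarTower.algebraMap_apply, algebraMap_smul]
  have hbc : IsBaseChange A (f.restrictScalars R) := isBaseChange_restrict hf
  haveI : Module.Projective A WA := Module.Projective.of_equiv hbc.equiv
  haveI : Module.Flat R (Localization.AtPrime (IsLocalRing.maximalIdeal A)) :=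
    Module.Flat.trans R A _
  exact (Groth.Agent.S1217.result W p A CA WA f hf (IsLocalRing.maximalIdeal A)).1
    fun A' B' N' _ _ _ _ _ _ _ _ _ _ _ _ _ _ g t' t _ _ P _ _ =>
      H7Flat.ProjectivePure.isUnivPureAlong_of_projective WA (IsLocalRing.maximalIdeal A) A' B' N' g t' t P

/-- A flat module which is pure along the image of an etale base is projective over it. -/
theorem projective_baseChange_of_isPureAlong {R R2 C W : Type u} [CommRing R] [CommRing R2] [CommRing C]
    [Algebra R R2] [Algebra.Etale R R2] [Algebra R C] [Algebra.FinitePresentation R C] [AddCommGroup W]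
    [Module C W] [Module R W] [IsScalarTower R C W] [Module.FinitePresentation C W] [Module.Flat R W]
    (hpure : ∀ (P : Ideal R2) [P.IsPrime], FlatCA.IsPureAlong R C W (P.comap (algebraMap R R2))) :
    Module.Projective R2 (R2 ⊗[R] W) := by
  let C2 := R2 ⊗[R] C
  letI : Algebra C C2 := Algebra.TensorProduct.rightAlgebra
  let W2 := C2 ⊗[C] W
  let g : W →ₗ[C] W2 := TensorProduct.mk C C2 W 1
  have hg : IsBaseChange C2 g := TensorProduct.isBaseChange C W C2
  haveI : IsScalarTower R C W2 := IsScalarTower.of_algebraMap_smul fun (r : R) (z : W2) => by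
    rw [← algebraMap_smul C2 (algebraMap R C r) z, ← IsScalarTower.algebraMap_apply, algebraMap_smul]
  have hbc2 : IsBaseChange R2 (g.restrictScalars R) := isBaseChange_restrict hg
  haveI : Module.Flat R2 W2 := Module.Flat.of_linearEquiv hbc2.equiv.symm
  haveI : Algebra.FinitePresentation R2 C2 := inferInstance
  haveI : Module.FinitePresentation C2 W2 := inferInstance
  haveI : Module.Projective R2 W2 := by
    refine (Groth.Agent.S1219.result (A := R2) (B := C2) W2).mpr fun P _ => ?_
    haveI : P.LiesOver (P.comap (algebraMap R R2)) := ⟨rfl⟩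
    exact Groth.Agent.S1226.result W (P.comap (algebraMap R R2)) R2 C2 W2 g hg P (hpure P)
  exact Module.Projective.of_equiv hbc2.equiv.symm

/-- The base change to a localization of the base over which all points are flat is flat. -/
theorem flat_baseChange_away {R R1 C W : Type u} [CommRing R] [CommRing R1] [CommRing C] [Algebra R R1]
    [Algebra R C] [AddCommGroup W] [Module C W] [Module R W] [IsScalarTower R C W] (s : R)
    [IsLocalization.Away s R1] [Module.Finite C W]
    (h : ∀ (Q : Ideal C) [Q.IsPrime], algebraMap R C s ∉ Q → Module.Flat R (LocalizedModule Q.primeCompl W)) :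
    Module.Flat R1 (R1 ⊗[R] W) := by
  haveI : Module.Flat R (LocalizedModule (Submonoid.powers (algebraMap R C s)) W) := by
    refine (H7Flat.FlatAtFinite.flat_localizedModule_iff R _ _).mpr fun I z hz => ?_
    by_contra hne
    push Not at hne
    let Ann := (Submodule.span C {z}).annihilator
    obtain ⟨Q, hQ, hAQ, hQd⟩ := Ideal.exists_le_prime_disjoint Ann (Submonoid.powers (algebraMap R C s))
      (Set.disjoint_left.mpr fun x h1 h2 => hne x h2
        ((Submodule.mem_annihilator_span_singleton z x).mp h1))
    haveI := hQ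
    obtain ⟨t, ht, htz⟩ := (H7Flat.FlatAtFinite.flat_localizedModule_iff R Q.primeCompl W).mp
      (h Q fun hm => Set.disjoint_left.mp hQd hm (Submonoid.mem_powers _)) I z hz
    exact ht (hAQ ((Submodule.mem_annihilator_span_singleton z t).mpr htz))
  haveI : IsLocalization.Away s R1 := inferInstance
  let mk := (LocalizedModule.mkLinearMap (Submonoid.powers (algebraMap R C s)) W).restrictScalars R
  haveI : IsLocalizedModule (Submonoid.powers s) mk := by
    exact @H7Flat.DevissageFP.isLocalizedModule_comap R C W
      (LocalizedModule (Submonoid.powers (algebraMap R C s)) W) _ _ _ _ _ _ _ _ _ _ _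
      (Submonoid.powers s) (Submonoid.powers (algebraMap R C s))
      (by rintro _ ⟨k, rfl⟩; exact ⟨k, by simp⟩)
      (by rintro _ ⟨k, rfl⟩; exact ⟨s ^ k, ⟨k, rfl⟩, by simp⟩)
      (LocalizedModule.mkLinearMap (Submonoid.powers (algebraMap R C s)) W) inferInstance
  let mk1 : W →ₗ[R] R1 ⊗[R] W := TensorProduct.mk R R1 W 1
  haveI : IsLocalizedModule (Submonoid.powers s) mk1 :=
    (isLocalizedModule_iff_isBaseChange (Submonoid.powers s) R1 mk1).mpr (TensorProduct.isBaseChange R W R1)
  haveI : Module.Flat R (R1 ⊗[R] W) := Module.Flat.of_linearEquiv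
    ((IsLocalizedModule.iso (Submonoid.powers s) mk1).symm ≪≫ₗ IsLocalizedModule.iso (Submonoid.powers s) mk)
  exact (Module.flat_iff_of_isLocalization R1 (Submonoid.powers s) (R1 ⊗[R] W)).mpr inferInstance

theorem exists_projective_near_aux {R C W : Type u} [CommRing R] [CommRing C] [Algebra R C]
    [Algebra.FinitePresentation R C] [AddCommGroup W] [Module C W] [Module R W] [IsScalarTower R C W]
    [Module.FinitePresentation C W] (p : Ideal R) [p.IsPrime]
    [Module.Projective (Localization.AtPrime p) (Localization.AtPrime p ⊗[R] W)] (s : R) (hs : s ∉ p)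
    (hflat : ∀ (Q : Ideal C) [Q.IsPrime], algebraMap R C s ∉ Q →
      Module.Flat R (LocalizedModule Q.primeCompl W)) :
    ∃ a : R, a ∉ p ∧ Module.Projective (Localization.Away a) (Localization.Away a ⊗[R] W) := by
  obtain ⟨R1, _, _, _⟩ : ∃ (R1 : Type u) (_ : CommRing R1) (_ : Algebra R R1), IsLocalization.Away s R1 :=
    ⟨Localization.Away s, inferInstance, inferInstance, inferInstance⟩
  obtain ⟨A, _, _, _, _⟩ : ∃ (A : Type u) (_ : CommRing A) (_ : Algebra R A),
      IsLocalization p.primeCompl A ∧ Module.Projective A (A ⊗[R] W) :=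
    ⟨Localization.AtPrime p, inferInstance, inferInstance, inferInstance, inferInstance⟩
  haveI : IsLocalRing A := IsLocalization.AtPrime.isLocalRing A p
  haveI : (IsLocalRing.maximalIdeal A).LiesOver p :=
    ⟨(IsLocalization.AtPrime.comap_maximalIdeal A p).symm⟩
  let C1 := R1 ⊗[R] C
  letI : Algebra C C1 := Algebra.TensorProduct.rightAlgebra
  let W1 := C1 ⊗[C] W
  let h : W →ₗ[C] W1 := TensorProduct.mk C C1 W 1
  have hh : IsBaseChange C1 h := TensorProduct.isBaseChange C W C1
  haveI : IsScalarTower R C W1 := IsScalarTower.of_algebraMap_smul fun (r : R) (z : W1) => by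
    rw [← algebraMap_smul C1 (algebraMap R C r) z, ← IsScalarTower.algebraMap_apply, algebraMap_smul]
  have hbc : IsBaseChange R1 (h.restrictScalars R) := isBaseChange_restrict hh
  haveI := flat_baseChange_away (R1 := R1) s hflat
  haveI : Module.Flat R1 W1 := Module.Flat.of_linearEquiv hbc.equiv.symm
  let p1 : Ideal R1 := p.map (algebraMap R R1)
  haveI : p1.IsPrime := isPrime_map_away s p hs
  haveI : p1.LiesOver p := liesOver_map_away s p hs
  have hu : ∀ y : Submonoid.powers s, IsUnit (algebraMap R A y) := fun y => by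
    obtain ⟨_, k, rfl⟩ := y
    exact IsLocalization.map_units A (⟨s ^ k, fun hm => hs (‹p.IsPrime›.mem_of_pow_mem k hm)⟩ : p.primeCompl)
  letI : Algebra R1 A := (IsLocalization.lift (M := Submonoid.powers s) hu).toAlgebra
  haveI : IsScalarTower R R1 A :=
    IsScalarTower.of_algebraMap_eq fun r => (IsLocalization.lift_eq hu r).symm
  haveI : Module.Flat R A := IsLocalization.flat A p.primeCompl
  haveI : Module.Flat R1 A := (Module.flat_iff_of_isLocalization R1 (Submonoid.powers s) A).mpr inferInstance
  haveI : (IsLocalRing.maximalIdeal A).LiesOver p1 := ⟨by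
    have h1 : ((IsLocalRing.maximalIdeal A).under R1).under R = p := by
      rw [Ideal.under_under]; exact ((IsLocalRing.maximalIdeal A).over_def p).symm
    rw [← IsLocalization.map_under (Submonoid.powers s) R1 ((IsLocalRing.maximalIdeal A).under R1), h1]⟩
  haveI : Module.Projective A (A ⊗[R1] W1) := Module.Projective.of_equiv
    ((AlgebraTensorModule.cancelBaseChange R R1 A A W).symm ≪≫ₗ
      AlgebraTensorModule.congr (LinearEquiv.refl A A) hbc.equiv)
  have hpure := isPureAlong_of_projective_baseChange (R := R1) (A := A) (C := C1) (W := W1) p1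
  obtain ⟨_, ⟨a', rfl⟩, ha', haU⟩ := PrimeSpectrum.isTopologicalBasis_basic_opens.exists_subset_of_mem_open
    (show (⟨p1, ‹_›⟩ : PrimeSpectrum R1) ∈ _ from hpure) (isOpen_isPureAlong (A := R1) (B := C1) W1)
  obtain ⟨k, a, hak⟩ := IsLocalization.Away.surj s a'
  have hsu : IsUnit (algebraMap R R1 s ^ k) := (IsLocalization.Away.algebraMap_isUnit s).pow _
  have haa : ∀ (P : Ideal R1) [P.IsPrime], algebraMap R R1 a ∈ P ↔ a' ∈ P := fun P _ => by
    rw [← hak]; exact Ideal.mul_unit_mem_iff_mem _ hsu
  refine ⟨s * a, fun hm => ?_, ?_⟩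
  · rcases (‹p.IsPrime›.mem_or_mem hm) with h1 | h1
    · exact hs h1
    · exact ha' ((haa p1).mp (Ideal.mem_map_of_mem _ h1))
  · obtain ⟨R2, _, _, _⟩ : ∃ (R2 : Type u) (_ : CommRing R2) (_ : Algebra R1 R2),
        IsLocalization.Away (algebraMap R R1 a) R2 :=
      ⟨Localization.Away (algebraMap R R1 a), inferInstance, inferInstance, inferInstance⟩
    letI : Algebra R R2 := ((algebraMap R1 R2).comp (algebraMap R R1)).toAlgebra
    haveI : IsScalarTower R R1 R2 := IsScalarTower.of_algebraMap_eq fun _ => rfl
    haveI : Algebra.Etale R1 R2 := Algebra.Etale.of_isLocalizationAway (algebraMap R R1 a)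
    haveI : Module.Projective R2 (R2 ⊗[R1] W1) := projective_baseChange_of_isPureAlong (C := C1) fun P hP =>
      haU (show (⟨P.comap (algebraMap R1 R2), inferInstance⟩ : PrimeSpectrum R1) ∈
        PrimeSpectrum.basicOpen a' from fun hm => by
          have := (haa (P.comap (algebraMap R1 R2))).mpr hm
          exact hP.ne_top (Ideal.eq_top_of_isUnit_mem _ this
            (IsLocalization.Away.algebraMap_isUnit (algebraMap R R1 a))))
    haveI : Module.Projective R2 (R2 ⊗[R] W) := Module.Projective.of_equiv
      (AlgebraTensorModule.congr (LinearEquiv.refl R2 R2) hbc.equiv.symm ≪≫ₗ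
        AlgebraTensorModule.cancelBaseChange R R1 R2 R2 W)
    haveI : IsLocalization.Away (s * a) R2 := IsLocalization.Away.mul' R1 R2 s a
    let R3 := Localization.Away (s * a)
    let φ := IsLocalization.algEquiv (Submonoid.powers (s * a)) R2 R3
    letI : Algebra R2 R3 := φ.toRingEquiv.toRingHom.toAlgebra
    haveI : IsScalarTower R R2 R3 := IsScalarTower.of_algebraMap_eq fun r => (φ.commutes r).symm
    exact Module.Projective.of_equiv (M := R3 ⊗[R2] (R2 ⊗[R] W))
      (AlgebraTensorModule.cancelBaseChange R R2 R3 R3 W)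

/-- A module which is projective over a local ring of the base is projective over a neighbourhood. -/
theorem exists_projective_near {R C W : Type u} [CommRing R] [CommRing C] [Algebra R C]
    [Algebra.FinitePresentation R C] [AddCommGroup W] [Module C W] [Module R W] [IsScalarTower R C W]
    [Module.FinitePresentation C W] (p : Ideal R) [p.IsPrime]
    [Module.Projective (Localization.AtPrime p) (Localization.AtPrime p ⊗[R] W)] :
    ∃ a : R, a ∉ p ∧ Module.Projective (Localization.Away a) (Localization.Away a ⊗[R] W) := by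
  classical
  let A := Localization.AtPrime p
  haveI hWp : Module.Flat R (LocalizedModule p.primeCompl W) :=
    haveI : Module.Flat R (A ⊗[R] W) := Module.Flat.trans R A _
    Module.Flat.of_linearEquiv ((LocalizedModule.equivTensorProduct p.primeCompl W).restrictScalars R)
  -- the points over `p` and its generizations are flat
  have hflat : ∀ (Q : Ideal C) [Q.IsPrime], Q.comap (algebraMap R C) ≤ p →
      Module.Flat R (LocalizedModule Q.primeCompl W) := fun Q _ hQ => by
    refine (H7Flat.FlatAtFinite.flat_localizedModule_iff R _ _).mpr fun I z hz => ?_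
    obtain ⟨c, hcp, hc⟩ :=
      (H7Flat.FlatAtFinite.flat_localizedModule_iff R p.primeCompl W).mp hWp I z hz
    exact ⟨algebraMap R C c, fun h => hcp (hQ h), by rw [algebraMap_smul]; exact hc⟩
  obtain ⟨J, hJ⟩ := (PrimeSpectrum.isClosed_iff_zeroLocus_ideal _).mp
    (H8Props.FlatLocus.isOpen_setOf_flat_localizedModule R C W).isClosed_compl
  obtain ⟨_, hsJ, s, hs, rfl⟩ : ∃ x ∈ J, x ∈ Algebra.algebraMapSubmonoid C p.primeCompl := by
    by_contra hne
    obtain ⟨Q, hQ, hJQ, hQd⟩ := Ideal.exists_le_prime_disjoint J (Algebra.algebraMapSubmonoid C p.primeCompl)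
      (Set.disjoint_left.mpr fun x h1 h2 => hne ⟨x, h1, h2⟩)
    have : (⟨Q, hQ⟩ : PrimeSpectrum C) ∈ PrimeSpectrum.zeroLocus (J : Set C) :=
      (PrimeSpectrum.mem_zeroLocus _ _).mpr hJQ
    rw [← hJ] at this
    refine this (hflat Q fun r hr => ?_)
    by_contra hrp
    exact Set.disjoint_left.mp hQd hr ⟨r, hrp, rfl⟩
  have hflat1 : ∀ (Q : Ideal C) [Q.IsPrime], algebraMap R C s ∉ Q →
      Module.Flat R (LocalizedModule Q.primeCompl W) := fun Q hQ hQs => by
    have : (⟨Q, hQ⟩ : PrimeSpectrum C) ∉ PrimeSpectrum.zeroLocus (J : Set C) := fun hm =>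
      hQs ((PrimeSpectrum.mem_zeroLocus _ _).mp hm hsJ)
    rw [← hJ] at this
    exact not_not.mp this
  exact exists_projective_near_aux (C := C) p s hs hflat1

end Groth.Agent.H7Flat.Chain
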