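import Groth.Prelude.Def_Hens2
import Groth.Prelude.Def_Flat
import Groth.Prelude.Def_FlatCA
import Groth.Agent.H7Flat.EtaleLocQF
import Groth.Agent.H7Flat.ElemDev.Exists
import Groth.Agent.H02CA.FibreLocalDim
import Groth.Agent.H8Props.FibreDimSemicont
import Groth.Agent.H8Props.Devissage.Points
import Groth.Agent.H8Props.Devissage.LocalFibre

/-!
Scheme form of the elementary dévissage of the structure sheaf: after an elementary étale
localisation of base and source, a morphism locally of finite type factors as a finite map followed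
by a smooth one with geometrically integral fibres.
-/

set_option autoImplicit false
universe u

open AlgebraicGeometry CategoryTheory Limits

namespace Groth.Agent.H7Flat.Chain

attribute [local instance] Algebra.TensorProduct.rightAlgebra

/-- The dévissage of the algebra itself: the closed subscheme is everything. -/
theorem bijective_algebraMap_C {R S : Type u} [CommRing R] [CommRing S] [Algebra R S] {p : Ideal R}
    {q : Ideal S} [p.IsPrime] [q.IsPrime] {n : ℕ} (D : FlatCA.ElemDevissage R S S p q n) :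
    Function.Bijective (algebraMap D.S' D.C) := by
  refine ⟨(injective_iff_map_eq_zero _).mpr fun c hc => ?_, D.surjC⟩
  have hkill : ∀ m : D.N', c • m = 0 := fun m => D.iso.injective (by
    rw [map_smul, map_zero, ← IsScalarTower.algebraMap_smul D.C c (D.iso m), hc, zero_smul])
  have h := congrArg (D.isBaseChange.equiv.symm) (hkill (D.isBaseChange.equiv ((1 : D.S') ⊗ₜ[S] (1 : S))))
  rw [map_smul, LinearEquiv.symm_apply_apply, map_zero, TensorProduct.smul_tmul', smul_eq_mul,
    mul_one] at h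
  simpa using congrArg (TensorProduct.rid S D.S') h

theorem surjective_residueFieldMap_comp {A B C : Scheme.{u}} (i : A ⟶ B) (j : B ⟶ C) (a : A)
    (hi : Function.Surjective (i.residueFieldMap a))
    (hj : Function.Surjective (j.residueFieldMap (i a))) :
    Function.Surjective ((i ≫ j).residueFieldMap a) := by
  rw [Scheme.residueFieldMap_comp]
  exact hi.comp hj

/-- A morphism locally of finite type admits, at a point where its fibre has local dimension `n`,
a factorisation after elementary étale localisations as finite followed by smooth of relative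
dimension `n` with geometrically integral fibres. -/
theorem exists_finite_over_smooth {X Y : Scheme.{u}} (f : X ⟶ Y) [LocallyOfFiniteType f] (x : X)
    (n : ℕ) (hn : FlatMor.fibreDimAt f x = n) :
    ∃ (S' Y' X' : Scheme.{u}) (e : S' ⟶ Y) (h : Y' ⟶ S') (π : X' ⟶ Y') (g : X' ⟶ X) (s' : S')
      (x' : X'), IsAffine S' ∧ IsAffine Y' ∧ IsAffine X' ∧ Hens2.IsEtaleNbhd e s' (f x) ∧
      Hens2.IsEtaleNbhd g x' x ∧ g ≫ f = π ≫ h ≫ e ∧ SmoothOfRelativeDimension n h ∧
      GeometricallyIntegral h ∧ IsFinite π ∧ h (π x') = s' ∧ ∀ z : X', π z = π x' → z = x' := by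
  obtain ⟨_, ⟨U, hU, rfl⟩, hxU, -⟩ := Y.isBasis_affineOpens.exists_subset_of_mem_open
    (Set.mem_univ (f x)) isOpen_univ
  obtain ⟨_, ⟨W, hW, rfl⟩, hxW, hle : W ≤ f ⁻¹ᵁ U⟩ :=
    X.isBasis_affineOpens.exists_subset_of_mem_open hxU (f ⁻¹ᵁ U).2
  have hft : (f.appLE U W hle).hom.FiniteType := f.finiteType_appLE hU hW hle
  algebraize [(f.appLE U W hle).hom]
  set φ := Spec.map (CommRingCat.ofHom (algebraMap Γ(Y, U) Γ(X, W))) with hφ
  have wψ : φ ≫ hU.fromSpec = hW.fromSpec ≫ f := IsAffineOpen.SpecMap_appLE_fromSpec f hU hW hle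
  haveI : LocallyOfFiniteType φ := (HasRingHomProperty.Spec_iff (P := @LocallyOfFiniteType)).mpr
    (RingHom.finiteType_algebraMap.mpr inferInstance)
  obtain ⟨q, hqx⟩ : ∃ q, hW.fromSpec q = x := ⟨_, hW.fromSpec_primeIdealOf ⟨x, hxW⟩⟩
  set p : Ideal Γ(Y, U) := q.asIdeal.under Γ(Y, U) with hp
  haveI : q.asIdeal.LiesOver p := ⟨rfl⟩
  -- the point of the fibre and its local dimension
  let Q : PrimeSpectrum (p.Fiber Γ(X, W)) :=
    ⟨FlatCA.fiberIdeal p q.asIdeal, H8Props.Devissage.isPrime_fiberIdeal p q.asIdeal⟩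
  have hdim : FlatMor.localDim (PrimeSpectrum (p.Fiber Γ(X, W))) Q = n := by
    rw [← hn, ← hqx, ← H8Props.FieldDim.fibreDimAt_openImmersion_comp hW.fromSpec f q, ← wψ,
      H8Props.FieldDim.fibreDimAt_comp_openImmersion φ hU.fromSpec q]
    exact (H02CA.fibreDimAt_eq_localDim_fiber q Q
      (H8Props.Devissage.comap_fiberIdeal p q.asIdeal)).symm
  have hsupp : Module.support (p.Fiber Γ(X, W)) (FlatCA.fiberMod p Γ(X, W) Γ(X, W)) = Set.univ := by
    let e : FlatCA.fiberMod p Γ(X, W) Γ(X, W) ≃ₗ[p.Fiber Γ(X, W)] p.Fiber Γ(X, W) :=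
      TensorProduct.AlgebraTensorModule.rid Γ(X, W) (p.Fiber Γ(X, W)) (p.Fiber Γ(X, W))
    rw [e.support_eq, Module.support_of_algebra,
      (RingHom.injective_iff_ker_eq_bot _).mp (fun _ _ h => h), PrimeSpectrum.zeroLocus_bot]
  have hQ : Q ∈ Module.support (p.Fiber Γ(X, W)) (FlatCA.fiberMod p Γ(X, W) Γ(X, W)) :=
    hsupp ▸ Set.mem_univ _
  have hdim' : FlatMor.localDim
      (Module.support (p.Fiber Γ(X, W)) (FlatCA.fiberMod p Γ(X, W) Γ(X, W))) ⟨Q, hQ⟩ = n := by
    rw [H8Props.Devissage.localDim_openEmbedding (f := Subtype.val)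
      (hsupp ▸ isOpen_univ).isOpenEmbedding_subtypeVal ⟨Q, hQ⟩]
    exact hdim
  obtain ⟨D⟩ := ElemDev.exists_elemDevissage (R := Γ(Y, U)) (S := Γ(X, W)) Γ(X, W) p q.asIdeal n
    Q rfl hQ hdim'
  haveI : IsOpenImmersion hU.fromSpec := hU.isOpenImmersion_fromSpec
  haveI : IsOpenImmersion hW.fromSpec := hW.isOpenImmersion_fromSpec
  -- the base
  let e₀ : Spec (.of D.R') ⟶ Spec Γ(Y, U) :=
    Spec.map (CommRingCat.ofHom (algebraMap Γ(Y, U) D.R'))
  let s' : Spec (.of D.R') := ⟨D.p', D.hp'⟩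
  obtain ⟨hRet, hRover, hRres⟩ := D.etaleR
  haveI := hRover
  haveI : Etale e₀ := HasRingHomProperty.Spec_iff.mpr (RingHom.etale_algebraMap.mpr hRet)
  have he₀ : e₀ s' = φ q := PrimeSpectrum.ext D.etaleR.2.fst.over.symm
  have he₀res : Function.Surjective (e₀.residueFieldMap s') :=
    residueFieldMap_surjective_of_mapₐ p (q := s') hRres.2
  -- the source
  let g₀ : Spec (.of D.S') ⟶ Spec Γ(X, W) :=
    Spec.map (CommRingCat.ofHom (algebraMap Γ(X, W) D.S'))
  let i₀ : Spec (.of D.C) ⟶ Spec (.of D.S') := Spec.map (CommRingCat.ofHom (algebraMap D.S' D.C))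
  haveI : IsIso (CommRingCat.ofHom (algebraMap D.S' D.C)) :=
    (ConcreteCategory.isIso_iff_bijective _).mpr (bijective_algebraMap_C D)
  haveI : IsIso i₀ := inferInstanceAs (IsIso (Spec.map _))
  let x' : Spec (.of D.C) := ⟨D.z, D.hz⟩
  have hix : i₀ x' = ⟨D.q', D.hq'⟩ := PrimeSpectrum.ext D.zOver.over.symm
  obtain ⟨hSet, hSover, hSres⟩ := D.etaleS
  haveI := hSover
  haveI : Etale g₀ := HasRingHomProperty.Spec_iff.mpr (RingHom.etale_algebraMap.mpr hSet)
  have hgx : (i₀ ≫ g₀) x' = q := by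
    rw [Scheme.Hom.comp_apply, hix]
    exact PrimeSpectrum.ext D.etaleS.2.fst.over.symm
  have key : ∀ t, t = (⟨D.q', D.hq'⟩ : Spec (.of D.S')) →
      Function.Surjective (g₀.residueFieldMap t) := by
    rintro _ rfl
    exact residueFieldMap_surjective_of_mapₐ q.asIdeal (q := ⟨D.q', D.hq'⟩) hSres.2
  have hgres : Function.Surjective ((i₀ ≫ g₀ ≫ hW.fromSpec).residueFieldMap x') :=
    surjective_residueFieldMap_comp _ _ _
      (ConcreteCategory.bijective_of_isIso (i₀.residueFieldMap x')).2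
      (surjective_residueFieldMap_comp _ _ _ (key _ hix)
        (ConcreteCategory.bijective_of_isIso (hW.fromSpec.residueFieldMap _)).2)
  -- the factorisation
  let h₀ : Spec (.of D.D) ⟶ Spec (.of D.R') := Spec.map (CommRingCat.ofHom (algebraMap D.R' D.D))
  let π₀ : Spec (.of D.C) ⟶ Spec (.of D.D) := Spec.map (CommRingCat.ofHom (algebraMap D.D D.C))
  have hsq : i₀ ≫ g₀ ≫ φ = π₀ ≫ h₀ ≫ e₀ := by
    simp only [i₀, g₀, φ, π₀, h₀, e₀, ← Spec.map_comp, ← CommRingCat.ofHom_comp]
    congr 2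
    ext r
    simp only [RingHom.comp_apply]
    rw [← IsScalarTower.algebraMap_apply Γ(Y, U) Γ(X, W) D.S',
      IsScalarTower.algebraMap_apply Γ(Y, U) D.R' D.S',
      ← IsScalarTower.algebraMap_apply D.R' D.D D.C, IsScalarTower.algebraMap_apply D.R' D.S' D.C]
  refine ⟨Spec (.of D.R'), Spec (.of D.D), Spec (.of D.C), e₀ ≫ hU.fromSpec, h₀, π₀,
    i₀ ≫ g₀ ≫ hW.fromSpec, s', x', inferInstance, inferInstance, inferInstance, ⟨inferInstance, ?_, ?_⟩,
    ⟨inferInstance, ?_, ?_⟩, ?_, D.smooth, D.geomInt, ?_, ?_, ?_⟩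
  · show (e₀ ≫ hU.fromSpec) s' = f x
    rw [Scheme.Hom.comp_apply, he₀, ← Scheme.Hom.comp_apply, wψ, Scheme.Hom.comp_apply, hqx]
  · refine ⟨RingHom.injective ((e₀ ≫ hU.fromSpec).residueFieldMap s').hom, ?_⟩
    rw [Scheme.residueFieldMap_comp]
    exact he₀res.comp (ConcreteCategory.bijective_of_isIso (hU.fromSpec.residueFieldMap (e₀ s'))).2
  · show (i₀ ≫ g₀ ≫ hW.fromSpec) x' = x
    rw [← Category.assoc, Scheme.Hom.comp_apply, hgx, hqx]
  · exact ⟨RingHom.injective ((i₀ ≫ g₀ ≫ hW.fromSpec).residueFieldMap x').hom, hgres⟩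
  · simp only [Category.assoc]
    rw [← wψ, reassoc_of% hsq]
  · exact (IsFinite.SpecMap_iff _).mpr (RingHom.finite_algebraMap.mpr D.finiteDC)
  · have hπ : π₀ x' = ⟨D.y, D.hy⟩ := PrimeSpectrum.ext D.zOverY.over.symm
    show h₀ (π₀ x') = s'
    rw [hπ]
    exact PrimeSpectrum.ext D.yOver.over.symm
  · intro w hw
    haveI : w.asIdeal.LiesOver D.y := ⟨D.zOverY.over.trans (congrArg PrimeSpectrum.asIdeal hw).symm⟩
    exact PrimeSpectrum.ext (D.uniq w.asIdeal this)

end Groth.Agent.H7Flat.Chain
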