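import Groth.Agent.H7Flat.Chain.Projective
import Groth.Agent.H7Flat.Chain.Structure
import Groth.Agent.H8Props.FlatLocus.Scheme

/-!
Scheme form of projectivity after étale localisation at a flat point.
-/

set_option autoImplicit false
set_option backward.isDefEq.respectTransparency false
universe u

open AlgebraicGeometry CategoryTheory Limits TensorProduct

namespace Groth.Agent.H7Flat.Chain

/-- A ring flat at a prime is flat there as a module over itself. -/
theorem flatAt_self {R A : Type u} [CommRing R] [CommRing A] [Algebra R A] (q : Ideal A) [q.IsPrime]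
    (h : Module.Flat R (Localization.AtPrime q)) : FlatCA.FlatAt R q A := by
  haveI := h
  exact Module.Flat.of_linearEquiv
    ((IsLocalizedModule.iso q.primeCompl
      (Algebra.linearMap A (Localization.AtPrime q))).restrictScalars R)

theorem projective_restrictScalars_tensor_self {R' S' S : Type u} [CommRing R'] [CommRing S']
    [CommRing S] [Algebra R' S'] [Algebra S S']
    (h : Module.Projective R' (RestrictScalars R' S' (S' ⊗[S] S))) : Module.Projective R' S' := by
  haveI := h
  let e : S' ⊗[S] S ≃ₗ[S'] S' := TensorProduct.AlgebraTensorModule.rid S S' S'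
  exact Module.Projective.of_equiv'
    { toFun := fun m => e (RestrictScalars.addEquiv R' S' (S' ⊗[S] S) m)
      invFun := fun s => (RestrictScalars.addEquiv R' S' (S' ⊗[S] S)).symm (e.symm s)
      map_add' := fun a b => by rw [map_add, map_add]
      map_smul' := fun r m => by
        rw [RestrictScalars.addEquiv_map_smul, map_smul, RingHom.id_apply, algebraMap_smul]
      left_inv := fun m => by simp
      right_inv := fun s => by simp }

/-- Projectivity is unchanged along an isomorphism of ring maps. -/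
theorem projective_congr {R R' A A' : Type u} [CommRing R] [CommRing R'] [CommRing A] [CommRing A']
    [Algebra R A] [Algebra R' A'] (eR : R ≃+* R') (eA : A ≃+* A')
    (h : ∀ r, eA (algebraMap R A r) = algebraMap R' A' (eR r)) [Module.Projective R A] :
    Module.Projective R' A' :=
  letI := RingHomInvPair.of_ringEquiv eR
  haveI := RingHomInvPair.symm (eR : R →+* R') (eR.symm : R' →+* R)
  let e : A ≃ₛₗ[(eR : R →+* R')] A' :=
    { eA.toAddEquiv with
      map_smul' := fun r a => by
        show eA (r • a) = eR r • eA a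
        rw [Algebra.smul_def, Algebra.smul_def, map_mul, h] }
  Module.Projective.of_equiv e

/-- At a flat point of a morphism locally of finite presentation, global sections become projective
after elementary étale localisation. -/
theorem exists_projective_sections {X Y : Scheme.{u}} (f : X ⟶ Y) [LocallyOfFinitePresentation f]
    (x : X) (hx : (f.stalkMap x).hom.Flat) :
    ∃ (X' S' : Scheme.{u}) (g : X' ⟶ X) (e : S' ⟶ Y) (f' : X' ⟶ S') (x' : X'),
      IsAffine X' ∧ IsAffine S' ∧ Etale g ∧ Etale e ∧ g ≫ f = f' ≫ e ∧ g x' = x ∧ e (f' x') = f x ∧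
      Function.Surjective (g.residueFieldMap x') ∧ Function.Surjective (e.residueFieldMap (f' x')) ∧
      @Module.Projective Γ(S', ⊤) _ Γ(X', ⊤) _ (f'.appTop).hom.toAlgebra.toModule := by
  obtain ⟨_, ⟨U, hU, rfl⟩, hxU, -⟩ := Y.isBasis_affineOpens.exists_subset_of_mem_open
    (Set.mem_univ (f x)) isOpen_univ
  obtain ⟨_, ⟨W, hW, rfl⟩, hxW, hle : W ≤ f ⁻¹ᵁ U⟩ :=
    X.isBasis_affineOpens.exists_subset_of_mem_open hxU (f ⁻¹ᵁ U).2
  letI : Algebra Γ(Y, U) Γ(X, W) := (f.appLE U W hle).hom.toAlgebra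
  set φ := Spec.map (CommRingCat.ofHom (algebraMap Γ(Y, U) Γ(X, W))) with hφ
  have wψ : φ ≫ hU.fromSpec = hW.fromSpec ≫ f := IsAffineOpen.SpecMap_appLE_fromSpec f hU hW hle
  haveI : IsOpenImmersion hU.fromSpec := hU.isOpenImmersion_fromSpec
  haveI : IsOpenImmersion hW.fromSpec := hW.isOpenImmersion_fromSpec
  haveI : Algebra.FinitePresentation Γ(Y, U) Γ(X, W) :=
    H17.LocusBC.finitePresentation_of_chart f hW.fromSpec hU.fromSpec wψ
  haveI : IsOpenImmersion hU.fromSpec := hU.isOpenImmersion_fromSpec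
  haveI : IsOpenImmersion hW.fromSpec := hW.isOpenImmersion_fromSpec
  obtain ⟨q, hqx⟩ : ∃ q, hW.fromSpec q = x := ⟨_, hW.fromSpec_primeIdealOf ⟨x, hxW⟩⟩
  haveI : q.asIdeal.LiesOver (q.asIdeal.under Γ(Y, U)) := ⟨rfl⟩
  have hflat : FlatCA.FlatAt Γ(Y, U) q.asIdeal Γ(X, W) :=
    flatAt_self q.asIdeal ((H8Props.FlatLocus.flat_stalkMap_Spec_iff q).mp
      ((H17.LocusBC.flat_stalkMap_comp_iff hW.fromSpec f hU.fromSpec φ wψ q).mpr (by rw [hqx]; exact hx)))
  obtain ⟨R', S', _, _, _, _, _, _, _, _, p', q', _, _, hR, hS, hq', hproj⟩ :=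
    exists_etale_projective Γ(X, W) (q.asIdeal.under Γ(Y, U)) q.asIdeal hflat
  obtain ⟨hRet, hRover, hRres⟩ := hR
  obtain ⟨hSet, hSover, hSres⟩ := hS
  haveI := hRover
  haveI := hSover
  let e₀ : Spec (.of R') ⟶ Spec Γ(Y, U) := Spec.map (CommRingCat.ofHom (algebraMap Γ(Y, U) R'))
  let g₀ : Spec (.of S') ⟶ Spec Γ(X, W) := Spec.map (CommRingCat.ofHom (algebraMap Γ(X, W) S'))
  let f₀ : Spec (.of S') ⟶ Spec (.of R') := Spec.map (CommRingCat.ofHom (algebraMap R' S'))
  haveI : Etale e₀ := HasRingHomProperty.Spec_iff.mpr (RingHom.etale_algebraMap.mpr hRet)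
  haveI : Etale g₀ := HasRingHomProperty.Spec_iff.mpr (RingHom.etale_algebraMap.mpr hSet)
  let x' : Spec (.of S') := ⟨q', ‹_›⟩
  have hgx : g₀ x' = q := PrimeSpectrum.ext hSover.over.symm
  have hfx : f₀ x' = (⟨p', ‹_›⟩ : Spec (.of R')) := PrimeSpectrum.ext hq'.over.symm
  have hsq : g₀ ≫ φ = f₀ ≫ e₀ := by
    simp only [g₀, φ, f₀, e₀, ← Spec.map_comp, ← CommRingCat.ofHom_comp]
    congr 2
    rw [← IsScalarTower.algebraMap_eq, ← IsScalarTower.algebraMap_eq]
  refine ⟨Spec (.of S'), Spec (.of R'), g₀ ≫ hW.fromSpec, e₀ ≫ hU.fromSpec, f₀, x', inferInstance,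
    inferInstance, inferInstance, inferInstance, ?_, ?_, ?_, ?_, ?_, ?_⟩
  · rw [Category.assoc, ← wψ, reassoc_of% hsq]
  · rw [Scheme.Hom.comp_apply, hgx, hqx]
  · show (e₀ ≫ hU.fromSpec) (f₀ x') = f x
    have h1 : φ q = e₀ (f₀ x') := by
      rw [← hgx]
      exact ((Scheme.Hom.comp_apply g₀ φ x').symm.trans (congrArg (fun t => t x') hsq)).trans
        (Scheme.Hom.comp_apply f₀ e₀ x')
    calc (e₀ ≫ hU.fromSpec) (f₀ x') = hU.fromSpec (e₀ (f₀ x')) := Scheme.Hom.comp_apply _ _ _
      _ = hU.fromSpec (φ q) := by rw [h1]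
      _ = (φ ≫ hU.fromSpec) q := (Scheme.Hom.comp_apply _ _ _).symm
      _ = (hW.fromSpec ≫ f) q := congrArg (fun t => t q) wψ
      _ = f x := (Scheme.Hom.comp_apply _ _ _).trans (congrArg f hqx)
  · exact surjective_residueFieldMap_comp _ _ _
      (residueFieldMap_surjective_of_mapₐ q.asIdeal (q := x') hSres.2)
      (ConcreteCategory.bijective_of_isIso (hW.fromSpec.residueFieldMap _)).2
  · refine surjective_residueFieldMap_comp _ _ _ ?_
      (ConcreteCategory.bijective_of_isIso (hU.fromSpec.residueFieldMap _)).2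
    have key : ∀ t, t = (⟨p', ‹_›⟩ : Spec (.of R')) → Function.Surjective (e₀.residueFieldMap t) := by
      rintro _ rfl
      exact residueFieldMap_surjective_of_mapₐ (q.asIdeal.under Γ(Y, U)) (q := ⟨p', ‹_›⟩) hRres.2
    exact key _ hfx
  · haveI := projective_restrictScalars_tensor_self hproj
    letI := (f₀.appTop).hom.toAlgebra
    exact projective_congr (A := S') (A' := Γ(Spec (.of S'), ⊤))
      (Scheme.ΓSpecIso (.of R')).commRingCatIsoToRingEquiv.symm
      (Scheme.ΓSpecIso (.of S')).commRingCatIsoToRingEquiv.symm fun r =>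
        RingHom.congr_fun (congrArg CommRingCat.Hom.hom
          (Scheme.ΓSpecIso_inv_naturality (CommRingCat.ofHom (algebraMap R' S')))) r

end Groth.Agent.H7Flat.Chain
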