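import Groth.Agent.H7Flat.Chain.HenselMLMain
import Groth.Agent.H7Flat.PureUnivPure
import Groth.Agent.H7Flat.ProjectivePure
import Groth.Agent.H8Props.FlatAtBaseChange
import Groth.Agent.S1212
import Mathlib

/-!
Purity along a fibre near which a finite type module is flat is universal.
-/

set_option autoImplicit false
set_option linter.style.haveILetI false
universe u

namespace Groth.Agent.H7Flat.Chain

open TensorProduct FlatMor IsLocalRing

attribute [local instance] Algebra.TensorProduct.rightAlgebra

set_option backward.isDefEq.respectTransparency false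
set_option maxHeartbeats 1000000
set_option synthInstance.maxHeartbeats 400000

/-- An associated point of a fibre in an open where the module is projective specializes to the
closed fibre. -/
theorem exists_ge_liesOver_of_projective_away {A B : Type u} [CommRing A] [IsLocalRing A] [CommRing B]
    [Algebra A B] [Algebra.FiniteType A B] (N : Type u) [AddCommGroup N] [Module B N] [Module A N]
    [IsScalarTower A B N] [Module.Finite B N] (g : B)
    [Module.Projective A (LocalizedModule (Submonoid.powers g) N)]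
    (t : Ideal A) [t.IsPrime] (P : Ideal B) [P.IsPrime] [P.LiesOver t] (hg : g ∉ P)
    (hP : P ∈ FlatCA.ass B (N ⊗[A] t.ResidueField)) :
    ∃ P' : Ideal B, P'.IsPrime ∧ P ≤ P' ∧ P'.LiesOver (maximalIdeal A) := by
  let Bg := Localization.Away g
  let W := LocalizedModule (Submonoid.powers g) N
  haveI : Algebra.FinitePresentation B Bg := IsLocalization.Away.finitePresentation g
  haveI : Algebra.FiniteType A Bg := Algebra.FiniteType.trans ‹Algebra.FiniteType A B› inferInstance
  haveI : Module.Finite Bg W := Module.Finite.of_isLocalizedModule (Submonoid.powers g)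
    (LocalizedModule.mkLinearMap (Submonoid.powers g) N)
  let P₁ : Ideal Bg := P.map (algebraMap B Bg)
  haveI : P₁.IsPrime := H8Props.Devissage.isPrime_map_away g P hg
  haveI : P₁.LiesOver P := H8Props.Devissage.liesOver_map_away g P hg
  haveI : P₁.LiesOver t := Ideal.LiesOver.trans P₁ P t
  obtain ⟨-, m, hm⟩ := hP
  let mk := AlgebraTensorModule.rTensor A t.ResidueField (LocalizedModule.mkLinearMap (Submonoid.powers g) N)
  have hmem : ∀ b : B, b ∈ P ↔ b • m = 0 := fun b => by
    rw [hm, Submodule.mem_annihilator_span_singleton]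
  have hass : P₁ ∈ FlatCA.ass Bg (W ⊗[A] t.ResidueField) := by
    refine ⟨inferInstance, mk m, ?_⟩
    ext x
    obtain ⟨⟨s, ⟨_, k, rfl⟩⟩, hx⟩ := IsLocalization.surj (Submonoid.powers g) x
    have hu : IsUnit (algebraMap B Bg (g ^ k)) := IsLocalization.map_units Bg (⟨g ^ k, k, rfl⟩ : Submonoid.powers g)
    have h1 : x ∈ P₁ ↔ s ∈ P := by
      rw [← Ideal.mul_unit_mem_iff_mem P₁ hu, hx]
      exact (SetLike.ext_iff.mp (P₁.over_def P) s).symm
    have h2 : x • mk m = 0 ↔ s • mk m = 0 := by
      rw [← algebraMap_smul Bg s (mk m), ← hx, mul_comm, mul_smul]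
      exact (IsUnit.smul_eq_zero hu).symm
    rw [Submodule.mem_annihilator_span_singleton, h1, h2, ← map_smul,
      IsLocalizedModule.eq_zero_iff (Submonoid.powers g) mk]
    constructor
    · exact fun hs => ⟨1, by rw [one_smul]; exact (hmem s).mp hs⟩
    · rintro ⟨⟨_, j, rfl⟩, hj⟩
      change g ^ j • s • m = 0 at hj
      rw [← mul_smul, ← hmem] at hj
      exact (Ideal.IsPrime.mem_or_mem inferInstance hj).resolve_left
        fun h => hg (Ideal.IsPrime.mem_of_pow_mem inferInstance j h)
  haveI : IsNoetherianRing ((maximalIdeal A).Fiber Bg) :=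
    Algebra.FiniteType.isNoetherianRing (maximalIdeal A).ResidueField _
  haveI : Module.Finite ((maximalIdeal A).Fiber Bg) (FlatCA.fiberMod (maximalIdeal A) Bg W) :=
    inferInstanceAs (Module.Finite ((maximalIdeal A).Fiber Bg) (((maximalIdeal A).Fiber Bg) ⊗[Bg] W))
  obtain ⟨M, hM, hle⟩ := Ideal.exists_le_maximal _ (Groth.Agent.S1212.result W t P₁ hass)
  refine ⟨M.comap (algebraMap B Bg), Ideal.comap_isPrime _ _,
    (P₁.over_def P).le.trans (Ideal.comap_mono (le_sup_left.trans hle)), ⟨?_⟩⟩
  rw [Ideal.under, Ideal.comap_comap, ← IsScalarTower.algebraMap_eq]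
  exact (IsLocalRing.maximalIdeal.isMaximal A).eq_of_le (Ideal.comap_ne_top _ hM.ne_top)
    (Ideal.map_le_iff_le_comap.mp (le_sup_right.trans hle))

/-- Projectivity on a basic open survives base change. -/
theorem projective_away_baseChange {H B N A' B' N' : Type u} [CommRing H] [CommRing B] [Algebra H B]
    [AddCommGroup N] [Module B N] [Module H N] [IsScalarTower H B N] [CommRing A'] [CommRing B']
    [Algebra H A'] [Algebra B B'] [Algebra A' B'] [Algebra H B'] [IsScalarTower H B B']
    [IsScalarTower H A' B'] [hpush : Algebra.IsPushout H B A' B'] [AddCommGroup N'] [Module B' N']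
    [Module B N'] [IsScalarTower B B' N'] [Module A' N'] [IsScalarTower A' B' N']
    (f : N →ₗ[B] N') (hf : IsBaseChange B' f) (g : B)
    [Module.Projective H (LocalizedModule (Submonoid.powers g) N)] :
    Module.Projective A' (LocalizedModule (Submonoid.powers (algebraMap B B' g)) N') := by
  let g' := algebraMap B B' g
  let Bg := Localization.Away g
  let B₂ := Localization.Away g'
  let W := LocalizedModule (Submonoid.powers g) N
  let W' := LocalizedModule (Submonoid.powers g') N'
  letI : Algebra Bg B₂ := (IsLocalization.Away.map Bg B₂ (algebraMap B B') g).toAlgebra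
  haveI : IsScalarTower B Bg B₂ := IsScalarTower.of_algebraMap_eq fun b => by
    rw [IsScalarTower.algebraMap_apply B B' B₂]
    refine ((IsLocalization.map_eq (M := Submonoid.powers g) (T := Submonoid.powers g') (S := Bg)
      (Q := B₂) (g := algebraMap B B') (Submonoid.powers_le.mpr ?_) b)).symm
    exact Submonoid.mem_comap.mpr (Submonoid.mem_powers g')
  haveI : IsLocalization (Algebra.algebraMapSubmonoid B' (Submonoid.powers g)) B₂ := by
    rw [Algebra.algebraMapSubmonoid_powers]
    exact inferInstanceAs (IsLocalization.Away g' B₂)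
  haveI hp₂ : Algebra.IsPushout B B' Bg B₂ := Algebra.isPushout_of_isLocalization (Submonoid.powers g) Bg B' B₂
  haveI : IsScalarTower H Bg B₂ := IsScalarTower.of_algebraMap_eq fun r => by
    rw [IsScalarTower.algebraMap_apply H B B₂, IsScalarTower.algebraMap_apply B Bg B₂,
      ← IsScalarTower.algebraMap_apply H B Bg]
  haveI hp₃ : Algebra.IsPushout H Bg A' B₂ :=
    (Algebra.IsPushout.comp_iff H B A' B' (T := Bg) (T' := B₂)).mpr hp₂.symm
  letI : Module Bg W' := Module.compHom W' (algebraMap Bg B₂)
  haveI : IsScalarTower Bg B₂ W' := IsScalarTower.of_algebraMap_smul fun _ _ => rfl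
  haveI : IsScalarTower B Bg W' := IsScalarTower.of_algebraMap_smul fun b w => by
    show algebraMap Bg B₂ (algebraMap B Bg b) • w = b • w
    rw [← IsScalarTower.algebraMap_apply, algebraMap_smul]
  letI : Module H W' := Module.compHom W' (algebraMap H B₂)
  haveI : IsScalarTower H B₂ W' := IsScalarTower.of_algebraMap_smul fun _ _ => rfl
  haveI : IsScalarTower H Bg W' := IsScalarTower.of_algebraMap_smul fun (r : H) (w : W') => by
    show algebraMap Bg B₂ (algebraMap H Bg r) • w = r • w
    rw [← IsScalarTower.algebraMap_apply, algebraMap_smul]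
  haveI : IsScalarTower H A' W' := IsScalarTower.of_algebraMap_smul fun (r : H) (w : W') => by
    rw [← algebraMap_smul B₂ (algebraMap H A' r) w, ← IsScalarTower.algebraMap_apply, algebraMap_smul]
  let mk' := LocalizedModule.mkLinearMap (Submonoid.powers g') N'
  have h1 : IsBaseChange Bg (LocalizedModule.mkLinearMap (Submonoid.powers g) N) :=
    IsLocalizedModule.isBaseChange (Submonoid.powers g) Bg _
  have h2 : IsBaseChange B₂ ((mk'.restrictScalars B).comp f) :=
    IsBaseChange.comp hf (IsLocalizedModule.isBaseChange (Submonoid.powers g') B₂ mk')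
  let φ : W →ₗ[Bg] W' := h1.lift ((mk'.restrictScalars B).comp f)
  have hφ : IsBaseChange B₂ φ := by
    refine IsBaseChange.of_comp h1 ?_
    rw [show φ.restrictScalars B ∘ₗ (LocalizedModule.mkLinearMap (Submonoid.powers g) N) =
      (mk'.restrictScalars B).comp f from h1.lift_comp _]
    exact h2
  exact Module.Projective.of_equiv
    (Groth.Agent.H8Props.FlatAtBC.isBaseChange_restrictScalars (R := H) (R' := A') φ hφ).equiv

/-- Over a henselian local ring, a finite type module flat along the closed fibre, all of whose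
fibrewise associated points meet the closed fibre, is universally pure along it. -/
theorem isUnivPureAlong_of_henselian {H B : Type u} [CommRing H] [HenselianLocalRing H] [CommRing B]
    [Algebra H B] [Algebra.FiniteType H B] (N : Type u) [AddCommGroup N] [Module B N]
    [Module H N] [IsScalarTower H B N] [Module.Finite B N]
    (hflat : ∀ (Q : Ideal B) [Q.IsPrime], Q.LiesOver (maximalIdeal H) → FlatCA.FlatAt H Q N)
    (hmeet : ∀ (p : Ideal H) [p.IsPrime] (q : Ideal B) [q.IsPrime], q.LiesOver p →
      FlatCA.fiberIdeal p q ∈ associatedPrimes (p.Fiber B) (FlatCA.fiberMod p B N) →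
        q ⊔ (maximalIdeal H).map (algebraMap H B) ≠ ⊤) :
    FlatCA.IsUnivPureAlong H B N (maximalIdeal H) := by
  intro A₁ B₁ N₁ _ _ _ _ _ _ _ _ _ _ _ _ _ _ f₁ s' s _ _ P₁ _ himp₁
  let L := Localization.AtPrime s
  obtain ⟨t₀, ht₀, ht₀c⟩ : ∃ t₀ : Ideal L, t₀.IsPrime ∧ t₀.comap (algebraMap A₁ L) = s' :=
    ⟨s'.map (algebraMap A₁ L), IsLocalization.isPrime_of_isPrime_disjoint s.primeCompl L s'
      inferInstance (Set.disjoint_left.mpr fun a ha ha' => ha (himp₁.2.2.1 ha')),
      IsLocalization.under_map_of_isPrime_disjoint s.primeCompl L inferInstance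
        (Set.disjoint_left.mpr fun a ha ha' => ha (himp₁.2.2.1 ha'))⟩
  have : t₀.LiesOver s' := ⟨ht₀c.symm⟩
  have : (maximalIdeal L).LiesOver s := ⟨(IsLocalization.AtPrime.under_maximalIdeal L s).symm⟩
  obtain ⟨A', B', N', _, _, _, _, _, _, _, _, _, _, _, _, _, _, f, t', t, _, _, P, _, himp, hloc⟩ :=
    ImpurityBaseChange.hasImpurity_baseChange himp₁ L t₀ (maximalIdeal L)
      (IsLocalRing.le_maximalIdeal ht₀.ne_top)
      (fun A'' _ _ t => t ≠ ⊤ ∧ ∀ x ∉ t, IsUnit x)
      ⟨(IsLocalRing.maximalIdeal.isMaximal L).ne_top, fun _ h => IsLocalRing.notMem_maximalIdeal.mp h⟩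
  have : Nontrivial A' :=
    ⟨0, 1, fun h => hloc.1 ((Ideal.eq_top_iff_one t).mpr (h ▸ zero_mem t))⟩
  have : IsLocalRing A' := IsLocalRing.of_nonunits_add (fun a b ha hb => by
    have h1 : a ∈ t := by
      by_contra h
      exact ha (hloc.2 a h)
    have h2 : b ∈ t := by
      by_contra h
      exact hb (hloc.2 b h)
    exact fun hu => hloc.1 (Ideal.eq_top_of_isUnit_mem _ (add_mem h1 h2) hu))
  have ht : t = maximalIdeal A' := le_antisymm (IsLocalRing.le_maximalIdeal hloc.1) fun x hx => by
    by_contra h
    exact hx (hloc.2 x h)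
  obtain ⟨hpush, hbc, -, -, hPt', hass, hnone⟩ := himp
  have := hPt'
  have := hpush
  let pH : Ideal H := t'.comap (algebraMap H A')
  have : t'.LiesOver pH := ⟨rfl⟩
  let q : Ideal B := P.comap (algebraMap B B')
  have hq : q.LiesOver pH := ⟨by
    rw [Ideal.under, Ideal.comap_comap, ← IsScalarTower.algebraMap_eq,
      IsScalarTower.algebraMap_eq H A' B', ← Ideal.comap_comap]
    exact congrArg (Ideal.comap (algebraMap H A')) hPt'.over⟩
  obtain ⟨M, hM, hle⟩ := Ideal.exists_le_maximal _
    (hmeet pH q hq (ImpurityDescend.fiberIdeal_comap_mem_associatedPrimes hbc pH t' P hass))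
  have hMover : M.LiesOver (maximalIdeal H) := ⟨(IsLocalRing.maximalIdeal.isMaximal H).eq_of_le
    (Ideal.comap_ne_top _ hM.ne_top) (Ideal.map_le_iff_le_comap.mp (le_sup_right.trans hle))⟩
  obtain ⟨g, hgM, hfree⟩ := exists_open_free_of_henselian N M (hflat M hMover)
  have hgP : algebraMap B B' g ∉ P := fun h => hgM (hle (Submodule.mem_sup_left h))
  have := projective_away_baseChange (H := H) (A' := A') f hbc g
  have : Algebra.FiniteType A' B' := by
    have : Algebra.IsPushout H A' B B' := Algebra.IsPushout.symm hpush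
    exact Algebra.FiniteType.equiv (inferInstanceAs (Algebra.FiniteType A' (A' ⊗[H] B)))
      (Algebra.IsPushout.equiv H A' B B')
  have : Module.Finite B' N' := Module.Finite.equiv (hbc.equiv (R := B) (M := N))
  have hq1 : P ∈ FlatCA.ass B' (FlatCA.fiberMod t' B' N') := by
    refine (Groth.Agent.H02CA.FibreAss.ass_fiber_iff t' P).mpr
      ⟨_, ⟨hass.isPrime, ?_⟩, ImpurityDescend.comap_fiberIdeal t' P⟩
    have : IsNoetherianRing (t'.Fiber B') := Algebra.FiniteType.isNoetherianRing t'.ResidueField _
    obtain ⟨-, y, hy⟩ := isAssociatedPrime_iff.mp hass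
    refine ⟨y, hy.trans ?_⟩
    ext a
    rw [Submodule.mem_colon_singleton, Submodule.mem_annihilator_span_singleton, Submodule.mem_bot]
  have hq' : P ∈ FlatCA.ass B' (N' ⊗[A'] t'.ResidueField) := by
    obtain ⟨hP, m, hm⟩ := hq1
    refine ⟨hP, ProjectivePure.fiberEquiv t' N' m, hm.trans ?_⟩
    ext a
    rw [Submodule.mem_annihilator_span_singleton, Submodule.mem_annihilator_span_singleton,
      ← map_smul, LinearEquiv.map_eq_zero_iff]
  obtain ⟨P', hP', hPP', hover⟩ :=
    exists_ge_liesOver_of_projective_away N' (algebraMap B B' g) t' P hgP hq'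
  exact hnone P' hPP' (ht ▸ hover)

/-- A finite module over a finite type algebra which is flat along a fibre and pure along it is
universally pure along it. -/
theorem isUnivPureAlong_of_flatAlong {A B : Type u} [CommRing A] [CommRing B] [Algebra A B]
    [Algebra.FiniteType A B] (N : Type u) [AddCommGroup N] [Module B N] [Module A N]
    [IsScalarTower A B N] [Module.Finite B N] (p : Ideal A) [p.IsPrime]
    (hflat : ∀ (q : Ideal B) [q.IsPrime], q.LiesOver p → FlatCA.FlatAt A q N)
    (h : FlatCA.IsPureAlong A B N p) : FlatCA.IsUnivPureAlong A B N p := by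
  let L := Localization.AtPrime p
  obtain ⟨H, _, _, _, _, π, hπ, hH⟩ := Groth.Agent.H9Hens.exists_isHenselization_colim L
  have := hH.henselian
  let : Algebra A H := ((algebraMap L H).comp (algebraMap A L)).toAlgebra
  have : IsScalarTower A L H := IsScalarTower.of_algebraMap_eq fun _ => rfl
  have hmH : (maximalIdeal H).LiesOver p := ⟨by
    rw [Ideal.under, IsScalarTower.algebraMap_eq A L H, ← Ideal.comap_comap,
      IsLocalRing.maximalIdeal_comap (algebraMap L H)]
    exact (IsLocalization.AtPrime.under_maximalIdeal L p).symm⟩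
  let BH := H ⊗[A] B
  have : Algebra.IsPushout A B H BH := Algebra.IsPushout.symm inferInstance
  let NH := BH ⊗[B] N
  let gN : N →ₗ[B] NH := TensorProduct.mk B BH N 1
  have hgN : IsBaseChange BH gN := TensorProduct.isBaseChange B N BH
  have : IsScalarTower A H NH := IsScalarTower.of_algebraMap_smul fun r x => by
    rw [← algebraMap_smul BH (algebraMap A H r) x, ← IsScalarTower.algebraMap_apply,
      algebraMap_smul]
  have : IsScalarTower A B NH := IsScalarTower.of_algebraMap_smul fun r x => by
    rw [← algebraMap_smul BH (algebraMap A B r) x, ← IsScalarTower.algebraMap_apply,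
      algebraMap_smul]
  have : Module.Finite BH NH := inferInstance
  have hflatH : ∀ (Q : Ideal BH) [Q.IsPrime], Q.LiesOver (maximalIdeal H) → FlatCA.FlatAt H Q NH := by
    intro Q _ hQ
    refine H8Props.FlatAtBC.flat_localizedModule_of_comap (R := A) (R' := H) gN hgN Q (hflat _ ⟨?_⟩)
    rw [Ideal.under, Ideal.comap_comap, ← IsScalarTower.algebraMap_eq,
      IsScalarTower.algebraMap_eq A H BH, ← Ideal.comap_comap]
    exact hmH.over.trans (congrArg (Ideal.comap (algebraMap A H)) hQ.over)
  have hHpure : FlatCA.IsUnivPureAlong H BH NH (maximalIdeal H) := by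
    refine isUnivPureAlong_of_henselian NH hflatH fun pH _ q _ hq hass htop => ?_
    have himp : FlatCA.IsImpurity A B N p H BH NH gN pH (maximalIdeal H) q := by
      refine ⟨inferInstance, hgN, IsLocalRing.le_maximalIdeal (Ideal.IsPrime.ne_top ‹pH.IsPrime›),
        hmH, hq, hass, fun P' hP' hqP' hover => ?_⟩
      exact hP'.ne_top (top_le_iff.mp (htop.ge.trans (sup_le hqP'
        (Ideal.map_le_iff_le_comap.mpr hover.over.le))))
    obtain ⟨s, hs⟩ := ImpurityStage.exists_finset_hasImpurity himp
    obtain ⟨G, _, _, ψ, hψs, hnhd⟩ := EtaleNbhdHensel.exists_etaleNhd_hitting p H s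
    obtain ⟨a, ha, hGQ⟩ := hs G ψ hψs
    obtain ⟨A'', B'', N'', _, _, _, _, _, _, _, _, _, _, _, _, _, _, g, t', t, _, _, P, _, himp',
      ht, hnhd'⟩ := hGQ ((maximalIdeal H).comap ψ) hnhd.2.1 le_rfl ha
        (fun A'' _ _ t => ∃ _ : t.IsPrime, FlatCA.IsEtaleNhd A A'' p t) ⟨inferInstance, hnhd⟩
    exact h A'' B'' N'' g t' t P hnhd' himp'
  intro A' B' N' _ _ _ _ _ _ _ _ _ _ _ _ _ _ f t' t _ _ P _ himp
  have := himp.2.2.2.1
  obtain ⟨t₂, ht₂, ht₂l, ht₂r⟩ := ImpurityRebase.exists_prime_over_pair p t (maximalIdeal H)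
  have : t₂.LiesOver t := ⟨ht₂l.symm⟩
  have := hπ.flat
  have : Module.Flat A L := IsLocalization.flat L p.primeCompl
  have : Module.Flat A H := Module.Flat.trans A L H
  obtain ⟨t₂', hle, ht₂', hover⟩ := Ideal.exists_ideal_le_liesOver_of_le (p := t') (q := t) t₂
    himp.2.2.1
  have h1 : FlatCA.HasImpurity A B N p (fun A'' _ _ s => ∃ ψ : H →ₐ[A] A'',
      s.comap ψ.toRingHom = maximalIdeal H ∧ True) :=
    ImpurityBaseChange.hasImpurity_baseChange himp (A' ⊗[A] H) t₂' t₂ hle _
      ⟨Algebra.TensorProduct.includeRight, ht₂r, trivial⟩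
  obtain ⟨A'', B'', N'', _, _, _, _, _, _, _, _, _, _, _, _, _, _, g, s', s, _, _, P'', _, himp'', -⟩ :=
    ImpurityRebase.hasImpurity_extend hgN (maximalIdeal H) (fun _ _ _ _ => True) h1
  exact hHpure A'' B'' N'' g s' s P'' himp''

end Groth.Agent.H7Flat.Chain
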