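import Groth.Agent.H7Flat.Chain.RelAssStalk
import Groth.Agent.H7Flat.GenericFreeness
import Mathlib

/-!
# Generic points of fibres of the closure of a point of the relative assassin
-/

set_option autoImplicit false
set_option linter.style.haveILetI false
set_option backward.isDefEq.respectTransparency false
set_option maxHeartbeats 1000000
set_option synthInstance.maxHeartbeats 400000

universe u

open TensorProduct FlatMor

attribute [local instance] Algebra.TensorProduct.rightAlgebra

namespace Groth.Agent.H7Flat.Chain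

/-- Away from an element where a module is free, torsion dies. -/
theorem exists_pow_smul_eq_zero_of_isAwayFree {D M : Type u} [CommRing D] [IsDomain D] [AddCommGroup M]
    [Module D M] {h : D} (hM : IsAwayFree h M) {r : D} (hr : r ≠ 0) {m : M} (hm : r • m = 0) :
    ∃ k : ℕ, h ^ k • m = 0 := by
  obtain ⟨S, hS, hS'⟩ := hM
  obtain ⟨k, hk⟩ := hS' m
  refine ⟨k, ?_⟩
  rw [show S = Subtype.val '' (Set.univ : Set S) by simp] at hk
  obtain ⟨l, -, hl⟩ := (Finsupp.mem_span_image_iff_linearCombination D).mp hk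
  have h0 : Finsupp.linearCombination D (Subtype.val : S → M) (r • l) = 0 := by
    rw [map_smul, hl, smul_comm, hm, smul_zero]
  have h1 : r • l = 0 := linearIndependent_iff.mp hS (r • l) h0
  rw [← hl, (smul_eq_zero.mp h1).resolve_left hr, map_zero]

/-- A submodule with quotient free away from an element is pure away from the element. -/
theorem exists_pow_smul_mem_of_isAwayFree {D M C : Type u} [CommRing D] [AddCommGroup M] [Module D M]
    [AddCommGroup C] [Module D C] {h : D} (π : M →ₗ[D] C) (hπ : Function.Surjective π) (hC : IsAwayFree h C)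
    (I : Ideal D) {x : M} (hx : x ∈ I • (⊤ : Submodule D M)) (hx0 : π x = 0) :
    ∃ k : ℕ, h ^ k • x ∈ I • LinearMap.ker π := by
  obtain ⟨S, hS, hS'⟩ := hC
  choose σ hσ using hπ
  let Φ : (S →₀ D) →ₗ[D] M := Finsupp.linearCombination D fun s : S => σ s
  -- decompose
  have key : ∀ y ∈ I • (⊤ : Submodule D M), ∃ (k : ℕ) (z : M) (l : S →₀ D),
      z ∈ I • LinearMap.ker π ∧ (∀ s, l s ∈ I) ∧ h ^ k • y = z + Φ l := by
    intro y hy
    refine Submodule.smul_induction_on hy (fun a ha m _ => ?_) ?_
    · obtain ⟨k, hk⟩ := hS' (π m)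
      rw [show S = Subtype.val '' (Set.univ : Set S) by simp] at hk
      obtain ⟨l, -, hl⟩ := (Finsupp.mem_span_image_iff_linearCombination D).mp hk
      refine ⟨k, a • (h ^ k • m - Φ l), a • l, Submodule.smul_mem_smul ha ?_, fun s => ?_, ?_⟩
      · rw [LinearMap.mem_ker, map_sub, map_smul, sub_eq_zero, ← hl, Finsupp.apply_linearCombination]
        rw [show (π ∘ fun s : S => σ s) = (Subtype.val : S → C) from funext fun s => hσ (s : C)]
      · rw [Finsupp.smul_apply, smul_eq_mul]; exact I.mul_mem_right _ ha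
      · rw [map_smul, ← smul_add, sub_add_cancel, smul_comm]
    · rintro y y' ⟨k, z, l, hz, hl, e⟩ ⟨k', z', l', hz', hl', e'⟩
      refine ⟨k + k', h ^ k' • z + h ^ k • z', h ^ k' • l + h ^ k • l',
        add_mem (Submodule.smul_mem _ _ hz) (Submodule.smul_mem _ _ hz'), fun s => ?_, ?_⟩
      · exact I.add_mem (I.mul_mem_left _ (hl s)) (I.mul_mem_left _ (hl' s))
      · rw [smul_add, pow_add, mul_smul, mul_smul, e', smul_comm (h ^ k) (h ^ k') y, e, map_add, map_smul,
          map_smul, smul_add, smul_add]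
        abel
  obtain ⟨k, z, l, hz, hl, e⟩ := key x hx
  refine ⟨k, ?_⟩
  have hz0 : π z = 0 := LinearMap.mem_ker.mp ((Submodule.smul_le_right (I := I)) hz)
  have h1 : π (Φ l) = 0 := by
    have h2 := congrArg π e
    rwa [map_smul, hx0, smul_zero, map_add, hz0, zero_add, eq_comm] at h2
  have h2 : Finsupp.linearCombination D (Subtype.val : S → C) l = 0 := by
    rw [← h1, Finsupp.apply_linearCombination,
      show (π ∘ fun s : S => σ s) = (Subtype.val : S → C) from funext fun s => hσ (s : C)]
  rw [e, linearIndependent_iff.mp hS l h2, map_zero, add_zero]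
  exact hz

/-- Near an associated point of a fibre, the generic points of the fibres of its closure are associated
points of their fibres. -/
theorem exists_minimal_ass_near {A B : Type u} [CommRing A] [CommRing B] [Algebra A B] [Algebra.FiniteType A B]
    (N : Type u) [AddCommGroup N] [Module B N] [Module A N] [IsScalarTower A B N] [Module.Finite B N]
    (p : Ideal A) [p.IsPrime] (P : Ideal B) [P.IsPrime] [P.LiesOver p]
    (hP : FlatCA.fiberIdeal p P ∈ associatedPrimes (p.Fiber B) (FlatCA.fiberMod p B N)) :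
    ∃ a : A, a ∉ p ∧ ∀ (t : Ideal A) [t.IsPrime] (Q : Ideal B) [Q.IsPrime] [Q.LiesOver t], a ∉ t → P ≤ Q →
      (∀ (Q' : Ideal B) [Q'.IsPrime], Q'.LiesOver t → P ≤ Q' → Q' ≤ Q → Q' = Q) →
      FlatCA.fiberIdeal t Q ∈ associatedPrimes (t.Fiber B) (FlatCA.fiberMod t B N) := by
  classical
  obtain ⟨n, hn⟩ := (AssLocal.assoc_iff N p P).mp hP
  let D := A ⧸ p
  let pB := p.map (algebraMap A B)
  let B' := B ⧸ pB
  let N' := N ⧸ (pB • (⊤ : Submodule B N))
  letI : Algebra D B' := (Ideal.Quotient.lift p (algebraMap A B') fun r hr => by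
    rw [IsScalarTower.algebraMap_apply A B B', Ideal.Quotient.algebraMap_eq]
    exact Ideal.Quotient.eq_zero_iff_mem.mpr (Ideal.mem_map_of_mem _ hr)).toAlgebra
  haveI : IsScalarTower A D B' := IsScalarTower.of_algebraMap_eq fun _ => rfl
  haveI : Algebra.FiniteType A B' := Algebra.FiniteType.trans ‹Algebra.FiniteType A B› inferInstance
  haveI : Algebra.FiniteType D B' := Algebra.FiniteType.of_restrictScalars_finiteType A D B'
  letI : Module D N' := Module.compHom N' (algebraMap D B')
  haveI : IsScalarTower D B' N' := IsScalarTower.of_algebraMap_smul fun _ _ => rfl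
  haveI : Module.Finite B' N' := Module.Finite.of_restrictScalars_finite B B' N'
  have hDA : ∀ (r : A) (x : N'), Ideal.Quotient.mk p r • x = r • x := fun r x => by
    show Ideal.Quotient.mk pB (algebraMap A B r) • x = r • x
    obtain ⟨x, rfl⟩ := Submodule.Quotient.mk_surjective _ x
    show Submodule.Quotient.mk (algebraMap A B r • x) = Submodule.Quotient.mk (r • x)
    rw [algebraMap_smul]
  have hres : ∀ w : N, w ∈ pB • (⊤ : Submodule B N) ↔ w ∈ p • (⊤ : Submodule A N) := fun w => by
    rw [← Submodule.restrictScalars_mem A, Ideal.smul_restrictScalars, Submodule.restrictScalars_top]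
  let mkN : N → N' := fun w => Submodule.Quotient.mk w
  -- the quotient by the submodule generated by the element
  let C := N' ⧸ (Submodule.span B' {mkN n})
  obtain ⟨h₁, hh₁, hN'⟩ := exists_isAwayFree_of_finiteType (R := D) B' N'
  obtain ⟨h₂, hh₂, hC⟩ := exists_isAwayFree_of_finiteType (R := D) B' C
  obtain ⟨h₁, rfl⟩ := Ideal.Quotient.mk_surjective h₁
  obtain ⟨h₂, rfl⟩ := Ideal.Quotient.mk_surjective h₂
  refine ⟨h₁ * h₂, fun h => ?_, fun t _ Q _ _ hat hPQ hmin => ?_⟩
  · rcases ‹p.IsPrime›.mem_or_mem h with h | h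
    · exact hh₁ (Ideal.Quotient.eq_zero_iff_mem.mpr h)
    · exact hh₂ (Ideal.Quotient.eq_zero_iff_mem.mpr h)
  have h1t : h₁ ∉ t := fun h => hat (t.mul_mem_right _ h)
  have h2t : h₂ ∉ t := fun h => hat (t.mul_mem_left _ h)
  have hpt : p ≤ t := by
    rw [P.over_def p, Q.over_def t]
    exact Ideal.comap_mono hPQ
  have htB : ∀ w : N, w ∈ t.map (algebraMap A B) • (⊤ : Submodule B N) ↔ w ∈ t • (⊤ : Submodule A N) := fun w => by
    rw [← Submodule.restrictScalars_mem A, Ideal.smul_restrictScalars, Submodule.restrictScalars_top]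
  let y := FlatCA.toFiberMod t B N n
  have hy0 : ∀ s : B, algebraMap B (t.Fiber B) s • y = 0 ↔ ∃ r ∉ t, r • s • n ∈ t • (⊤ : Submodule A N) := fun s => by
    rw [show algebraMap B (t.Fiber B) s • y = FlatCA.toFiberMod t B N (s • n) by
      rw [map_smul]; exact (Groth.Agent.H02CA.FibreAss.fiber_smul (R := A) t s _).symm]
    rw [Groth.Agent.H02CA.FibreAss.toFiberMod_eq_zero_iff]
    simp only [algebraMap_smul, htB]
  -- the elements of `P` kill the element
  have hPy : ∀ s ∈ P, algebraMap B (t.Fiber B) s • y = 0 := fun s hs => by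
    obtain ⟨r, hr, hrs⟩ := (hn s).mp hs
    have h0 : Ideal.Quotient.mk p r • mkN (s • n) = 0 := by
      rw [hDA]
      show Submodule.Quotient.mk (r • s • n) = 0
      exact (Submodule.Quotient.mk_eq_zero _).mpr ((hres _).mpr hrs)
    obtain ⟨k, hk⟩ := exists_pow_smul_eq_zero_of_isAwayFree hN'
      (fun h => hr (Ideal.Quotient.eq_zero_iff_mem.mp h)) h0
    rw [← map_pow, hDA] at hk
    have hk' := (hres _).mp ((Submodule.Quotient.mk_eq_zero _).mp
      (show Submodule.Quotient.mk (h₁ ^ k • s • n) = 0 from hk))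
    exact (hy0 s).mpr ⟨h₁ ^ k, fun h => h1t (‹t.IsPrime›.mem_of_pow_mem k h),
      Submodule.smul_mono_left hpt hk'⟩
  -- elements killing the element lie in the extension of `P`
  have hyP : ∀ s : B, algebraMap B (t.Fiber B) s • y = 0 →
      algebraMap B (t.Fiber B) s ∈ P.map (algebraMap B (t.Fiber B)) := fun s hs => by
    obtain ⟨r, hr, hrs⟩ := (hy0 s).mp hs
    let π : N' →ₗ[D] C := (Submodule.mkQ (Submodule.span B' {mkN n})).restrictScalars D
    let I : Ideal D := t.map (Ideal.Quotient.mk p)
    have hx : mkN (r • s • n) ∈ I • (⊤ : Submodule D N') := by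
      refine Submodule.smul_induction_on hrs (fun a ha m _ => ?_) fun x z hx hz => ?_
      · show Submodule.Quotient.mk (a • m) ∈ _
        rw [show (Submodule.Quotient.mk (a • m) : N') = a • mkN m from rfl, ← hDA]
        exact Submodule.smul_mem_smul (Ideal.mem_map_of_mem _ ha) Submodule.mem_top
      · exact add_mem hx hz
    have hx0 : π (mkN (r • s • n)) = 0 := by
      show Submodule.Quotient.mk _ = 0
      rw [Submodule.Quotient.mk_eq_zero, show mkN (r • s • n) = Ideal.Quotient.mk pB (algebraMap A B r * s) • mkN n from ?_]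
      · exact Submodule.smul_mem _ _ (Submodule.subset_span rfl)
      · show Submodule.Quotient.mk (r • s • n) = Submodule.Quotient.mk ((algebraMap A B r * s) • n)
        rw [mul_smul, algebraMap_smul]
    obtain ⟨k, hk⟩ := exists_pow_smul_mem_of_isAwayFree π (Submodule.Quotient.mk_surjective _) hC I hx hx0
    -- the kernel consists of multiples of the element
    have hker : ∀ z ∈ I • LinearMap.ker π, ∃ b ∈ t.map (algebraMap A B), z = mkN (b • n) := fun z hz => by
      refine Submodule.smul_induction_on hz (fun a ha m hm => ?_) ?_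
      · obtain ⟨a, ha', rfl⟩ := (Ideal.mem_map_iff_of_surjective _ Ideal.Quotient.mk_surjective).mp ha
        obtain ⟨b, hb⟩ := Submodule.mem_span_singleton.mp ((Submodule.Quotient.mk_eq_zero _).mp
          (show (Submodule.Quotient.mk m : C) = 0 from hm))
        obtain ⟨b, rfl⟩ := Ideal.Quotient.mk_surjective b
        refine ⟨algebraMap A B a * b, Ideal.mul_mem_right _ _ (Ideal.mem_map_of_mem _ ha'), ?_⟩
        rw [hDA, ← hb]
        show a • Submodule.Quotient.mk (b • n) = Submodule.Quotient.mk ((algebraMap A B a * b) • n)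
        rw [mul_smul, algebraMap_smul]
        rfl
      · rintro x z ⟨b, hb, rfl⟩ ⟨c, hc, rfl⟩
        refine ⟨b + c, add_mem hb hc, ?_⟩
        show (Submodule.Quotient.mk (b • n) + Submodule.Quotient.mk (c • n) : N') = Submodule.Quotient.mk _
        rw [← Submodule.Quotient.mk_add, ← add_smul]
    obtain ⟨b, hb, hbe⟩ := hker _ hk
    let w := algebraMap A B (h₂ ^ k * r)
    have hd : w * s - b ∈ P := by
      refine (hn _).mpr ⟨1, p.one_notMem, ?_⟩
      rw [one_smul, ← hres, sub_smul]
      refine (Submodule.Quotient.eq _).mp ?_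
      rw [← map_pow, hDA] at hbe
      refine Eq.trans ?_ hbe
      show Submodule.Quotient.mk ((algebraMap A B (h₂ ^ k * r) * s) • n) = Submodule.Quotient.mk (h₂ ^ k • r • s • n)
      rw [mul_smul, algebraMap_smul, mul_smul]
    have hb0 : algebraMap B (t.Fiber B) b = 0 := Groth.Agent.H02CA.FibreAss.includeRight_mem_map t hb
    have hu : IsUnit (algebraMap B (t.Fiber B) w) := Groth.Agent.H02CA.FibreAss.fiber_unit t fun h =>
      (‹t.IsPrime›.mem_or_mem h).elim (fun h => h2t (‹t.IsPrime›.mem_of_pow_mem k h)) hr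
    refine (Ideal.unit_mul_mem_iff_mem _ hu).mp ?_
    have h' := Ideal.mem_map_of_mem (algebraMap B (t.Fiber B)) hd
    rwa [map_sub, map_mul, hb0, sub_zero] at h'
  -- the annihilator of the element
  let J := Submodule.colon (⊥ : Submodule (t.Fiber B) (FlatCA.fiberMod t B N)) {y}
  have hJ : J = P.map (algebraMap B (t.Fiber B)) := by
    refine le_antisymm (fun z hz => ?_) (Ideal.map_le_iff_le_comap.mpr fun s hs => ?_)
    · obtain ⟨r, hr, s, hs⟩ := Ideal.Fiber.exists_smul_eq_one_tmul t z
      have hs' : algebraMap A (t.Fiber B) r * z = algebraMap B (t.Fiber B) s := (Algebra.smul_def r z).symm.trans hs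
      have hu : IsUnit (algebraMap A (t.Fiber B) r) := by
        have h := Groth.Agent.H02CA.FibreAss.fiber_unit (S := B) t hr
        rwa [AlgHom.commutes] at h
      refine (Ideal.unit_mul_mem_iff_mem _ hu).mp ?_
      rw [hs']
      refine hyP s ?_
      rw [← hs', mul_smul]
      rw [Submodule.mem_colon_singleton, Submodule.mem_bot] at hz
      rw [hz, smul_zero]
    · rw [Ideal.mem_comap, Submodule.mem_colon_singleton, Submodule.mem_bot]
      exact hPy s hs
  have : IsNoetherianRing (t.Fiber B) := Algebra.FiniteType.isNoetherianRing t.ResidueField _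
  have hQp : (FlatCA.fiberIdeal t Q).IsPrime := UnivInjCover.isPrime_fiberIdeal t Q
  have hmem : FlatCA.fiberIdeal t Q ∈ J.minimalPrimes := by
    refine ⟨⟨hQp, hJ ▸ Ideal.map_mono hPQ⟩, fun Z hZ hZQ => ?_⟩
    haveI := hZ.1
    let Q' := Z.comap (algebraMap B (t.Fiber B))
    have hQ'Q : Q' ≤ Q := (Ideal.comap_mono hZQ).trans (ImpurityDescend.comap_fiberIdeal t Q).le
    have hQ't : Q'.LiesOver t := ⟨le_antisymm (fun r hr => by
      show algebraMap B (t.Fiber B) (algebraMap A B r) ∈ Z
      rw [show algebraMap B (t.Fiber B) (algebraMap A B r) = 0 from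
        Groth.Agent.H02CA.FibreAss.includeRight_mem_map t (Ideal.mem_map_of_mem _ hr)]
      exact Z.zero_mem) ((Ideal.comap_mono hQ'Q).trans (Q.over_def t).ge)⟩
    have hPQ' : P ≤ Q' := Ideal.map_le_iff_le_comap.mp (hJ ▸ hZ.2)
    have hQQ : Q' = Q := hmin Q' hQ't hPQ' hQ'Q
    rw [FlatCA.fiberIdeal, ← hQQ]
    exact Ideal.map_comap_le
  exact isAssociatedPrime_iff.mpr ⟨hQp, Submodule.exists_eq_colon_of_mem_minimalPrimes hmem⟩

end Groth.Agent.H7Flat.Chain
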