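import Groth.Agent.H7Flat.AssLocal
import Mathlib

/-!
# Associated points of fibres read off at a local ring
-/

set_option autoImplicit false
set_option linter.style.haveILetI false
set_option backward.isDefEq.respectTransparency false
set_option maxHeartbeats 1000000

universe u

open TensorProduct FlatMor

attribute [local instance] Algebra.TensorProduct.rightAlgebra

namespace Groth.Agent.H7Flat.Chain

/-- Membership in the extension of an ideal times a localized module. -/
theorem exists_smul_of_mem_map_smul {B Bq N M : Type u} [CommRing B] [CommRing Bq] [Algebra B Bq]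
    (T : Submonoid B) [IsLocalization T Bq] [AddCommGroup N] [Module B N] [AddCommGroup M] [Module Bq M]
    [Module B M] [IsScalarTower B Bq M] (π : N →ₗ[B] M) [IsLocalizedModule T π] (J : Ideal B) {m : M}
    (hm : m ∈ J.map (algebraMap B Bq) • (⊤ : Submodule Bq M)) :
    ∃ c ∈ T, ∃ u ∈ J • (⊤ : Submodule B N), c • m = π u := by
  refine Submodule.smul_induction_on hm (fun a ha y _ => ?_) fun x y hx hy => ?_
  · obtain ⟨⟨⟨j, hj⟩, ⟨c, hc⟩⟩, hjc⟩ := (IsLocalization.mem_map_algebraMap_iff T Bq).mp ha
    obtain ⟨⟨n, ⟨d, hd⟩⟩, hnd⟩ := IsLocalizedModule.surj T π y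
    have hnd' : d • y = π n := hnd
    refine ⟨c * d, T.mul_mem hc hd, j • n, Submodule.smul_mem_smul hj Submodule.mem_top, ?_⟩
    rw [map_smul, ← hnd', ← algebraMap_smul Bq j, ← hjc, ← algebraMap_smul Bq d y,
      ← algebraMap_smul Bq (c * d), map_mul, smul_smul, smul_smul]
    congr 1
    ring
  · obtain ⟨c, hc, u, hu, hcu⟩ := hx
    obtain ⟨d, hd, w, hw, hdw⟩ := hy
    refine ⟨c * d, T.mul_mem hc hd, d • u + c • w,
      add_mem (Submodule.smul_mem _ d hu) (Submodule.smul_mem _ c hw), ?_⟩
    rw [smul_add, map_add, map_smul, map_smul, ← hcu, ← hdw, smul_smul, smul_smul, mul_comm d c]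

/-- The local ring of a fibre of a finite type algebra is Noetherian. -/
theorem isNoetherianRing_stalk_fibre {A B Bq : Type u} [CommRing A] [CommRing B] [CommRing Bq] [Algebra A B]
    [Algebra B Bq] [Algebra A Bq] [IsScalarTower A B Bq] [Algebra.FiniteType A B] (q : Ideal B) [q.IsPrime]
    [IsLocalization q.primeCompl Bq] (p : Ideal A) [p.IsPrime] [q.LiesOver p] :
    IsNoetherianRing (Bq ⧸ p.map (algebraMap A Bq)) := by
  let I := p.map (algebraMap A Bq)
  let T := Bq ⧸ I
  have hker : p ≤ RingHom.ker (algebraMap A T) := fun r hr => by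
    rw [RingHom.mem_ker, IsScalarTower.algebraMap_apply A Bq T]
    exact Ideal.Quotient.eq_zero_iff_mem.mpr (Ideal.mem_map_of_mem _ hr)
  have hunit : p.primeCompl ≤ (IsUnit.submonoid T).comap (algebraMap A T) := fun r hr => by
    show IsUnit (algebraMap A T r)
    rw [IsScalarTower.algebraMap_apply A Bq T, IsScalarTower.algebraMap_apply A B Bq]
    exact (IsLocalization.map_units Bq
      (⟨algebraMap A B r, fun h => hr (by rw [q.over_def p]; exact h)⟩ : q.primeCompl)).map _
  let θ : p.Fiber B →ₐ[A] T := Algebra.TensorProduct.lift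
    (Ideal.ResidueField.liftₐ p (Algebra.ofId A T) hker hunit)
    (IsScalarTower.toAlgHom A B T) fun _ _ => mul_comm _ _
  haveI : IsNoetherianRing (p.Fiber B) := Algebra.FiniteType.isNoetherianRing p.ResidueField _
  refine (isNoetherianRing_iff_ideal_fg T).mpr fun K => ?_
  have hK : K = (K.comap θ.toRingHom).map θ.toRingHom := by
    refine le_antisymm (fun t ht => ?_) Ideal.map_comap_le
    obtain ⟨x, rfl⟩ := Ideal.Quotient.mk_surjective t
    obtain ⟨⟨b, c⟩, hbc⟩ := IsLocalization.surj q.primeCompl x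
    have hu : IsUnit (algebraMap B T c) := (IsLocalization.map_units Bq c).map (Ideal.Quotient.mk I)
    have hb : algebraMap B T b = Ideal.Quotient.mk I x * algebraMap B T c :=
      (congrArg (Ideal.Quotient.mk I) hbc).symm.trans (map_mul _ _ _)
    rw [← Ideal.mul_unit_mem_iff_mem _ hu, ← hb]
    have hθ : θ.toRingHom ((1 : p.ResidueField) ⊗ₜ[A] b) = algebraMap B T b := by
      show θ _ = _
      rw [Algebra.TensorProduct.lift_tmul, map_one, one_mul]
      rfl
    rw [← hθ]
    refine Ideal.mem_map_of_mem _ ?_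
    rw [Ideal.mem_comap, hθ, hb]
    exact K.mul_mem_right _ ht
  rw [hK]
  exact Ideal.FG.map (IsNoetherian.noetherian (K.comap θ.toRingHom)) _

/-- An element whose annihilator up to multiples outside a prime is the prime gives an associated point. -/
theorem exists_assCond {A B N : Type u} [CommRing A] [CommRing B] [Algebra A B] [Algebra.FiniteType A B]
    [AddCommGroup N] [Module B N] [Module A N] [IsScalarTower A B N] (q : Ideal B) [q.IsPrime]
    (p : Ideal A) [p.IsPrime] [q.LiesOver p] (n : N)
    (hkey : ∀ s : B, s ∈ q ↔ ∃ c ∉ q, c • s • n ∈ p • (⊤ : Submodule A N)) : AssLocal.AssCond N p q := by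
  classical
  have : IsNoetherianRing (p.Fiber B) := Algebra.FiniteType.isNoetherianRing p.ResidueField _
  have hres : ∀ w : N, w ∈ p.map (algebraMap A B) • (⊤ : Submodule B N) ↔ w ∈ p • (⊤ : Submodule A N) :=
    fun w => by
      rw [← Submodule.restrictScalars_mem A, Ideal.smul_restrictScalars, Submodule.restrictScalars_top]
  have hzero : ∀ w : N, FlatCA.toFiberMod p B N w = 0 ↔ ∃ r ∉ p, r • w ∈ p • (⊤ : Submodule A N) := fun w => by
    rw [Groth.Agent.H02CA.FibreAss.toFiberMod_eq_zero_iff]
    simp only [algebraMap_smul, hres]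
  -- finitely many generators of the ideal in the fibre
  obtain ⟨F, hFq, hF⟩ : ∃ F : Finset B, (∀ s ∈ F, s ∈ q) ∧
      FlatCA.fiberIdeal p q ≤ Ideal.span ((algebraMap B (p.Fiber B)) '' (F : Set B)) := by
    obtain ⟨F', hF', hFspan⟩ := (Submodule.fg_span_iff_fg_span_finset_subset
      ((algebraMap B (p.Fiber B)) '' (q : Set B))).mp (IsNoetherian.noetherian (FlatCA.fiberIdeal p q))
    obtain ⟨F, hFsub, rfl⟩ := Finset.subset_set_image_iff.mp hF'
    refine ⟨F, fun s hs => hFsub hs, le_of_eq ?_⟩
    rw [Finset.coe_image] at hFspan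
    exact hFspan
  choose c hc hcs using fun s : F => (hkey s).mp (hFq s s.2)
  let C := ∏ s, c s
  have hC : C ∉ q := fun h => by
    obtain ⟨s, -, hs⟩ := Ideal.IsPrime.prod_mem_iff.mp h
    exact hc s hs
  refine ⟨C • n, fun s => ⟨fun hs => ?_, fun ⟨r, hr, h⟩ => ?_⟩⟩
  · rw [← hzero]
    have hF0 : ∀ t ∈ F, FlatCA.toFiberMod p B N (t • C • n) = 0 := fun t ht => by
      obtain ⟨e, he⟩ : c ⟨t, ht⟩ ∣ C := Finset.dvd_prod_of_mem c (Finset.mem_univ _)
      refine (hzero _).mpr ⟨1, p.one_notMem, ?_⟩
      rw [one_smul, he, mul_comm, mul_smul, smul_comm, smul_comm t, ← hres]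
      exact Submodule.smul_mem _ e ((hres _).mpr (hcs ⟨t, ht⟩))
    have hann : Ideal.span ((algebraMap B (p.Fiber B)) '' (F : Set B)) ≤
        (Submodule.span (p.Fiber B) {FlatCA.toFiberMod p B N (C • n)}).annihilator := by
      refine Ideal.span_le.mpr ?_
      rintro _ ⟨t, ht, rfl⟩
      rw [SetLike.mem_coe, Submodule.mem_annihilator_span_singleton]
      refine (Groth.Agent.H02CA.FibreAss.fiber_smul (R := A) p t _).symm.trans ?_
      rw [← map_smul]
      exact hF0 t ht
    have hs' := hann (hF (Ideal.mem_map_of_mem _ hs))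
    rw [Submodule.mem_annihilator_span_singleton] at hs'
    rw [map_smul]
    exact (Groth.Agent.H02CA.FibreAss.fiber_smul (R := A) p s _).trans hs'
  · refine (hkey s).mpr ⟨algebraMap A B r * C, fun h' => ?_, ?_⟩
    · exact (Ideal.IsPrime.mem_or_mem ‹_› h').elim (fun h'' => hr (by rw [q.over_def p]; exact h'')) hC
    · rw [mul_smul, algebraMap_smul, smul_comm C]
      exact h

/-- Associated points of fibres read off at the local ring of the point. -/
theorem maximalIdeal_mem_ass_quot_iff {A B Bq N M : Type u} [CommRing A] [CommRing B] [CommRing Bq]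
    [IsLocalRing Bq] [Algebra A B] [Algebra B Bq] [Algebra A Bq] [IsScalarTower A B Bq]
    [Algebra.FiniteType A B] (q : Ideal B) [q.IsPrime] [IsLocalization q.primeCompl Bq]
    [AddCommGroup N] [Module B N] [Module A N] [IsScalarTower A B N] [AddCommGroup M] [Module Bq M]
    [Module B M] [IsScalarTower B Bq M] (π : N →ₗ[B] M) [IsLocalizedModule q.primeCompl π]
    (p : Ideal A) [p.IsPrime] [q.LiesOver p] :
    IsAssociatedPrime (IsLocalRing.maximalIdeal Bq) (M ⧸ (p.map (algebraMap A Bq) • (⊤ : Submodule Bq M))) ↔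
      FlatCA.fiberIdeal p q ∈ associatedPrimes (p.Fiber B) (FlatCA.fiberMod p B N) := by
  classical
  rw [AssLocal.assoc_iff]
  let I := p.map (algebraMap A Bq)
  let Q := M ⧸ (I • (⊤ : Submodule Bq M))
  have hI : (p.map (algebraMap A B)).map (algebraMap B Bq) = I := by
    rw [Ideal.map_map, ← IsScalarTower.algebraMap_eq]
  have hres : ∀ w : N, w ∈ p.map (algebraMap A B) • (⊤ : Submodule B N) ↔ w ∈ p • (⊤ : Submodule A N) :=
    fun w => by
      rw [← Submodule.restrictScalars_mem A, Ideal.smul_restrictScalars, Submodule.restrictScalars_top]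
  -- an element of `N` vanishes in `Q` if a multiple outside `q` lies in `pN`
  have hzero : ∀ w : N, π w ∈ I • (⊤ : Submodule Bq M) ↔ ∃ c ∉ q, c • w ∈ p • (⊤ : Submodule A N) := fun w => by
    constructor
    · intro h
      rw [← hI] at h
      obtain ⟨c, hc, u, hu, hcu⟩ := exists_smul_of_mem_map_smul q.primeCompl π _ h
      obtain ⟨⟨d, hd⟩, hd'⟩ :=
        (IsLocalizedModule.eq_iff_exists q.primeCompl π).mp ((map_smul π c w).trans hcu)
      refine ⟨d * c, fun h => (Ideal.IsPrime.mem_or_mem ‹_› h).elim hd hc, ?_⟩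
      have hd'' : d • c • w = d • u := hd'
      rw [mul_smul, hd'', ← hres]
      exact Submodule.smul_mem _ d hu
    · rintro ⟨c, hc, hcw⟩
      have hu : IsUnit (algebraMap B Bq c) := IsLocalization.map_units Bq (⟨c, hc⟩ : q.primeCompl)
      obtain ⟨v, hv⟩ := hu
      have h1 : π (c • w) ∈ I • (⊤ : Submodule Bq M) := by
        rw [← hres] at hcw
        rw [← hI]
        refine Submodule.smul_induction_on hcw (fun a ha y _ => ?_) fun x y hx hy => ?_
        · rw [map_smul, ← algebraMap_smul Bq a]
          exact Submodule.smul_mem_smul (Ideal.mem_map_of_mem _ ha) Submodule.mem_top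
        · rw [map_add]; exact add_mem hx hy
      rw [map_smul, ← algebraMap_smul Bq c, ← hv] at h1
      have h2 := Submodule.smul_mem _ ((v⁻¹ : Bqˣ) : Bq) h1
      rwa [← mul_smul, Units.inv_mul, one_smul] at h2
  have hmax : ∀ (b : B) (c : q.primeCompl) (x : Bq), x * algebraMap B Bq c = algebraMap B Bq b →
      (x ∈ IsLocalRing.maximalIdeal Bq ↔ b ∈ q) := fun b c x hx => by
    rw [← IsLocalization.AtPrime.to_map_mem_maximal_iff Bq q b, ← hx,
      Ideal.mul_unit_mem_iff_mem _ (IsLocalization.map_units Bq c)]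
  constructor
  · rintro ⟨-, y, hy⟩
    -- improve `y` to an element with annihilator the maximal ideal
    obtain ⟨y, hy⟩ : ∃ y : Q, ∀ x : Bq, x • y = 0 ↔ x ∈ IsLocalRing.maximalIdeal Bq := by
      haveI := isNoetherianRing_stalk_fibre (Bq := Bq) q p
      have hle : IsLocalRing.maximalIdeal Bq ≤ (Submodule.colon (⊥ : Submodule Bq Q) {y}).radical := hy.le
      have hIle : I ≤ Submodule.colon (⊥ : Submodule Bq Q) {y} := fun x hx => by
        rw [Submodule.mem_colon_singleton, Submodule.mem_bot]
        obtain ⟨m, rfl⟩ := Submodule.Quotient.mk_surjective _ y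
        rw [← Submodule.Quotient.mk_smul, Submodule.Quotient.mk_eq_zero]
        exact Submodule.smul_mem_smul hx Submodule.mem_top
      let K := Submodule.colon (⊥ : Submodule Bq Q) {y}
      have hle' : (IsLocalRing.maximalIdeal Bq).map (Ideal.Quotient.mk I) ≤ (K.map (Ideal.Quotient.mk I)).radical :=
        (Ideal.map_mono hle).trans (Ideal.map_radical_le _)
      obtain ⟨n, hn⟩ := Ideal.exists_pow_le_of_le_radical_of_fg hle' (IsNoetherian.noetherian _)
      have hn' : IsLocalRing.maximalIdeal Bq ^ n ≤ K := fun x hx => by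
        have h1 := hn (by rw [← Ideal.map_pow]; exact Ideal.mem_map_of_mem _ hx)
        rw [← Ideal.mem_comap, Ideal.comap_map_of_surjective _ Ideal.Quotient.mk_surjective,
          ← RingHom.ker_eq_comap_bot, Ideal.mk_ker, sup_eq_left.mpr hIle] at h1
        exact h1
      have hK : ¬ IsLocalRing.maximalIdeal Bq ^ 0 ≤ K := fun h => by
        have : (⊤ : Ideal Bq) ≤ K.radical := le_trans (by simpa using h) Ideal.le_radical
        exact (IsLocalRing.maximalIdeal.isMaximal Bq).ne_top (hy.trans (top_le_iff.mp this))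
      have hex : ∃ j, IsLocalRing.maximalIdeal Bq ^ j ≤ K := ⟨n, hn'⟩
      obtain ⟨j, hj⟩ : ∃ j, Nat.find hex = j + 1 :=
        Nat.exists_eq_succ_of_ne_zero fun h => hK (h ▸ Nat.find_spec hex)
      obtain ⟨x₀, hx₀, hx₀K⟩ := SetLike.not_le_iff_exists.mp (Nat.find_min hex (by omega : j < Nat.find hex))
      refine ⟨x₀ • y, fun x => ⟨fun hx => ?_, fun hx => ?_⟩⟩
      · by_contra hxm
        obtain ⟨v, rfl⟩ := IsLocalRing.notMem_maximalIdeal.mp hxm
        apply hx₀K
        rw [Submodule.mem_colon_singleton, Submodule.mem_bot]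
        simpa [smul_smul] using congrArg (fun z => ((v⁻¹ : Bqˣ) : Bq) • z) hx
      · have h2 : x * x₀ ∈ K := Nat.find_spec hex (by
          rw [hj, pow_succ']; exact Ideal.mul_mem_mul hx hx₀)
        rw [Submodule.mem_colon_singleton, Submodule.mem_bot] at h2
        rwa [smul_smul]
    obtain ⟨m, rfl⟩ := Submodule.Quotient.mk_surjective _ y
    obtain ⟨⟨n, d⟩, hnd⟩ := IsLocalizedModule.surj q.primeCompl π m
    have hnd' : (d : B) • m = π n := hnd
    obtain ⟨v, hv⟩ := IsLocalization.map_units Bq d
    have hkey : ∀ s : B, s ∈ q ↔ ∃ c ∉ q, c • s • n ∈ p • (⊤ : Submodule A N) := fun s => by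
      rw [← hzero, map_smul, ← hnd', ← algebraMap_smul Bq s, ← algebraMap_smul Bq (d : B) m, ← hv,
        ← mul_smul, ← Submodule.Quotient.mk_eq_zero (I • (⊤ : Submodule Bq M)), Submodule.Quotient.mk_smul, hy,
        Ideal.mul_unit_mem_iff_mem _ v.isUnit, IsLocalization.AtPrime.to_map_mem_maximal_iff Bq q]
    -- clear the denominators outside `q` for finitely many generators
    exact exists_assCond q p n hkey
  · rintro ⟨n, hn⟩
    refine ⟨inferInstance, Submodule.Quotient.mk (π n), ?_⟩
    have hn1 : ∀ s c : B, c ∉ q → c • s • n ∈ p • (⊤ : Submodule A N) → s ∈ q := fun s c hc h => by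
      by_contra hs
      exact (‹q.IsPrime›.mem_or_mem ((hn (c * s)).mpr ⟨1, p.one_notMem, by rwa [one_smul, mul_smul]⟩)).elim hc hs
    have hcol : Submodule.colon (⊥ : Submodule Bq Q) {(Submodule.Quotient.mk (π n) : Q)} =
        IsLocalRing.maximalIdeal Bq := by
      refine Ideal.ext fun x => ?_
      obtain ⟨⟨b, c⟩, hbc⟩ := IsLocalization.surj q.primeCompl x
      simp only at hbc
      rw [hmax b c x hbc, Submodule.mem_colon_singleton, Submodule.mem_bot, ← Submodule.Quotient.mk_smul,
        Submodule.Quotient.mk_eq_zero]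
      obtain ⟨v, hv⟩ := IsLocalization.map_units Bq c
      constructor
      · intro h
        have h2 := Submodule.smul_mem _ (v : Bq) h
        rw [← mul_smul, mul_comm, hv, hbc, algebraMap_smul, ← map_smul, hzero] at h2
        obtain ⟨d, hd, hd'⟩ := h2
        exact hn1 b d hd hd'
      · intro hb
        obtain ⟨r, hr, hr'⟩ := (hn b).mp hb
        have h2 : π (b • n) ∈ I • (⊤ : Submodule Bq M) :=
          (hzero _).mpr ⟨algebraMap A B r, fun h => hr (by rw [q.over_def p]; exact h),
            by rw [algebraMap_smul]; exact hr'⟩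
        rw [map_smul, ← algebraMap_smul Bq b, ← hbc, ← hv, mul_comm, mul_smul] at h2
        have h3 := Submodule.smul_mem _ ((v⁻¹ : Bqˣ) : Bq) h2
        rwa [← mul_smul, Units.inv_mul, one_smul] at h3
    rw [hcol]
    exact (Ideal.IsPrime.radical inferInstance).symm

end Groth.Agent.H7Flat.Chain
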